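import Cfsg.Agent.H36.AutEngineBase
import Cfsg.Prelude.Def_KGroupFacts

/-!
Classification of the automorphisms of a certified permutation group by the images of three elements:
`x` of prime order with a cyclic Sylow subgroup, `w` normalising its subgroup, and `z` centralising `w`.
-/

set_option autoImplicit false

open Equiv Cfsg.Agent.H16

namespace Cfsg.Agent.H36.AutEngine

/-- The possible image of `z` and what is known about it: `[0, r]` refutes by relation `r`,
`[1, c, d]` gives a conjugating element and which triple. -/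
structure Branch where
  /-- the image of `w` -/
  wi : ℕ
  /-- the candidates for `z` -/
  trans : TransCert
  /-- the verdicts -/
  res : List (List ℕ)

/-- One possible image of `x`. -/
structure Case where
  /-- the exponent -/
  e : ℕ
  /-- the image of `x` -/
  xi : ℕ
  /-- the candidates for `w` -/
  trans : TransCert
  /-- for each candidate: a conjugating element and a branch -/
  norm : List (List ℕ)
  /-- the branches -/
  branches : List Branch

/-- The data of a classification. -/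
structure Cert where
  /-- the prime -/
  p : ℕ
  /-- the element of order `p` -/
  xi : ℕ
  /-- a normalising element -/
  wi : ℕ
  /-- a third element -/
  zi : ℕ
  /-- `w x w⁻¹ = x ^ r` -/
  r : ℕ
  /-- an element with `d x d⁻¹ = x ^ s` -/
  di : ℕ
  /-- the exponent for `d` -/
  s : ℕ
  /-- the second triple -/
  other : List ℕ
  /-- relations in `x`, `w`, `z` (letters `0`, `1`, `2`) -/
  rels : List (List ℕ)
  /-- the generators as words in the three letters -/
  genWords : List (List ℕ)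
  /-- the cases -/
  cases : List Case

namespace Ctx

variable (D : Ctx) (Ls : List Level)

/-- A product of entries applied to a point. -/
noncomputable def evalEl (ws : List ℕ) (x : ℕ) : ℕ :=
  List.rec (motive := fun _ => ℕ) x (fun c _ ih => forceNat ih fun y => D.ap (D.el c) y) ws

/-- Two products agree on the base. -/
noncomputable def eqOn (u v : List ℕ) : Bool :=
  (u.all fun a => Nat.blt a D.ns) && (v.all fun a => Nat.blt a D.ns) &&
    Ls.all fun L => Nat.beq (D.evalEl u L.b) (D.evalEl v L.b)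

/-- Substitute three entries into a word. -/
noncomputable def subst (t : List ℕ) (w : List ℕ) : List ℕ := w.map fun a => getN t a

/-- A `Case` is in order. -/
noncomputable def caseOk (A : Cert) (C : Case) : Bool :=
  D.eqOn Ls [C.xi] (List.replicate C.e A.xi) && Nat.beq C.trans.g C.xi &&
  D.eqOn Ls [C.trans.h] (List.replicate A.r C.xi) && Nat.beq C.norm.length C.trans.sols.length &&
  allFrom (fun i => forceNat (getN (getW C.norm i) 0) fun c => forceNat (getN (getW C.norm i) 1) fun k =>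
    Nat.blt k C.branches.length &&
      match C.branches[k]? with
      | none => false
      | some B => D.eqOn Ls [c, C.xi] [C.xi, c] && D.eqOn Ls [c, getN C.trans.sols i] [B.wi, c]) C.trans.sols.length 0

/-- A `Branch` is in order, with at most `top` as the second-triple flag. -/
noncomputable def branchOk (A : Cert) (top : ℕ) (C : Case) (B : Branch) : Bool :=
  Nat.beq B.trans.g B.wi && Nat.beq B.trans.h B.wi && Nat.beq B.res.length B.trans.sols.length &&
  allFrom (fun i => forceNat (getN B.trans.sols i) fun zi =>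
    bif Nat.beq (getN (getW B.res i) 0) 0 then
      forceNat (getN (getW B.res i) 1) fun r => Nat.blt r A.rels.length &&
        !(D.eqOn Ls (subst [C.xi, B.wi, zi] (getW A.rels r)) [])
    else forceNat (getN (getW B.res i) 1) fun c => forceNat (getN (getW B.res i) 2) fun d =>
      Nat.ble d top &&
        (let t := bif Nat.beq d 0 then [A.xi, A.wi, A.zi] else A.other
         D.eqOn Ls [c, getN t 0] [C.xi, c] && D.eqOn Ls [c, getN t 1] [B.wi, c] && D.eqOn Ls [c, getN t 2] [zi, c]))
    B.trans.sols.length 0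

/-- Relations, generation and exponents. -/
noncomputable def certOk (A : Cert) : Bool :=
  A.rels.all (fun w => (w.all fun a => Nat.blt a 3) && D.eqOn Ls (subst [A.xi, A.wi, A.zi] w) []) &&
  D.eqOn Ls [A.wi, A.xi] (List.replicate A.r A.xi ++ [A.wi]) && D.eqOn Ls [A.zi, A.wi] [A.wi, A.zi] &&
  D.eqOn Ls [A.di, A.xi] (List.replicate A.s A.xi ++ [A.di]) &&
  D.eqOn Ls (List.replicate A.p A.xi) [] && !(D.eqOn Ls [A.xi] []) && Nat.blt A.xi D.ns &&
  Nat.ble D.gens.length A.genWords.length && Nat.ble D.gens.length D.ns &&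
  allFrom (fun k => (getW A.genWords k).all (fun a => Nat.blt a 3) &&
    D.eqOn Ls [k] (subst [A.xi, A.wi, A.zi] (getW A.genWords k))) D.gens.length 0 &&
  allFrom (fun k => Nat.beq k 0 || A.cases.any fun C => (List.range A.p).any fun j =>
    Nat.beq (Nat.mod (Nat.mul C.e (Nat.pow A.s j)) A.p) k) A.p 0

end Ctx

/-- All tests for a certified group. -/
structure Setting (D : Ctx) (Ls : List Level) (σ : Fin D.gens.length → Perm (Fin D.n)) : Prop where
  rep : ∀ c, D.Rep (σ c) (getN D.gens c)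
  slp : ∀ k, k < D.ns → D.slpOk k = true
  levels : D.levelsOk Ls [] = true
  card : D.prodCnt Ls = Nat.card (Subgroup.closure (Set.range σ))

/-- A transporter list is complete. -/
structure TransOk (D : Ctx) (Ls : List Level) (C : TransCert) : Prop where
  shape : D.transShapeOk Ls C = true
  cand : ∀ m, m < D.n ^ C.roots.length → D.candOk Ls C m = true

/-- All tests of a classification. -/
structure CertOk (D : Ctx) (Ls : List Level) (A : Cert) (top : ℕ) : Prop where
  main : D.certOk Ls A = true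
  prime : A.p.Prime
  cases : ∀ C ∈ A.cases, D.caseOk Ls A C = true ∧ TransOk D Ls C.trans ∧
    ∀ B ∈ C.branches, D.branchOk Ls A top C B = true ∧ TransOk D Ls B.trans

noncomputable section

/-- The group. -/
def grpOf {D : Ctx} (σ : Fin D.gens.length → Perm (Fin D.n)) : Subgroup (Perm (Fin D.n)) :=
  Subgroup.closure (Set.range σ)

variable {D : Ctx} {Ls : List Level} {σ : Fin D.gens.length → Perm (Fin D.n)} (hS : Setting D Ls σ)

include hS

theorem el_exists {k : ℕ} (hk : k < D.ns) : ∃ g : grpOf σ, D.Rep g (D.el k) := by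
  obtain ⟨g, hg, hr⟩ := Ctx.el_mem σ hS.rep hS.slp k hk
  exact ⟨⟨g, hg⟩, hr⟩

/-- An entry as an element. -/
def elG (k : ℕ) : grpOf σ := if h : k < D.ns then (el_exists hS h).choose else 1

theorem elG_rep {k : ℕ} (hk : k < D.ns) : D.Rep (elG hS k) (D.el k) := by
  rw [elG, dif_pos hk]
  exact (el_exists hS hk).choose_spec

/-- A product of entries. -/
def prodG (u : List ℕ) : grpOf σ := (u.map (elG hS)).prod

theorem evalEl_spec : ∀ {u : List ℕ}, (∀ a ∈ u, a < D.ns) → ∀ x : Fin D.n,
    D.evalEl u x = (((prodG hS u : grpOf σ) : Perm (Fin D.n)) x : Fin D.n)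
  | [], _, x => rfl
  | a :: u, h, x => by
    show forceNat (D.evalEl u x) (fun y => D.ap (D.el a) y) = _
    rw [forceNat_eq, evalEl_spec (fun b hb => h b (List.mem_cons_of_mem _ hb))]
    simp only [prodG, List.map_cons, List.prod_cons]
    rw [Subgroup.coe_mul, Perm.mul_apply, elG_rep hS (h a List.mem_cons_self)]

theorem base_lt : ∀ L ∈ Ls, L.b < D.n := by
  have key : ∀ (l : List Level) (prev : List ℕ), D.levelsOk l prev = true → ∀ L ∈ l, L.b < D.n := by
    intro l
    induction l with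
    | nil => intro _ _ L hL; exact absurd hL List.not_mem_nil
    | cons a l ih =>
      intro prev h L hL
      change (D.levelOk prev a && D.levelsOk l (a.b :: prev)) = true at h
      rw [Bool.and_eq_true] at h
      rcases List.mem_cons.1 hL with rfl | hL
      · have h1 := h.1
        simp only [Ctx.levelOk, Ctx.levelGensOk, Bool.and_eq_true, Nat.blt_eq] at h1
        exact h1.1.1.2
      · exact ih _ h.2 L hL
  exact key Ls [] hS.levels

theorem grp_ext {a b : grpOf σ} (h : ∀ L ∈ Ls, ∀ hb : L.b < D.n, (a : Perm (Fin D.n)) ⟨L.b, hb⟩ = (b : Perm (Fin D.n)) ⟨L.b, hb⟩) :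
    a = b := Subtype.ext <| Ctx.eq_of_base σ hS.rep hS.slp hS.levels hS.card a.2 b.2 fun x hx => by
  obtain ⟨L, hL, e⟩ := List.mem_map.1 hx
  have := h L hL (e ▸ x.2)
  rwa [show (⟨L.b, e ▸ x.2⟩ : Fin D.n) = x from Fin.ext e] at this

theorem eqOn_eq {u v : List ℕ} (h : D.eqOn Ls u v = true) : prodG hS u = prodG hS v := by
  simp only [Ctx.eqOn, Bool.and_eq_true, List.all_eq_true, Nat.blt_eq] at h
  refine grp_ext hS fun L hL hb => Fin.ext ?_
  rw [← evalEl_spec hS h.1.1 ⟨L.b, hb⟩, ← evalEl_spec hS h.1.2 ⟨L.b, hb⟩]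
  exact Nat.eq_of_beq_eq_true (h.2 L hL)

theorem eqOn_of_eq {u v : List ℕ} (hu : ∀ a ∈ u, a < D.ns) (hv : ∀ a ∈ v, a < D.ns)
    (h : prodG hS u = prodG hS v) : D.eqOn Ls u v = true := by
  simp only [Ctx.eqOn, Bool.and_eq_true, List.all_eq_true, Nat.blt_eq]
  refine ⟨⟨hu, hv⟩, fun L hL => ?_⟩
  rw [evalEl_spec hS hu ⟨L.b, base_lt hS L hL⟩, evalEl_spec hS hv ⟨L.b, base_lt hS L hL⟩, h]
  exact Nat.beq_refl _

theorem prodG_single (a : ℕ) : prodG hS [a] = elG hS a := by simp [prodG]

theorem prodG_pair (a b : ℕ) : prodG hS [a, b] = elG hS a * elG hS b := by simp [prodG]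

theorem prodG_replicate (m a : ℕ) : prodG hS (List.replicate m a) = elG hS a ^ m := by
  simp [prodG]

theorem eqOn_conj {c a b : ℕ} (h : D.eqOn Ls [c, a] [b, c] = true) :
    elG hS c * elG hS a * (elG hS c)⁻¹ = elG hS b := by
  have := eqOn_eq hS h
  rw [prodG_pair, prodG_pair] at this
  rw [this, mul_inv_cancel_right]

omit hS in
theorem digit (n : ℕ) : ∀ (l : List ℕ), (∀ a ∈ l, a < n) →
    (l.foldr (fun a acc => a + n * acc) 0 < n ^ l.length) ∧
      ∀ r, r < l.length → (l.foldr (fun a acc => a + n * acc) 0 / n ^ r) % n = getN l r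
  | [], _ => ⟨by simp, fun r hr => absurd hr (Nat.not_lt_zero r)⟩
  | a :: l, h => by
    obtain ⟨h1, h2⟩ := digit n l fun b hb => h b (List.mem_cons_of_mem _ hb)
    have ha := h a List.mem_cons_self
    have hn : 0 < n := by omega
    refine ⟨?_, fun r hr => ?_⟩
    · simp only [List.foldr_cons, List.length_cons, pow_succ']
      calc a + n * List.foldr (fun a acc => a + n * acc) 0 l
          < n * (List.foldr (fun a acc => a + n * acc) 0 l + 1) := by rw [Nat.mul_add, Nat.mul_one]; omega
        _ ≤ n * n ^ l.length := Nat.mul_le_mul_left _ h1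
    · rw [getN_eq_getD]
      rcases r with _ | r
      · simp [Nat.add_mul_mod_self_left, Nat.mod_eq_of_lt ha]
      · simp only [List.foldr_cons, List.getD_cons_succ, ← getN_eq_getD]
        rw [pow_succ', ← Nat.div_div_eq_div_mul, Nat.add_mul_div_left _ _ hn, Nat.div_eq_of_lt ha, zero_add]
        exact h2 r (by simpa using hr)

/-- The elements conjugating `g` to `h` are listed. -/
theorem trans_complete {C : TransCert} (hC : TransOk D Ls C) {c : grpOf σ}
    (hc : c * elG hS C.g * c⁻¹ = elG hS C.h) : ∃ i, i < C.sols.length ∧ c = elG hS (getN C.sols i) := by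
  have hsh := hC.shape
  simp only [Ctx.transShapeOk, Bool.and_eq_true, List.all_eq_true, Nat.blt_eq] at hsh
  obtain ⟨⟨⟨⟨⟨hg, hh⟩, hsols⟩, hroots⟩, hlen⟩, hpow⟩ := hsh
  set img : List ℕ := C.roots.map fun r => if h : r < D.n then (((c : Perm (Fin D.n)) ⟨r, h⟩ : Fin D.n) : ℕ) else 0 with himg
  have himglt : ∀ a ∈ img, a < D.n := by
    intro a ha
    obtain ⟨r, hr, rfl⟩ := List.mem_map.1 ha
    rw [dif_pos (hroots r hr)]
    exact Fin.isLt _
  obtain ⟨hm, hdig⟩ := digit D.n img himglt
  set m := img.foldr (fun a acc => a + D.n * acc) 0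
  have hcand := hC.cand m (by simpa [himg] using hm)
  have htuple : D.tuple C m = Ls.map fun L => if h : L.b < D.n then (((c : Perm (Fin D.n)) ⟨L.b, h⟩ : Fin D.n) : ℕ) else 0 := by
    have hlen' : C.pows.length = Ls.length := Nat.eq_of_beq_eq_true hlen
    refine List.ext_getElem (by simp [Ctx.tuple, hlen']) fun i h1 h2 => ?_
    simp only [List.length_map] at h2
    have hp := allFrom_spec hpow i (Nat.zero_le _) (by omega)
    simp only [forceNat_eq, Bool.and_eq_true, Nat.blt_eq] at hp
    obtain ⟨hr, hb⟩ := hp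
    have hgw : getW C.pows i = C.pows[i]'(by omega) := getW_eq _ _ (by omega)
    have hgb : getN (Ls.map Level.b) i = (Ls[i]).b := by
      rw [getN_eq_getD, List.getD_eq_getElem _ _ (by simpa using h2), List.getElem_map]
    rw [hgw] at hr hb
    rw [hgb] at hb
    simp only [Ctx.tuple, List.getElem_map]
    set r := getN (C.pows[i]) 0
    set e := getN (C.pows[i]) 1
    have hroot : getN C.roots r < D.n := hroots _ (getN_mem _ hr)
    have hd : Nat.mod (Nat.div m (Nat.pow D.n r)) D.n = (((c : Perm (Fin D.n)) ⟨_, hroot⟩ : Fin D.n) : ℕ) := by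
      refine (hdig r (by simpa [himg] using hr)).trans ?_
      rw [himg, getN_eq_getD, List.getD_eq_getElem _ _ (by simpa using hr), List.getElem_map]
      have e' : C.roots[r] = getN C.roots r := by rw [getN_eq_getD, List.getD_eq_getElem _ _ hr]
      rw [dif_pos (e' ▸ hroot)]
      simp only [e']
    have hb' := Nat.eq_of_beq_eq_true hb
    rw [Ctx.iterPt_spec (g := ((elG hS C.g : grpOf σ) : Perm (Fin D.n))) (fun x => (elG_rep hS hg x).symm) e ⟨_, hroot⟩] at hb'
    have hbl : (Ls[i]).b < D.n := hb' ▸ Fin.isLt _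
    rw [dif_pos hbl, hd, Ctx.iterPt_spec (g := ((elG hS C.h : grpOf σ) : Perm (Fin D.n))) (fun x => (elG_rep hS hh x).symm) e]
    rw [← hc, ← SubgroupClass.coe_pow, conj_pow, Subgroup.coe_mul, Subgroup.coe_mul, Perm.mul_apply, Perm.mul_apply,
      Subgroup.coe_inv, Perm.coe_inv, Equiv.symm_apply_apply, SubgroupClass.coe_pow]
    refine congrArg (fun q : Fin D.n => (((c : Perm (Fin D.n)) q : Fin D.n) : ℕ)) (Fin.ext hb')
  have hsift : D.sift Ls (D.tuple C m) = true := by
    rw [htuple]
    exact Ctx.sift_complete σ hS.rep hS.slp hS.levels hS.card c.2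
      (fun x => if h : x < D.n then (((c : Perm (Fin D.n)) ⟨x, h⟩ : Fin D.n) : ℕ) else 0) fun x => by rw [dif_pos x.2]
  simp only [Ctx.candOk, forceNat_eq, hsift, Bool.not_true, Bool.false_or, List.any_eq_true] at hcand
  obtain ⟨s, hs, he⟩ := hcand
  obtain ⟨i, hi, rfl⟩ := List.getElem_of_mem hs
  refine ⟨i, hi, ?_⟩
  rw [getN_eq_getD, List.getD_eq_getElem _ _ hi]
  refine grp_ext hS fun L hL hb => Fin.ext ?_
  obtain ⟨j, hj, rfl⟩ := List.getElem_of_mem hL
  have he' := congrArg (fun l : List ℕ => l.getD j 0) (natListEq_eq he)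
  simp only [htuple] at he'
  rw [List.getD_eq_getElem _ _ (by simpa using hj), List.getD_eq_getElem _ _ (by simpa using hj),
    List.getElem_map, List.getElem_map, dif_pos hb] at he'
  rw [he', elG_rep hS (hsols _ hs) ⟨_, hb⟩]
where
  getW_eq : ∀ (l : List (List ℕ)) (k : ℕ) (h : k < l.length), getW l k = l[k]
    | _ :: _, 0, _ => rfl
    | _ :: l, k + 1, h => by
      show getW l k = _
      rw [getW_eq l k (by simpa using h)]
      rfl

theorem closure_top {A : Cert} (hA : D.certOk Ls A = true) :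
    Subgroup.closure ({elG hS A.xi, elG hS A.wi, elG hS A.zi} : Set (grpOf σ)) = ⊤ := by
  simp only [Ctx.certOk, Bool.and_eq_true] at hA
  have hgw := hA.1.2
  have hns : D.gens.length ≤ D.ns := Nat.ble_eq.mp hA.1.1.2
  rw [eq_top_iff]
  intro g _
  have key : grpOf σ ≤ (Subgroup.closure ({elG hS A.xi, elG hS A.wi, elG hS A.zi} : Set (grpOf σ))).map (grpOf σ).subtype := by
    refine (Subgroup.closure_le _).2 ?_
    rintro _ ⟨k, rfl⟩
    have h := allFrom_spec hgw k (Nat.zero_le _) (by omega)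
    simp only [Bool.and_eq_true, List.all_eq_true, Nat.blt_eq] at h
    refine ⟨prodG hS (Ctx.subst [A.xi, A.wi, A.zi] (getW A.genWords k)), Subgroup.list_prod_mem _ fun y hy => ?_, ?_⟩
    · simp only [Ctx.subst, List.map_map, List.mem_map] at hy
      obtain ⟨a, ha, rfl⟩ := hy
      have := h.1 a ha
      refine Subgroup.subset_closure ?_
      show elG hS (getN [A.xi, A.wi, A.zi] a) ∈ _
      interval_cases a <;> simp [getN_eq_getD]
    · rw [← eqOn_eq hS h.2, prodG_single]
      refine Equiv.ext fun x => Fin.ext ?_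
      show ((((elG hS k : grpOf σ) : Perm (Fin D.n)) x : Fin D.n) : ℕ) = (σ k x : Fin D.n)
      rw [elG_rep hS (lt_of_lt_of_le k.2 hns), hS.rep k]
      have h' := hS.slp k (lt_of_lt_of_le k.2 hns)
      simp only [Ctx.slpOk, forceNat_eq, show Nat.blt (k : ℕ) D.gens.length = true by simp, cond_true] at h'
      exact Ctx.pts_spec h' x
  obtain ⟨g', hg', e⟩ := key g.2
  obtain rfl : g' = g := Subtype.ext e
  exact hg'

theorem aut_ext {A : Cert} (hA : D.certOk Ls A = true) {φ ψ : MulAut (grpOf σ)}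
    (h0 : φ (elG hS A.xi) = ψ (elG hS A.xi)) (h1 : φ (elG hS A.wi) = ψ (elG hS A.wi))
    (h2 : φ (elG hS A.zi) = ψ (elG hS A.zi)) : φ = ψ := by
  refine MulEquiv.ext fun g => ?_
  have hg : g ∈ Subgroup.closure ({elG hS A.xi, elG hS A.wi, elG hS A.zi} : Set (grpOf σ)) := by
    rw [closure_top hS hA]; trivial
  refine MonoidHom.eqOn_closure (f := φ.toMonoidHom) (g := ψ.toMonoidHom) ?_ hg
  rintro y (rfl | rfl | rfl) <;> assumption

theorem conj_to_case {A : Cert} {top : ℕ} (hA : CertOk D Ls A top)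
    (hfac : (Nat.card (grpOf σ)).factorization A.p = 1) {g : grpOf σ} (hg : orderOf g = A.p) :
    ∃ C ∈ A.cases, ∃ u : grpOf σ, u * g * u⁻¹ = elG hS C.xi := by
  have h := hA.main
  simp only [Ctx.certOk, Bool.and_eq_true, Bool.not_eq_true'] at h
  obtain ⟨⟨⟨⟨⟨⟨⟨⟨hrest, hd⟩, hp⟩, hne⟩, hxlt⟩, -⟩, -⟩, -⟩, hcover⟩ := h
  have : Fact A.p.Prime := ⟨hA.prime⟩
  set x := elG hS A.xi with hx
  have hxo : orderOf x = A.p := by
    refine orderOf_eq_prime ?_ fun e => ?_
    · rw [← prodG_replicate, eqOn_eq hS hp]; rfl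
    · have := eqOn_of_eq hS (u := [A.xi]) (v := []) (by simpa using hxlt) (by simp) (by rw [prodG_single, ← hx, e]; rfl)
      rw [this] at hne; exact absurd hne (by decide)
  let P : Sylow A.p (grpOf σ) := Sylow.ofCard (Subgroup.zpowers g) (by rw [Nat.card_zpowers, hg, hfac, pow_one])
  let Q : Sylow A.p (grpOf σ) := Sylow.ofCard (Subgroup.zpowers x) (by rw [Nat.card_zpowers, hxo, hfac, pow_one])
  obtain ⟨c, hc⟩ := MulAction.exists_smul_eq (grpOf σ) P Q
  have hmem : c * g * c⁻¹ ∈ Subgroup.zpowers x := by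
    have : MulAut.conj c • g ∈ (c • P : Sylow A.p (grpOf σ)) :=
      Subgroup.smul_mem_pointwise_smul _ (MulAut.conj c) _ (Subgroup.mem_zpowers g)
    rw [hc] at this
    exact this
  obtain ⟨k, hk⟩ := (mem_powers_iff_mem_zpowers).2 hmem
  replace hk : x ^ k = c * g * c⁻¹ := hk
  rw [← pow_mod_orderOf, hxo] at hk
  have hk0 : k % A.p ≠ 0 := fun e => by
    rw [e, pow_zero] at hk
    rw [conj_eq_one_iff.1 hk.symm, orderOf_one] at hg
    exact hA.prime.one_lt.ne hg
  have hcv := allFrom_spec hcover (k % A.p) (Nat.zero_le _) (by simpa using Nat.mod_lt _ hA.prime.pos)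
  simp only [Bool.or_eq_true, List.any_eq_true] at hcv
  obtain ⟨C, hC, j, -, hj⟩ := hcv.resolve_left fun e => hk0 (Nat.eq_of_beq_eq_true e)
  have hd' : elG hS A.di * x * (elG hS A.di)⁻¹ = x ^ A.s := by
    have := eqOn_eq hS hd
    rw [prodG_pair] at this
    simp only [prodG, List.map_append, List.map_replicate, List.prod_append, List.prod_replicate, List.map_cons,
      List.map_nil, List.prod_singleton] at this
    rw [hx, this, mul_inv_cancel_right]
  have hdj : ∀ j : ℕ, elG hS A.di ^ j * x * (elG hS A.di ^ j)⁻¹ = x ^ (A.s ^ j) := by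
    intro j
    induction j with
    | zero => simp
    | succ j ih =>
      rw [pow_succ' (elG hS A.di), show elG hS A.di * elG hS A.di ^ j * x * (elG hS A.di * elG hS A.di ^ j)⁻¹ =
        elG hS A.di * (elG hS A.di ^ j * x * (elG hS A.di ^ j)⁻¹) * (elG hS A.di)⁻¹ by group, ih, ← conj_pow, hd',
        ← pow_mul, ← pow_succ']
  have hxi : elG hS C.xi = x ^ C.e := by
    have h := (hA.cases C hC).1
    simp only [Ctx.caseOk, Bool.and_eq_true] at h
    rw [← prodG_single, eqOn_eq hS h.1.1.1.1, prodG_replicate]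
  refine ⟨C, hC, (elG hS A.di ^ j)⁻¹ * c, ?_⟩
  rw [show (elG hS A.di ^ j)⁻¹ * c * g * ((elG hS A.di ^ j)⁻¹ * c)⁻¹ =
    (elG hS A.di ^ j)⁻¹ * (c * g * c⁻¹) * elG hS A.di ^ j by group, ← hk, hxi]
  have hpow : x ^ (k % A.p) = elG hS A.di ^ j * x ^ C.e * (elG hS A.di ^ j)⁻¹ := by
    rw [← conj_pow, hdj, ← pow_mul, ← pow_mod_orderOf x (A.s ^ j * C.e), hxo, Nat.mul_comm]
    rw [show C.e * A.s ^ j % A.p = k % A.p from Nat.eq_of_beq_eq_true hj]
  rw [hpow]
  group

/-- Every automorphism comes from one of the two triples. -/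
theorem aut_cases {A : Cert} {top : ℕ} (hA : CertOk D Ls A top)
    (hfac : (Nat.card (grpOf σ)).factorization A.p = 1) (φ : MulAut (grpOf σ)) :
    ∃ g : grpOf σ, ∃ d ≤ top, ∀ a, a < 3 →
      φ (elG hS (getN [A.xi, A.wi, A.zi] a)) =
        g * elG hS (getN (bif Nat.beq d 0 then [A.xi, A.wi, A.zi] else A.other) a) * g⁻¹ := by
  have h := hA.main
  simp only [Ctx.certOk, Bool.and_eq_true, Bool.not_eq_true', List.all_eq_true] at h
  obtain ⟨⟨⟨⟨⟨⟨⟨⟨⟨⟨hrels, hwx⟩, hzw⟩, -⟩, hp⟩, hne⟩, hxlt⟩, -⟩, -⟩, -⟩, -⟩ := h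
  have hpr : Fact A.p.Prime := ⟨hA.prime⟩
  have hxo : orderOf (elG hS A.xi) = A.p := by
    refine orderOf_eq_prime ?_ fun e => ?_
    · rw [← prodG_replicate, eqOn_eq hS hp]; rfl
    · have := eqOn_of_eq hS (u := [A.xi]) (v := []) (by simpa using hxlt) (by simp) (by rw [prodG_single, e]; rfl)
      rw [this] at hne; exact absurd hne (by decide)
  obtain ⟨C, hC, u, hu⟩ := conj_to_case hS hA hfac (g := φ (elG hS A.xi)) (by rw [MulEquiv.orderOf_eq, hxo])
  obtain ⟨hcase, htw, hbr⟩ := hA.cases C hC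
  simp only [Ctx.caseOk, Bool.and_eq_true] at hcase
  obtain ⟨⟨⟨⟨-, hgX⟩, hhX⟩, hnl⟩, hnorm⟩ := hcase
  have hwx' : elG hS A.wi * elG hS A.xi * (elG hS A.wi)⁻¹ = elG hS A.xi ^ A.r := by
    have := eqOn_eq hS hwx
    rw [prodG_pair] at this
    simp only [prodG, List.map_append, List.map_replicate, List.prod_append, List.prod_replicate, List.map_cons,
      List.map_nil, List.prod_singleton] at this
    rw [this, mul_inv_cancel_right]
  set ψ : MulAut (grpOf σ) := MulAut.conj u * φ with hψ
  have hψx : ψ (elG hS A.xi) = elG hS C.xi := hu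
  obtain ⟨i, hi, hwi⟩ := trans_complete hS htw (c := ψ (elG hS A.wi)) (by
    rw [Nat.eq_of_beq_eq_true hgX, ← hψx, ← map_inv, ← map_mul, ← map_mul, hwx', map_pow, hψx, ← prodG_replicate,
      ← eqOn_eq hS hhX, prodG_single])
  have hn := allFrom_spec hnorm i (Nat.zero_le _) (by omega)
  simp only [forceNat_eq, Bool.and_eq_true] at hn
  obtain ⟨hkl, hn⟩ := hn
  set c := getN (getW C.norm i) 0
  set k := getN (getW C.norm i) 1
  have hkl' : k < C.branches.length := by simpa using hkl
  rw [List.getElem?_eq_getElem hkl'] at hn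
  simp only [Bool.and_eq_true] at hn
  set B := C.branches[k]
  obtain ⟨hB, htz⟩ := hbr B (List.getElem_mem hkl')
  set χ : MulAut (grpOf σ) := MulAut.conj (elG hS c) * ψ with hχ
  have hχx : χ (elG hS A.xi) = elG hS C.xi := by
    show elG hS c * ψ (elG hS A.xi) * (elG hS c)⁻¹ = _
    rw [hψx, eqOn_conj hS hn.1]
  have hχw : χ (elG hS A.wi) = elG hS B.wi := by
    show elG hS c * ψ (elG hS A.wi) * (elG hS c)⁻¹ = _
    rw [hwi, eqOn_conj hS hn.2]
  simp only [Ctx.branchOk, Bool.and_eq_true] at hB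
  obtain ⟨⟨⟨hBg, hBh⟩, hBl⟩, hres⟩ := hB
  obtain ⟨l, hl, hzl⟩ := trans_complete hS htz (c := χ (elG hS A.zi)) (by
    rw [Nat.eq_of_beq_eq_true hBg, Nat.eq_of_beq_eq_true hBh, ← hχw, ← map_inv, ← map_mul, ← map_mul,
      eqOn_conj hS hzw])
  have hr := allFrom_spec hres l (Nat.zero_le _) (by omega)
  simp only [forceNat_eq] at hr
  set zi := getN B.trans.sols l
  cases hflag : Nat.beq (getN (getW B.res l) 0) 0 with
  | true =>
    exfalso
    simp only [hflag, cond_true, Bool.and_eq_true, Nat.blt_eq, Bool.not_eq_true'] at hr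
    obtain ⟨hrl, hfail⟩ := hr
    have hw : getW A.rels (getN (getW B.res l) 1) ∈ A.rels := by
      rw [trans_complete.getW_eq _ _ hrl]; exact List.getElem_mem hrl
    set wd := getW A.rels (getN (getW B.res l) 1)
    obtain ⟨hlet, hone⟩ := hrels wd hw
    have h1 := congrArg χ (eqOn_eq hS hone)
    simp only [prodG, map_list_prod, List.map_map, List.map_nil, List.prod_nil, Ctx.subst] at h1
    have hsh := htz.shape
    simp only [Ctx.transShapeOk, Bool.and_eq_true, List.all_eq_true, Nat.blt_eq] at hsh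
    have hsw := htw.shape
    simp only [Ctx.transShapeOk, Bool.and_eq_true, List.all_eq_true, Nat.blt_eq] at hsw
    have hall : ∀ a ∈ [C.xi, B.wi, zi], a < D.ns := by
      intro a ha
      simp only [List.mem_cons, List.not_mem_nil, or_false] at ha
      rcases ha with rfl | rfl | rfl
      · exact Nat.eq_of_beq_eq_true hgX ▸ hsw.1.1.1.1.1
      · exact Nat.eq_of_beq_eq_true hBg ▸ hsh.1.1.1.1.1
      · exact hsh.1.1.1.2 _ (getN_mem _ hl)
    have := eqOn_of_eq hS (u := Ctx.subst [C.xi, B.wi, zi] wd) (v := []) (fun a ha => ?_) (by simp) ?_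
    · rw [this] at hfail; exact absurd hfail (by decide)
    · simp only [Ctx.subst, List.mem_map] at ha
      obtain ⟨b, hb, rfl⟩ := ha
      exact hall _ (getN_mem _ (by simpa using hlet b hb))
    · simp only [prodG, List.map_map, List.map_nil, List.prod_nil, Ctx.subst]
      refine Eq.trans ?_ (h1.trans (map_one χ))
      congr 1
      refine List.map_congr_left fun b hb => ?_
      have hb3 : b < 3 := by simpa using hlet b hb
      show elG hS (getN [C.xi, B.wi, zi] b) = χ (elG hS (getN [A.xi, A.wi, A.zi] b))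
      interval_cases b <;> simp only [getN_eq_getD, List.getD_cons_zero, List.getD_cons_succ]
      · exact hχx.symm
      · exact hχw.symm
      · exact hzl.symm
  | false =>
    simp only [hflag, cond_false, Bool.and_eq_true] at hr
    set e := getN (getW B.res l) 1
    set d := getN (getW B.res l) 2
    set t := bif Nat.beq d 0 then [A.xi, A.wi, A.zi] else A.other
    obtain ⟨hd, ⟨h0, h1⟩, h2⟩ := hr
    refine ⟨(elG hS c * u)⁻¹ * elG hS e, d, Nat.ble_eq.mp hd, fun a ha => ?_⟩
    have key : χ (elG hS (getN [A.xi, A.wi, A.zi] a)) = elG hS e * elG hS (getN t a) * (elG hS e)⁻¹ := by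
      interval_cases a
      · exact hχx.trans (eqOn_conj hS h0).symm
      · exact hχw.trans (eqOn_conj hS h1).symm
      · exact hzl.trans (eqOn_conj hS h2).symm
    rw [hχ, hψ] at key
    simp only [MulAut.mul_apply, MulAut.conj_apply] at key
    rw [show (elG hS c * u)⁻¹ * elG hS e * elG hS (getN t a) * ((elG hS c * u)⁻¹ * elG hS e)⁻¹ =
      (elG hS c * u)⁻¹ * (elG hS e * elG hS (getN t a) * (elG hS e)⁻¹) * (elG hS c * u) by group, ← key]
    group

/-- If only the first triple occurs, every automorphism is inner. -/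
theorem card_out_one {A : Cert} (hA : CertOk D Ls A 0) (hfac : (Nat.card (grpOf σ)).factorization A.p = 1) :
    Nat.card (Cfsg.Out (grpOf σ)) = 1 := by
  rw [Nat.card_eq_one_iff_unique]
  refine ⟨⟨fun a b => ?_⟩, inferInstance⟩
  induction a using QuotientGroup.induction_on with
  | H φ =>
  induction b using QuotientGroup.induction_on with
  | H ψ =>
    have key : ∀ χ : MulAut (grpOf σ), χ ∈ Cfsg.Inn (grpOf σ) := fun χ => by
      obtain ⟨g, d, hd, h⟩ := aut_cases hS hA hfac χ
      rw [Nat.le_zero.1 hd] at h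
      exact ⟨g, (aut_ext hS hA.main (h 0 (by norm_num)) (h 1 (by norm_num)) (h 2 (by norm_num))).symm⟩
    rw [(QuotientGroup.eq_one_iff _).2 (key φ), (QuotientGroup.eq_one_iff _).2 (key ψ)]

/-- If the second triple is the image of the first under `β`, and `x` is not conjugate to its image. -/
theorem card_out_two {A : Cert} (hA : CertOk D Ls A 1) (hfac : (Nat.card (grpOf σ)).factorization A.p = 1)
    (β : MulAut (grpOf σ)) (hβ : ∀ a, a < 3 → β (elG hS (getN [A.xi, A.wi, A.zi] a)) = elG hS (getN A.other a))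
    {T : TransCert} (hT : TransOk D Ls T) (hg : T.g = A.xi) (hh : T.h = getN A.other 0) (hnil : T.sols = []) :
    Nat.card (Cfsg.Out (grpOf σ)) = 2 := by
  have hne : β ∉ Cfsg.Inn (grpOf σ) := by
    rintro ⟨c, hc⟩
    obtain ⟨i, hi, -⟩ := trans_complete hS hT (c := c) (by
      rw [hg, hh, ← hβ 0 (by norm_num), ← hc]; rfl)
    rw [hnil] at hi
    exact absurd hi (Nat.not_lt_zero _)
  rw [Nat.card_eq_two_iff]
  refine ⟨1, QuotientGroup.mk β, fun e => hne ((QuotientGroup.eq_one_iff _).1 e.symm), Set.eq_univ_of_forall fun q => ?_⟩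
  induction q using QuotientGroup.induction_on with
  | H φ =>
    obtain ⟨g, d, hd, h⟩ := aut_cases hS hA hfac φ
    rcases Nat.le_one_iff_eq_zero_or_eq_one.1 hd with rfl | rfl
    · exact Or.inl ((QuotientGroup.eq_one_iff _).2
        ⟨g, (aut_ext hS hA.main (h 0 (by norm_num)) (h 1 (by norm_num)) (h 2 (by norm_num))).symm⟩)
    · refine Or.inr ?_
      show (QuotientGroup.mk φ : Cfsg.Out (grpOf σ)) = QuotientGroup.mk β
      have e : φ = MulAut.conj g * β := by
        refine aut_ext hS hA.main ?_ ?_ ?_ <;> rw [MulAut.mul_apply, MulAut.conj_apply]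
        · exact (h 0 (by norm_num)).trans (congrArg (fun q => g * q * g⁻¹) (hβ 0 (by norm_num)).symm)
        · exact (h 1 (by norm_num)).trans (congrArg (fun q => g * q * g⁻¹) (hβ 1 (by norm_num)).symm)
        · exact (h 2 (by norm_num)).trans (congrArg (fun q => g * q * g⁻¹) (hβ 2 (by norm_num)).symm)
      rw [e, QuotientGroup.mk_mul, (QuotientGroup.eq_one_iff (N := Cfsg.Inn (grpOf σ)) (MulAut.conj g)).2 ⟨g, rfl⟩, one_mul]

/-- An automorphism from a permutation normalising the group. -/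
theorem exists_aut (τ : Perm (Fin D.n)) {S T : ℕ} (hτ : D.Rep τ S) (hτi : D.Rep τ⁻¹ T)
    (img imgi : List ℕ) (himg : allFrom (fun k => Nat.blt (getN img k) D.ns && Nat.blt (getN imgi k) D.ns &&
      D.allPts (fun x => Nat.beq (D.ap S (D.ap (getN D.gens k) (D.ap T x))) (D.ap (D.el (getN img k)) x)) &&
      D.allPts (fun x => Nat.beq (D.ap T (D.ap (getN D.gens k) (D.ap S x))) (D.ap (D.el (getN imgi k)) x)))
      D.gens.length 0 = true) :
    ∃ β : MulAut (grpOf σ), ∀ g : grpOf σ, ((β g : grpOf σ) : Perm (Fin D.n)) = τ * g * τ⁻¹ := by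
  have hgen : ∀ k, τ * σ k * τ⁻¹ ∈ grpOf σ ∧ τ⁻¹ * σ k * τ ∈ grpOf σ := by
    intro k
    have h := allFrom_spec himg k (Nat.zero_le _) (by omega)
    simp only [Bool.and_eq_true, Nat.blt_eq] at h
    obtain ⟨⟨⟨ha, hb⟩, he⟩, hf⟩ := h
    constructor
    · have : τ * σ k * τ⁻¹ = (elG hS (getN img k) : Perm (Fin D.n)) := Equiv.ext fun x => Fin.ext (by
        rw [Perm.mul_apply, Perm.mul_apply, hτ, hS.rep, hτi, elG_rep hS ha, Ctx.pts_spec he x])
      rw [this]; exact (elG hS _).2
    · have : τ⁻¹ * σ k * τ = (elG hS (getN imgi k) : Perm (Fin D.n)) := Equiv.ext fun x => Fin.ext (by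
        rw [Perm.mul_apply, Perm.mul_apply, hτi, hS.rep, hτ, elG_rep hS hb, Ctx.pts_spec hf x])
      rw [this]; exact (elG hS _).2
  have h1 : grpOf σ ≤ (grpOf σ).comap (MulAut.conj τ).toMonoidHom :=
    (Subgroup.closure_le _).2 (by rintro _ ⟨k, rfl⟩; exact (hgen k).1)
  have h2 : grpOf σ ≤ (grpOf σ).comap (MulAut.conj τ⁻¹).toMonoidHom :=
    (Subgroup.closure_le _).2 (by
      rintro _ ⟨k, rfl⟩
      show τ⁻¹ * σ k * τ⁻¹⁻¹ ∈ grpOf σ
      rw [inv_inv]; exact (hgen k).2)
  refine ⟨{ toFun := fun g => ⟨τ * g * τ⁻¹, h1 g.2⟩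
            invFun := fun g => ⟨τ⁻¹ * g * τ⁻¹⁻¹, h2 g.2⟩
            left_inv := fun g => Subtype.ext (by show τ⁻¹ * (τ * g * τ⁻¹) * τ⁻¹⁻¹ = g; group)
            right_inv := fun g => Subtype.ext (by show τ * (τ⁻¹ * g * τ⁻¹⁻¹) * τ⁻¹ = g; group)
            map_mul' := fun a b => Subtype.ext (by
              show τ * (a * b : Perm (Fin D.n)) * τ⁻¹ = (τ * a * τ⁻¹) * (τ * b * τ⁻¹); group) }, fun g => rfl⟩

end

end Cfsg.Agent.H36.AutEngine
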