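import Cfsg.Agent.H36.AutEngine

/-!
A faster completeness test for a list of conjugating elements with two free points, the first of them
fixed by a power of the element conjugated: the base starts with that point twice, and an image not fixed by
the target element is rejected by the first two levels alone.
-/

set_option autoImplicit false

open Cfsg.Agent.H16

namespace Cfsg.Agent.H36.AutEngine

namespace Ctx

variable (D : Ctx)

theorem sift_of_take : ∀ (j : ℕ) (Ls : List Level) (ts : List ℕ),
    D.sift (Ls.take j) (ts.take j) = false → D.sift Ls ts = false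
  | 0, _, _, h => Bool.noConfusion h
  | _ + 1, [], _, h => by simp [sift] at h
  | _ + 1, _ :: _, [], _ => rfl
  | j + 1, L :: Ls, t :: ts, h => by
    simp only [List.take_succ_cons] at h
    change (forceNat (rank L t) fun r => bif Nat.beq r 0 then false else
      D.sift Ls (ts.map fun y => D.undo L r t y)) = false
    change (forceNat (rank L t) fun r => bif Nat.beq r 0 then false else
      D.sift (Ls.take j) ((ts.take j).map fun y => D.undo L r t y)) = false at h
    rw [forceNat_eq] at h ⊢
    cases hr : Nat.beq (rank L t) 0
    · rw [hr, cond_false, List.map_take] at h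
      rw [cond_false]
      exact sift_of_take j Ls _ h
    · rfl

theorem allFrom_of_forall {p : ℕ → Bool} {n : ℕ} (h : ∀ t, t < n → p t = true) : allFrom p n 0 = true := by
  have key : ∀ (k lo : ℕ), lo + k ≤ n → allFrom p k lo = true := by
    intro k
    induction k with
    | zero => exact fun _ _ => rfl
    | succ k ih =>
      intro lo hlo
      rw [allFrom_succ, h lo (by omega), ih (lo + 1) (by omega)]
      rfl
  exact key n 0 (by omega)

/-- The shape allowing the fast test. -/
noncomputable def fixShapeOk (C : TransCert) : Bool :=
  natListEq (getW C.pows 0) [0, 0] && natListEq (getW C.pows 1) [0, getN (getW C.pows 1) 1] && Nat.ble 2 C.pows.length &&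
    Nat.beq C.roots.length 2

/-- The test of one image of the first free point. -/
noncomputable def fixRowOk (Ls : List Level) (C : TransCert) (t : ℕ) : Bool :=
  forceNat t fun t =>
    !(D.sift (Ls.take 2) [t, iterPt (D.ap (D.el C.h)) (getN (getW C.pows 1) 1) t]) ||
      allFrom (fun u => D.candOk Ls C (Nat.add t (Nat.mul D.n u))) D.n 0

theorem cand_of_fix (Ls : List Level) (C : TransCert) (hs : fixShapeOk C = true)
    (h : allFrom (D.fixRowOk Ls C) D.n 0 = true) : ∀ m, m < D.n ^ C.roots.length → D.candOk Ls C m = true := by
  intro m hm
  simp only [fixShapeOk, Bool.and_eq_true] at hs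
  set d := getN (getW C.pows 1) 1
  obtain ⟨⟨⟨h0, h1⟩, hlen⟩, hk⟩ := hs
  rw [Nat.eq_of_beq_eq_true hk, pow_two] at hm
  have hn : 0 < D.n := by
    rcases Nat.eq_zero_or_pos D.n with e | e
    · rw [e] at hm; omega
    · exact e
  have ht : m % D.n < D.n := Nat.mod_lt _ hn
  have hr := allFrom_spec h (m % D.n) (Nat.zero_le _) (by omega)
  simp only [fixRowOk, forceNat_eq, Bool.or_eq_true, Bool.not_eq_true'] at hr
  rcases hr with hr | hr
  · have htake : (D.tuple C m).take 2 = [m % D.n, iterPt (D.ap (D.el C.h)) d (m % D.n)] := by
      have hp : 2 ≤ C.pows.length := Nat.le_of_ble_eq_true hlen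
      match hP : C.pows, hp with
      | p :: q :: rest, _ =>
        rw [hP] at h0 h1
        have e0 : p = [0, 0] := natListEq_eq h0
        have e1 : q = [0, d] := natListEq_eq h1
        simp only [tuple, hP, e0, e1, List.map_cons, List.take_succ_cons, List.take_zero]
        have hd : Nat.mod (Nat.div m (Nat.pow D.n 0)) D.n = m % D.n := by
          show m / D.n ^ 0 % D.n = _
          rw [pow_zero, Nat.div_one]
        simp only [getN_eq_getD, List.getD_cons_zero, List.getD_cons_succ, hd, iterPt, forceNat_eq]
        rfl
    rw [candOk, forceNat_eq, sift_of_take D 2 Ls _ (by rw [htake]; exact hr)]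
    rfl
  · have hu : m / D.n < D.n := Nat.div_lt_of_lt_mul hm
    have := allFrom_spec hr (m / D.n) (Nat.zero_le _) (by omega)
    rwa [show Nat.add (m % D.n) (Nat.mul D.n (m / D.n)) = m from Nat.mod_add_div m D.n] at this

end Ctx

end Cfsg.Agent.H36.AutEngine
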