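import Mathlib
import Cfsg.Agent.H36.SymIndex

/-!
# The exotic subgroups of index six of the symmetric group of degree six
-/

open Equiv MulAction
set_option linter.style.haveILetI false

namespace Cfsg.Agent.H36.SymSix

abbrev P6 := Perm (Fin 6)

/-- A synthematic total. -/
def total : List P6 :=
  [swap 0 1 * swap 2 3 * swap 4 5, swap 0 2 * swap 1 4 * swap 3 5, swap 0 3 * swap 1 5 * swap 2 4,
   swap 0 4 * swap 1 3 * swap 2 5, swap 0 5 * swap 1 2 * swap 3 4]

/-- The stabiliser of the total. -/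
def exotic : Subgroup P6 where
  carrier := {g | (∀ x ∈ total, g * x * g⁻¹ ∈ total) ∧ ∀ x ∈ total, g⁻¹ * x * g ∈ total}
  one_mem' := ⟨fun x hx => by simpa using hx, fun x hx => by simpa using hx⟩
  mul_mem' := fun {a b} ha hb => ⟨fun x hx => by simpa [mul_assoc] using ha.1 _ (hb.1 x hx),
    fun x hx => by simpa [mul_assoc] using hb.2 _ (ha.2 x hx)⟩
  inv_mem' := fun {a} ha => ⟨fun x hx => by simpa using ha.2 x hx, fun x hx => by simpa using ha.1 x hx⟩

instance : DecidablePred (· ∈ exotic) := fun g =>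
  decidable_of_iff ((∀ x ∈ total, g * x * g⁻¹ ∈ total) ∧ ∀ x ∈ total, g⁻¹ * x * g ∈ total) Iff.rfl

theorem card_exotic : Nat.card exotic = 120 := by
  rw [Nat.card_eq_fintype_card, Fintype.card_subtype]
  decide +kernel

theorem index_exotic : exotic.index = 6 := by
  have h := exotic.index_mul_card
  rw [card_exotic, Nat.card_perm, Nat.card_fin, show Nat.factorial 6 = 720 from rfl] at h
  omega

theorem exotic_moves : ∀ a : Fin 6, ∃ g ∈ [swap 2 3 * swap 4 5, swap 0 1 * swap 4 5], (g : P6) a ≠ a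
    := by decide +kernel

theorem exotic_gens : ∀ g ∈ [swap 2 3 * swap 4 5, swap 0 1 * swap 4 5], (g : P6) ∈ exotic := by
  decide +kernel

theorem exotic_ne_stabilizer (a : Fin 6) : exotic ≠ stabilizer P6 a := by
  intro h
  obtain ⟨g, hg, hga⟩ := exotic_moves a
  have := exotic_gens g hg
  rw [h] at this
  exact hga this

theorem conj_mem_stabilizer {g x : P6} {a : Fin 6} :
    g⁻¹ * x * g ∈ stabilizer P6 a ↔ x (g a) = g a := by
  rw [mem_stabilizer_iff, Perm.smul_def, Perm.mul_apply, Perm.mul_apply]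
  exact Perm.inv_eq_iff_eq

theorem map_conj_stabilizer (g : P6) (a : Fin 6) :
    (stabilizer P6 a).map (MulAut.conj g).toMonoidHom = stabilizer P6 (g a) := by
  ext x
  rw [Subgroup.mem_map_equiv]
  show g⁻¹ * x * g ∈ stabilizer P6 a ↔ _
  exact conj_mem_stabilizer

theorem exotic_not_conj (a : Fin 6) (g : P6) :
    (stabilizer P6 a).map (MulAut.conj g).toMonoidHom ≠ exotic := by
  rw [map_conj_stabilizer]
  exact (exotic_ne_stabilizer _).symm

/-- An outer automorphism. -/
theorem exists_outer : ∃ (φ : MulAut P6) (a : Fin 6), (∀ g, g ∈ exotic ↔ φ g a = a) ∧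
    ∀ x : P6, x.IsThreeCycle → ¬ (φ x).IsThreeCycle := by
  obtain ⟨φ, a, hm⟩ := SymIndex.exists_aut (by rw [Nat.card_fin]; norm_num) exotic
    (by rw [index_exotic, Nat.card_fin])
  refine ⟨φ, a, hm, fun x hx hφx => ?_⟩
  obtain ⟨σ, hσ⟩ := SymIndex.inner_of_three (by norm_num) φ fun y hy => by
    obtain ⟨c, rfl⟩ := isConj_iff.1 (Perm.isConj_iff_cycleType_eq.2 (hx.cycleType.trans hy.cycleType.symm))
    rw [map_mul, map_mul, map_inv, Perm.IsThreeCycle, Perm.cycleType_conj]
    exact hφx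
  exact exotic_ne_stabilizer _ (SymIndex.eq_stabilizer_of_inner hm hσ)

theorem cycleType_of_order_three {x : P6} (hx : orderOf x = 3) (hnot : ¬ x.IsThreeCycle) :
    x.cycleType = {3, 3} := by
  haveI : Fact (Nat.Prime 3) := ⟨Nat.prime_three⟩
  obtain ⟨n, hn⟩ := Perm.cycleType_prime_order (hx.symm ▸ Nat.prime_three)
  rw [hx] at hn
  have hs := Perm.sum_cycleType x
  have hle : x.support.card ≤ 6 := (Finset.card_le_univ _).trans (Fintype.card_fin 6).le
  rw [hn, Multiset.sum_replicate, smul_eq_mul] at hs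
  rcases n with _ | _ | n
  · exact absurd hn hnot
  · exact hn
  · omega

/-- Subgroups of index six: point stabilisers and conjugates of the exotic one. -/
theorem classify (H : Subgroup P6) (hH : H.index = 6) :
    (∃ a : Fin 6, H = stabilizer P6 a) ∨ ∃ g : P6, exotic.map (MulAut.conj g).toMonoidHom = H := by
  obtain ⟨φ, a, hm⟩ := SymIndex.exists_aut (by rw [Nat.card_fin]; norm_num) H
    (by rw [hH, Nat.card_fin])
  obtain ⟨ψ, b, hψ, hout⟩ := exists_outer
  by_cases h3 : ∀ x : P6, x.IsThreeCycle → (φ x).IsThreeCycle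
  · obtain ⟨σ, hσ⟩ := SymIndex.inner_of_three (by norm_num) φ h3
    exact Or.inl ⟨_, SymIndex.eq_stabilizer_of_inner hm hσ⟩
  push Not at h3
  obtain ⟨x, hx, hφx⟩ := h3
  have hord : ∀ {y : P6}, y.IsThreeCycle → ∀ (f : MulAut P6), orderOf (f y) = 3 := fun {y} hy f => by
    rw [MulEquiv.orderOf_eq]; exact hy.orderOf
  have key : ∀ y : P6, y.IsThreeCycle → (φ (ψ.symm y)).IsThreeCycle := by
    intro y hy
    set z := ψ.symm y with hz
    have hz3 : ¬ z.IsThreeCycle := fun h => hout z h (by rwa [hz, MulEquiv.apply_symm_apply])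
    have hzc := cycleType_of_order_three (hord hy ψ.symm) hz3
    by_contra hcon
    have h1 := cycleType_of_order_three (x := φ z) (by rw [MulEquiv.orderOf_eq]; exact hord hy ψ.symm) hcon
    have h2 := cycleType_of_order_three (hord hx φ) hφx
    obtain ⟨c, hc⟩ := isConj_iff.1 (Perm.isConj_iff_cycleType_eq.2 (h2.trans h1.symm))
    obtain ⟨d, rfl⟩ := φ.surjective c
    rw [← map_inv, ← map_mul, ← map_mul, φ.apply_eq_iff_eq] at hc
    apply hz3
    rw [← hz] at *
    rw [← hc, Perm.IsThreeCycle, Perm.cycleType_conj]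
    exact hx
  obtain ⟨σ, hσ⟩ := SymIndex.inner_of_three (by norm_num) (ψ.symm.trans φ) key
  right
  have hφ : ∀ g, φ g = σ * ψ g * σ⁻¹ := fun g => by
    rw [← hσ (ψ g), MulEquiv.trans_apply, MulEquiv.symm_apply_apply]
  obtain ⟨c, hc⟩ : ∃ c : P6, c b = σ⁻¹ a := ⟨swap b (σ⁻¹ a), swap_apply_left _ _⟩
  obtain ⟨d, rfl⟩ := ψ.surjective c
  refine ⟨d, Subgroup.ext fun g => ?_⟩
  rw [Subgroup.mem_map_equiv]
  show d⁻¹ * g * d ∈ exotic ↔ _
  rw [hψ, hm, hφ, map_mul, map_mul, map_inv, Perm.mul_apply, Perm.mul_apply, Perm.mul_apply,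
    Perm.mul_apply, Perm.inv_eq_iff_eq, hc, Perm.eq_inv_iff_eq]

theorem stabilizer_iso (a : Fin 6) : Nonempty (stabilizer P6 a ≃* Perm (Fin 5)) := by
  let e1 : {σ : P6 // ∀ x, ¬ x ≠ a → σ x = x} ≃ stabilizer P6 a :=
    Equiv.subtypeEquivRight fun σ => by
      simp only [not_not, forall_eq, mem_stabilizer_iff, Perm.smul_def]
  let e : Perm {x : Fin 6 // x ≠ a} ≃* stabilizer P6 a :=
    { (Perm.subtypeEquivSubtypePerm (fun x : Fin 6 => x ≠ a)).trans e1 with
      map_mul' := fun f g => Subtype.ext (map_mul Perm.ofSubtype f g) }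
  exact ⟨e.symm.trans (Fintype.equivFinOfCardEq (by simp)).permCongrHom⟩

theorem iso_five (H : Subgroup P6) (hH : H.index = 6) : Nonempty (H ≃* Perm (Fin 5)) := by
  obtain ⟨φ, a, hm⟩ := SymIndex.exists_aut (by rw [Nat.card_fin]; norm_num) H
    (by rw [hH, Nat.card_fin])
  have e : H.map φ.toMonoidHom = stabilizer P6 a := by
    ext x
    rw [Subgroup.mem_map_equiv, hm, MulEquiv.apply_symm_apply]
    rfl
  obtain ⟨f⟩ := stabilizer_iso a
  exact ⟨((φ.subgroupMap H).trans (MulEquiv.subgroupCongr e)).trans f⟩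

theorem count : Nat.card {H : Subgroup P6 // H.index = 6} = 12 := by
  obtain ⟨ψ, b, hψ, -⟩ := exists_outer
  let S : Fin 6 → Subgroup P6 := fun x => (stabilizer P6 x).comap ψ.toMonoidHom
  have hstab : ∀ x : Fin 6, (stabilizer P6 x).index = 6 := fun x => by
    rw [index_stabilizer_of_transitive, Nat.card_fin]
  have hSi : ∀ x, (S x).index = 6 := fun x => by
    rw [Subgroup.index_comap_of_surjective _ ψ.surjective]; exact hstab x
  have hinj : ∀ x y : Fin 6, stabilizer P6 x = stabilizer P6 y → x = y := by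
    intro x y h
    by_contra hne
    obtain ⟨z, hzx, hzy⟩ : ∃ z, z ≠ x ∧ z ≠ y := by
      have : ∀ x y : Fin 6, ∃ z, z ≠ x ∧ z ≠ y := by decide
      exact this x y
    have h1 : swap y z ∈ stabilizer P6 x := swap_apply_of_ne_of_ne hne hzx.symm
    rw [h] at h1
    exact hzy ((swap_apply_left y z).symm.trans h1)
  have hexo : ∀ g : P6, exotic.map (MulAut.conj g).toMonoidHom = S ((ψ g) b) := by
    intro g
    ext x
    rw [Subgroup.mem_map_equiv]
    show g⁻¹ * x * g ∈ exotic ↔ ψ x ∈ stabilizer P6 _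
    rw [hψ, mem_stabilizer_iff, Perm.smul_def, map_mul, map_mul, map_inv, Perm.mul_apply,
      Perm.mul_apply, Perm.inv_eq_iff_eq]
  let F : Fin 6 ⊕ Fin 6 → {H : Subgroup P6 // H.index = 6} :=
    Sum.elim (fun x => ⟨stabilizer P6 x, hstab x⟩) (fun x => ⟨S x, hSi x⟩)
  have hF : Function.Bijective F := by
    constructor
    · have hne : ∀ x y : Fin 6, stabilizer P6 x ≠ S y := by
        intro x y h
        obtain ⟨g, hg⟩ := ψ.surjective (swap b y)
        have h1 := hexo g
        rw [hg, swap_apply_left] at h1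
        have h2 := exotic_not_conj x g⁻¹
        apply h2
        rw [h, ← h1, Subgroup.map_map, show (MulAut.conj g⁻¹).toMonoidHom.comp
          (MulAut.conj g).toMonoidHom = MonoidHom.id P6 from
            MonoidHom.ext fun z => by simp [mul_assoc], Subgroup.map_id]
      rintro (x | x) (y | y) h <;> have h := congrArg Subtype.val h <;>
        simp only [F, Sum.elim_inl, Sum.elim_inr] at h
      · rw [hinj x y h]
      · exact absurd h (hne x y)
      · exact absurd h.symm (hne y x)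
      · rw [hinj x y (Subgroup.comap_injective ψ.surjective h)]
    · rintro ⟨H, hH⟩
      rcases classify H hH with ⟨a, rfl⟩ | ⟨g, rfl⟩
      · exact ⟨Sum.inl a, rfl⟩
      · exact ⟨Sum.inr _, Subtype.ext (hexo g).symm⟩
  rw [← Nat.card_eq_of_bijective F hF, Nat.card_sum, Nat.card_fin]

theorem two_classes {Ω : Type*} [Fintype Ω] [DecidableEq Ω] (h6 : Fintype.card Ω = 6) :
    ∃ H₁ H₂ : Subgroup (Perm Ω), H₁.index = 6 ∧ H₂.index = 6 ∧
      (¬ ∃ g : Perm Ω, Subgroup.map (MulAut.conj g).toMonoidHom H₁ = H₂) ∧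
      ∀ H : Subgroup (Perm Ω), H.index = 6 →
        ∃ g : Perm Ω, Subgroup.map (MulAut.conj g).toMonoidHom H₁ = H ∨
          Subgroup.map (MulAut.conj g).toMonoidHom H₂ = H := by
  let e : P6 ≃* Perm Ω := (Fintype.equivFinOfCardEq h6).symm.permCongrHom
  have hmap : ∀ (K : Subgroup P6) (g : P6), (K.map (MulAut.conj g).toMonoidHom).map e.toMonoidHom =
      (K.map e.toMonoidHom).map (MulAut.conj (e g)).toMonoidHom := by
    intro K g
    rw [Subgroup.map_map, Subgroup.map_map]
    congr 1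
    ext x
    simp
  refine ⟨(stabilizer P6 (0 : Fin 6)).map e.toMonoidHom, exotic.map e.toMonoidHom,
    (Subgroup.index_map_equiv _ e).trans (by rw [index_stabilizer_of_transitive, Nat.card_fin]),
    (Subgroup.index_map_equiv _ e).trans index_exotic, ?_, ?_⟩
  · rintro ⟨g, hg⟩
    obtain ⟨g, rfl⟩ := e.surjective g
    rw [← hmap] at hg
    exact exotic_not_conj 0 g (Subgroup.map_injective e.injective hg)
  · intro H hH
    obtain ⟨K, rfl⟩ : ∃ K : Subgroup P6, K.map e.toMonoidHom = H :=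
      ⟨_, Subgroup.map_comap_eq_self_of_surjective e.surjective H⟩
    have hK : K.index = 6 := (Subgroup.index_map_equiv K e).symm.trans hH
    rcases classify K hK with ⟨a, rfl⟩ | ⟨g, rfl⟩
    · refine ⟨e (swap 0 a), Or.inl ?_⟩
      rw [← hmap, map_conj_stabilizer, swap_apply_left]
    · exact ⟨e g, Or.inr (hmap _ _).symm⟩

end Cfsg.Agent.H36.SymSix
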