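import Mathlib
import Cfsg.Agent.H13.Simplicity
import Cfsg.Agent.H36.Regular
import Cfsg.Agent.H36.PrimeNormalizer

/-!
# Insoluble transitive groups of degree seven
-/

open MulAction
set_option linter.style.haveILetI false

namespace Cfsg.Agent.H36

variable {α : Type*} [Fintype α] [DecidableEq α] {p : ℕ} [Fact p.Prime]

omit [DecidableEq α] in
/-- In prime degree, an insoluble group has no normal Sylow `p`-subgroup. -/
theorem not_normal_sylow (hα : Fintype.card α = p) (G : Subgroup (Equiv.Perm α))
    [IsPretransitive G α] (hG : ¬ Group.IsSolvable G) (P : Sylow p G) : ¬ (P : Subgroup G).Normal := by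
  intro hn
  obtain ⟨s, hs⟩ := exists_prime_orderOf_dvd_card' (G := (P : Subgroup G)) p
    (dvd_of_eq (sylow_card_of_prime_degree hα G P).symm)
  have hσ : orderOf ((s : G) : Equiv.Perm α) = p := by
    rw [Subgroup.orderOf_coe, Subgroup.orderOf_coe, hs]
  obtain ⟨e, he⟩ := exists_zmod_numbering hα hσ
  refine hG (isSolvable_of_affine e G fun g hg => ?_)
  have hgen : (P : Subgroup G) = Subgroup.zpowers (s : G) := by
    refine (Subgroup.eq_of_le_of_card_ge (Subgroup.zpowers_le.2 s.2) ?_).symm
    rw [Nat.card_zpowers, Subgroup.orderOf_coe, hs, sylow_card_of_prime_degree hα G P]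
  have hmem : (⟨g, hg⟩ : G) * s * (⟨g, hg⟩ : G)⁻¹ ∈ Subgroup.zpowers (s : G) :=
    hgen ▸ hn.conj_mem _ s.2 _
  obtain ⟨c, hc⟩ := Submonoid.mem_powers_iff _ _ |>.1
    ((isOfFinOrder_of_finite (s : G)).mem_powers_iff_mem_zpowers.2 hmem)
  have hc' : ((s : G) : Equiv.Perm α) ^ c = g * ((s : G) : Equiv.Perm α) * g⁻¹ := by
    have := congrArg Subtype.val hc
    simpa using this
  set b := e.symm (g (e 0)) with hb
  have key : ∀ n : ℕ, g (e n) = e ((n : ZMod p) * c + b) := by
    intro n
    induction n with
    | zero => simp [hb]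
    | succ n ih =>
      have h1 : g (e ((n + 1 : ℕ) : ZMod p)) = (((s : G) : Equiv.Perm α) ^ c) (g (e n)) := by
        rw [hc', Equiv.Perm.mul_apply, Equiv.Perm.mul_apply,
          show g⁻¹ (g (e (n : ZMod p))) = e n from Equiv.symm_apply_apply g _]
        congr 1
        rw [Nat.cast_succ]
        simpa using (he 1 n).symm
      rw [h1, ih, he]
      congr 1
      push_cast; ring
  refine ⟨c, b, fun j => ?_⟩
  have := key j.val
  rw [ZMod.natCast_zmod_val] at this
  rw [this, mul_comm]

omit [DecidableEq α] in
/-- In prime degree a Sylow normaliser strictly contains the Sylow subgroup. -/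
theorem card_normalizer_ne (hα : Fintype.card α = p) (G : Subgroup (Equiv.Perm α))
    [IsPretransitive G α] (hG : ¬ Group.IsSolvable G) (P : Sylow p G) :
    Nat.card (Subgroup.normalizer ((P : Subgroup G) : Set G)) ≠ p := by
  classical
  intro hN
  have hP := sylow_card_of_prime_degree hα G P
  have hNP : Subgroup.normalizer ((P : Subgroup G) : Set G) = (P : Subgroup G) :=
    (Subgroup.eq_of_le_of_card_ge Subgroup.le_normalizer (by rw [hN, hP])).symm
  haveI : IsCyclic (P : Subgroup G) := isCyclic_of_prime_card hP
  have hle : Subgroup.normalizer ((P : Subgroup G) : Set G) ≤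
      Subgroup.centralizer ((P : Subgroup G) : Set G) := by
    rw [hNP]
    exact Subgroup.le_centralizer _
  have hcompl := MonoidHom.ker_transferSylow_isComplement' P hle
  set K := (MonoidHom.transferSylow P hle).ker
  have hKcard : Nat.card K * p = Nat.card G := by rw [← hP]; exact hcompl.card_mul_card
  haveI : IsPreprimitive G α := IsPreprimitive.of_prime_card (by
    rw [Nat.card_eq_fintype_card, hα]; exact Fact.out)
  have hK : K = ⊥ := by
    by_contra hne
    haveI := isPretransitive_of_normal_ne_bot (X := α) K hne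
    obtain ⟨a⟩ := Fintype.card_pos_iff.1 (hα ▸ (Fact.out : p.Prime).pos)
    have hd : p ∣ Nat.card K := by
      have := H13.card_dvd_card_of_transitive (G := K) a
      rwa [Nat.card_eq_fintype_card (α := α), hα] at this
    have h2 : p ^ 2 ∣ Nat.card G := by rw [pow_two, ← hKcard]; exact Nat.mul_dvd_mul_right hd p
    have h3 := P.pow_dvd_card_of_pow_dvd_card h2
    rw [hP] at h3
    have h4 := Nat.le_of_dvd (Fact.out : p.Prime).pos h3
    nlinarith [(Fact.out : p.Prime).two_le]
  refine not_normal_sylow hα G hG P ?_
  have htop : (P : Subgroup G) = ⊤ := by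
    rw [hK] at hcompl
    exact Subgroup.isComplement'_bot_left.1 hcompl
  rw [htop]
  infer_instance

theorem zmod_five_cube : ∀ c : ZMod 5, c ^ 3 = 1 → c = 1 := by decide

/-- Transitive groups of degree seven have no subgroup of order `315`. -/
theorem card_ne_315 (hα : Fintype.card α = 7) (G : Subgroup (Equiv.Perm α))
    [IsPretransitive G α] : Nat.card G ≠ 315 := by
  intro hc
  haveI : Fact (Nat.Prime 5) := ⟨by norm_num⟩
  haveI : Fact (Nat.Prime 3) := ⟨by norm_num⟩
  haveI : IsPreprimitive G α := IsPreprimitive.of_prime_card (by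
    rw [Nat.card_eq_fintype_card, hα]; norm_num)
  let Q : Sylow 5 G := default
  have hQ : Nat.card (Q : Subgroup G) = 5 := by
    rw [Sylow.card_eq_multiplicity, hc]
    rw [show (315 : ℕ) = 5 ^ 1 * 63 by norm_num, Nat.factorization_mul (by norm_num) (by norm_num),
      Finsupp.add_apply, Nat.Prime.factorization_pow (by norm_num), Finsupp.single_eq_same,
      Nat.factorization_eq_zero_of_not_dvd (by norm_num)]
    norm_num
  have hidx : (Q : Subgroup G).index = 63 := by
    have := Subgroup.card_mul_index (Q : Subgroup G)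
    rw [hQ, hc] at this; omega
  have hdvd := Sylow.card_dvd_index Q
  rw [hidx] at hdvd
  have hmod := card_sylow_modEq_one 5 G
  set m := Nat.card (Sylow 5 G) with hm
  have hm' : m = 1 ∨ m = 21 := by
    have h63 := Nat.le_of_dvd (by norm_num) hdvd
    unfold Nat.ModEq at hmod
    interval_cases m <;> omega
  rcases hm' with h1 | h21
  · haveI : Subsingleton (Sylow 5 G) := (Nat.card_eq_one_iff_unique.1 h1).1
    haveI hQn : (Q : Subgroup G).Normal := Sylow.normal_of_subsingleton Q
    have hne : (Q : Subgroup G) ≠ ⊥ := fun h => by rw [h, Subgroup.card_bot] at hQ; norm_num at hQ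
    haveI := isPretransitive_of_normal_ne_bot (X := α) (Q : Subgroup G) hne
    obtain ⟨a⟩ := Fintype.card_pos_iff.1 (by omega : 0 < Fintype.card α)
    have := H13.card_dvd_card_of_transitive (G := (Q : Subgroup G)) a
    rw [Nat.card_eq_fintype_card (α := α), hα, hQ] at this
    norm_num at this
  · -- the normaliser of a Sylow 5-subgroup has order 15, hence an element of order 15
    have hN : Nat.card (Subgroup.normalizer ((Q : Subgroup G) : Set G)) = 15 := by
      have h1 := Subgroup.card_mul_index (Subgroup.normalizer ((Q : Subgroup G) : Set G))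
      have h2 : (Subgroup.normalizer ((Q : Subgroup G) : Set G)).index = 21 :=
        (Q.card_eq_index_normalizer).symm.trans (hm.symm.trans h21)
      rw [h2, hc] at h1
      omega
    set N := Subgroup.normalizer ((Q : Subgroup G) : Set G)
    obtain ⟨x, hx⟩ := exists_prime_orderOf_dvd_card' (G := N) 3 (by rw [hN]; norm_num)
    obtain ⟨y, hy⟩ := exists_prime_orderOf_dvd_card' (G := N) 5 (by rw [hN]; norm_num)
    have hyn : (Subgroup.zpowers y).Normal := by
      refine Subgroup.normal_of_index_eq_minFac_card ?_
      have h1 := Subgroup.card_mul_index (Subgroup.zpowers y)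
      rw [Nat.card_zpowers, hy, hN] at h1
      rw [hN]
      have : Nat.minFac 15 = 3 := by norm_num
      omega
    have hxy : Commute x y := by
      obtain ⟨k, hk⟩ := Submonoid.mem_powers_iff _ _ |>.1
        ((isOfFinOrder_of_finite y).mem_powers_iff_mem_zpowers.2
          (hyn.conj_mem y (Subgroup.mem_zpowers y) x))
      have hiter : ∀ n : ℕ, x ^ n * y * (x ^ n)⁻¹ = y ^ (k ^ n) := by
        intro n
        induction n with
        | zero => simp
        | succ n ih =>
          calc x ^ (n + 1) * y * (x ^ (n + 1))⁻¹ = x ^ n * (x * y * x⁻¹) * (x ^ n)⁻¹ := by group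
            _ = (x ^ n * y * (x ^ n)⁻¹) ^ k := by rw [conj_pow, hk]
            _ = y ^ (k ^ (n + 1)) := by rw [ih, ← pow_mul, pow_succ]
      have h3 := hiter 3
      rw [← hx, pow_orderOf_eq_one, one_mul, inv_one, mul_one, hx] at h3
      have h5 : (k : ZMod 5) ^ 3 = 1 := by
        have h4 : y ^ 1 = y ^ (k ^ 3) := by rw [pow_one]; exact h3
        rw [pow_eq_pow_iff_modEq, hy, ← ZMod.natCast_eq_natCast_iff] at h4
        push_cast at h4
        exact h4.symm
      have hk1 : (k : ZMod 5) = 1 := by
        exact zmod_five_cube _ h5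
      have hk' : y ^ k = y := by
        conv_rhs => rw [← pow_one y]
        rw [pow_eq_pow_iff_modEq, hy, ← ZMod.natCast_eq_natCast_iff, hk1, Nat.cast_one]
      rw [hk'] at hk
      exact (mul_inv_eq_iff_eq_mul.1 hk.symm)
    have hord : orderOf (((x * y : N) : G) : Equiv.Perm α) = 15 := by
      rw [Subgroup.orderOf_coe, Subgroup.orderOf_coe,
        hxy.orderOf_mul_eq_mul_orderOf_of_coprime (by rw [hx, hy]; norm_num), hx, hy]
    set π := (((x * y : N) : G) : Equiv.Perm α)
    have hsum : π.cycleType.sum ≤ 7 := by
      rw [Equiv.Perm.sum_cycleType, ← hα]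
      exact Finset.card_le_univ _
    have hlcm : π.cycleType.lcm = 15 := by rw [Equiv.Perm.lcm_cycleType, hord]
    have h5 : ∃ c ∈ π.cycleType, 5 ∣ c := by
      by_contra h
      push Not at h
      have hdv : π.cycleType.lcm ∣ (π.cycleType.prod) :=
        Multiset.lcm_dvd.2 fun b hb => Multiset.dvd_prod hb
      rw [hlcm] at hdv
      have h5p : 5 ∣ π.cycleType.prod := (Dvd.intro 3 (by norm_num)).trans hdv
      obtain ⟨c, hc, hc5⟩ := (Nat.Prime.prime (by norm_num : Nat.Prime 5)).exists_mem_multiset_dvd h5p
      exact h c hc hc5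
    obtain ⟨c, hc5, hd5⟩ := h5
    have h3 : ∃ c' ∈ π.cycleType, 3 ∣ c' := by
      have hdv : π.cycleType.lcm ∣ (π.cycleType.prod) :=
        Multiset.lcm_dvd.2 fun b hb => Multiset.dvd_prod hb
      rw [hlcm] at hdv
      exact (Nat.Prime.prime (by norm_num : Nat.Prime 3)).exists_mem_multiset_dvd
        ((Dvd.intro 5 (by norm_num)).trans hdv)
    obtain ⟨c', hc3, hd3⟩ := h3
    have hpos : 2 ≤ c := Equiv.Perm.two_le_of_mem_cycleType hc5
    have hpos' : 2 ≤ c' := Equiv.Perm.two_le_of_mem_cycleType hc3
    obtain ⟨u, rfl⟩ := hd5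
    obtain ⟨w, rfl⟩ := hd3
    rcases eq_or_ne (5 * u) (3 * w) with heq | hne
    · have := (Multiset.single_le_sum (fun _ _ => Nat.zero_le _) _ hc5).trans hsum
      omega
    · have hle : ({5 * u, 3 * w} : Multiset ℕ) ≤ π.cycleType := by
        rw [Multiset.le_iff_subset (by simp [hne])]
        intro z hz
        simp only [Multiset.insert_eq_cons, Multiset.mem_cons, Multiset.mem_singleton] at hz
        rcases hz with rfl | rfl <;> assumption
      have h4 : ({5 * u, 3 * w} : Multiset ℕ).sum ≤ 7 := by
        obtain ⟨r, hr⟩ := Multiset.le_iff_exists_add.1 hle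
        rw [hr, Multiset.sum_add] at hsum
        omega
      simp at h4
      omega

/-- A subgroup of `A₇` not the whole group has order at most `360`. -/
theorem card_inf_alternating_le (hα : Fintype.card α = 7) (G : Subgroup (Equiv.Perm α))
    (hA : ¬ alternatingGroup α ≤ G) : Nat.card (G.subgroupOf (alternatingGroup α)) ≤ 360 := by
  classical
  haveI : IsSimpleGroup (alternatingGroup α) :=
    alternatingGroup.isSimpleGroup (by rw [Nat.card_eq_fintype_card, hα]; norm_num)
  set K := G.subgroupOf (alternatingGroup α)
  have hK : K ≠ ⊤ := fun h => hA (Subgroup.subgroupOf_eq_top.1 h)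
  haveI : Nontrivial α := Fintype.one_lt_card_iff_nontrivial.1 (by omega)
  have hA7 : Nat.card (alternatingGroup α) = 2520 := by
    have := two_mul_card_alternatingGroup (α := α)
    rw [Fintype.card_perm, hα] at this
    rw [Nat.card_eq_fintype_card]
    simp [Nat.factorial] at this ⊢
    omega
  have hker : (MulAction.toPermHom (alternatingGroup α) (alternatingGroup α ⧸ K)).ker = ⊥ := by
    rcases IsSimpleGroup.eq_bot_or_eq_top_of_normal
      _ (MonoidHom.normal_ker (MulAction.toPermHom (alternatingGroup α) (alternatingGroup α ⧸ K))) with h | h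
    · exact h
    · exfalso
      apply hK
      rw [← Subgroup.normalCore_eq_ker] at h
      exact top_le_iff.1 (h ▸ Subgroup.normalCore_le K)
  have hd := Subgroup.card_dvd_of_injective _ ((MonoidHom.ker_eq_bot_iff _).1 hker)
  rw [Nat.card_perm, ← Subgroup.index_eq_card, hA7] at hd
  have hidx : 7 ≤ K.index := by
    by_contra hlt
    have h1 : K.index.factorial ∣ Nat.factorial 6 := Nat.factorial_dvd_factorial (by omega)
    have h2 := Nat.le_of_dvd (by norm_num [Nat.factorial]) (hd.trans h1)
    norm_num [Nat.factorial] at h2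
  have := Subgroup.card_mul_index K
  rw [hA7] at this
  nlinarith

/-- The insoluble transitive groups of degree seven not containing `A₇`. -/
theorem degree_seven (hα : Fintype.card α = 7) (G : Subgroup (Equiv.Perm α))
    [IsPretransitive G α] (hG : ¬ Group.IsSolvable G) (hA : ¬ alternatingGroup α ≤ G) :
    Nat.card G = 168 ∧ IsSimpleGroup G := by
  classical
  haveI : Fact (Nat.Prime 7) := ⟨by norm_num⟩
  haveI : IsPreprimitive G α := IsPreprimitive.of_prime_card (by
    rw [Nat.card_eq_fintype_card, hα]; norm_num)
  obtain ⟨a⟩ := Fintype.card_pos_iff.1 (by omega : 0 < Fintype.card α)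
  let P : Sylow 7 G := default
  have hP := sylow_card_of_prime_degree hα G P
  have hp2 : ¬ 7 ^ 2 ∣ Nat.card G := by
    intro h
    have h1 := P.pow_dvd_card_of_pow_dvd_card h
    rw [hP] at h1
    norm_num at h1
  have hNdvd : Nat.card (Subgroup.normalizer ((P : Subgroup G) : Set G)) ∣ 42 := by
    refine (H13.card_normalizer_dvd (P : Subgroup G) hP).trans ?_
    have hfree : ∀ x : α, MulAction.stabilizer (P : Subgroup G) x = ⊥ := by
      intro x
      have hsT := sylow_isPretransitive (G := G) (Ω := α) (f := 1) (by
        rw [Nat.card_eq_fintype_card, hα, pow_one]) P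
      have h1 := Subgroup.index_mul_card (MulAction.stabilizer (P : Subgroup G) x)
      rw [MulAction.index_stabilizer_of_transitive (P : Subgroup G) x, Nat.card_eq_fintype_card (α := α),
        hα, hP] at h1
      exact Subgroup.card_eq_one.1 (by omega)
    have horb := H13.card_orbitRel_mul_of_prime (X := α) (P : Subgroup G) hP hfree
    rw [Nat.card_eq_fintype_card (α := α), hα] at horb
    have hk : Nat.card (orbitRel.Quotient (P : Subgroup G) α) = 1 := by omega
    have hC := H13.card_centralizer_dvd (X := α) hp2 (P : Subgroup G) hP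
    rw [hk, Nat.factorial_one, mul_one] at hC
    exact (Nat.mul_dvd_mul_right hC 6)
  have hidx := Subgroup.card_mul_index (Subgroup.normalizer ((P : Subgroup G) : Set G))
  have hidx2 : (Subgroup.normalizer ((P : Subgroup G) : Set G)).index = Nat.card (Sylow 7 G) :=
    (P.card_eq_index_normalizer).symm
  rw [hidx2] at hidx
  set eN := Nat.card (Subgroup.normalizer ((P : Subgroup G) : Set G)) with heN
  set n := Nat.card (Sylow 7 G) with hn
  have h7N : 7 ∣ eN := hP ▸ Subgroup.card_dvd_of_le Subgroup.le_normalizer
  have hne7 := card_normalizer_ne hα G hG P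
  rw [← heN] at hne7
  have hn1 : n ≠ 1 := by
    intro h1
    haveI : Subsingleton (Sylow 7 G) := (Nat.card_eq_one_iff_unique.1 h1).1
    exact not_normal_sylow hα G hG P (Sylow.normal_of_subsingleton P)
  have hmod := card_sylow_modEq_one 7 G
  rw [← hn] at hmod
  have hS7 : Nat.card G ∣ 5040 := by
    have := Subgroup.card_subgroup_dvd_card G
    rwa [Nat.card_perm, Nat.card_eq_fintype_card (α := α), hα] at this
  have hK360 := card_inf_alternating_le hα G hA
  set sg : G →* ℤˣ := (Equiv.Perm.sign).comp G.subtype with hsg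
  -- the kernel of the sign has the order of `G ∩ A₇`
  have hSK : Nat.card sg.ker = Nat.card (G.subgroupOf (alternatingGroup α)) :=
    Nat.card_congr
      { toFun := fun x => ⟨⟨((x : G) : Equiv.Perm α), Equiv.Perm.mem_alternatingGroup.2 x.2⟩,
          Subgroup.mem_subgroupOf.2 (x : G).2⟩
        invFun := fun y => ⟨⟨((y : alternatingGroup α) : Equiv.Perm α),
          Subgroup.mem_subgroupOf.1 y.2⟩, Equiv.Perm.mem_alternatingGroup.1 (y : alternatingGroup α).2⟩
        left_inv := fun x => rfl
        right_inv := fun y => rfl }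
  have hrange : Nat.card sg.range ≤ 2 := by
    refine le_trans (Nat.card_le_card_of_injective _ Subtype.val_injective) ?_
    rw [Nat.card_eq_fintype_card, Fintype.card_units_int]
  have hGS : Nat.card sg.ker * Nat.card sg.range = Nat.card G := by
    rw [← Subgroup.index_ker]
    exact Subgroup.card_mul_index _
  have hG720 : Nat.card G ≤ 720 := by
    rw [← hGS, hSK]
    calc _ ≤ 360 * 2 := Nat.mul_le_mul hK360 hrange
      _ = 720 := rfl
  have hnN : eN * n = Nat.card G := hidx
  have hn7 : n % 7 = 1 := by
    have := hmod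
    unfold Nat.ModEq at this
    simpa using this
  have hn8 : 8 ≤ n := by omega
  have heN42 : eN = 14 ∨ eN = 21 ∨ eN = 42 := by
    have h1 := Nat.le_of_dvd (by norm_num) hNdvd
    obtain ⟨c, hc⟩ := h7N
    have h2 : c ∣ 6 := by
      rw [hc, show (42 : ℕ) = 7 * 6 by norm_num] at hNdvd
      exact Nat.dvd_of_mul_dvd_mul_left (by norm_num) hNdvd
    have h3 := Nat.le_of_dvd (by norm_num) h2
    interval_cases c <;> omega
  rcases Nat.even_or_odd eN with heven | hodd
  · -- an odd permutation normalises `P`: impossible
    exfalso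
    obtain ⟨σ, t, -, -, -, -, e, -, het⟩ :=
      exists_translation_and_inversion hα (by norm_num) G P heven
    have ht : Equiv.Perm.sign (t : Equiv.Perm α) = -1 := by
      have h1 : (t : Equiv.Perm α) = e.permCongr (Equiv.neg (ZMod 7)) := by
        ext x
        obtain ⟨j, rfl⟩ := e.surjective x
        simp [het]
      rw [h1, Equiv.Perm.sign_permCongr]
      clear * -
      decide
    have hr2 : Nat.card sg.range = 2 := by
      refine le_antisymm hrange ?_
      have hm1 : (-1 : ℤˣ) ∈ sg.range := ⟨t, ht⟩
      haveI : Nontrivial sg.range :=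
        ⟨⟨⟨-1, hm1⟩, 1, fun h => by simpa using congrArg Subtype.val h⟩⟩
      exact Finite.one_lt_card
    haveI h3 := three_transitive_of_even_normalizer hα G hG P heven
    have h210 : 210 ∣ Nat.card G := by
      haveI : IsPretransitive G (Fin 3 ↪ α) := h3
      set x0 : Fin 3 ↪ α :=
        (Fin.castLEEmb (by norm_num : 3 ≤ 7)).trans (Fintype.equivFinOfCardEq hα).symm.toEmbedding
      have horb : MulAction.orbit G x0 = Set.univ :=
        Set.eq_univ_of_forall fun y => MulAction.exists_smul_eq G x0 y
      have hp : Nat.card (Fin 3 ↪ α) ∣ Nat.card G := by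
        have h1 := Subgroup.index_dvd_card (MulAction.stabilizer G x0)
        rw [MulAction.index_stabilizer] at h1
        erw [horb, Set.ncard_univ] at h1
        exact h1
      rwa [Nat.card_eq_fintype_card (α := Fin 3 ↪ α), Fintype.card_embedding_eq, Fintype.card_fin, hα] at hp
    have hcases : Nat.card G = 210 ∨ Nat.card G = 630 := by
      obtain ⟨k, hk⟩ := h210
      have hk3 : k ≤ 3 := by omega
      have hk0 : k ≠ 0 := by
        rintro rfl
        rw [mul_zero] at hk
        exact absurd hk Nat.card_pos.ne'
      have hkn : k ≠ 2 := by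
        rintro rfl
        rw [← hnN] at hk
        rcases heN42 with h | h | h <;> rw [h] at hk <;> omega
      omega
    -- the even part is transitive and insoluble
    set H : Subgroup (Equiv.Perm α) := sg.ker.map G.subtype with hH
    let hHiso : sg.ker ≃* H := sg.ker.equivMapOfInjective _ G.subtype_injective
    have hHcard : Nat.card H * 2 = Nat.card G := by
      rw [← Nat.card_congr hHiso.toEquiv, ← hr2, hGS]
    have hHns : ¬ Group.IsSolvable sg.ker := fun hs => hG
      (Group.isSolvable_of_ker_le_range sg.ker.subtype sg (by rw [Subgroup.range_subtype]))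
    have hHne : sg.ker ≠ ⊥ := fun h => hHns (by rw [h]; infer_instance)
    haveI hker : IsPretransitive sg.ker α := isPretransitive_of_normal_ne_bot (X := α) sg.ker hHne
    haveI : IsPretransitive H α := ⟨fun x y => by
      obtain ⟨g, hg⟩ := exists_smul_eq sg.ker x y
      refine ⟨hHiso g, ?_⟩
      show ((hHiso g : H) : Equiv.Perm α) x = y
      rw [← hg]
      rfl⟩
    have hHns' : ¬ Group.IsSolvable H := fun hs => hHns
      (Group.isSolvable_of_isSolvable_injective (f := hHiso.toMonoidHom) hHiso.injective)
    have hH105 : Nat.card H = 105 := by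
      have := card_ne_315 hα H
      omega
    let Q : Sylow 7 H := default
    have hQ := sylow_card_of_prime_degree hα H Q
    have hQn := card_normalizer_ne hα H hHns' Q
    have hQ1 := not_normal_sylow hα H hHns' Q
    have hQi := Subgroup.card_mul_index (Subgroup.normalizer ((Q : Subgroup H) : Set H))
    have hQ2 : (Subgroup.normalizer ((Q : Subgroup H) : Set H)).index = Nat.card (Sylow 7 H) :=
      (Q.card_eq_index_normalizer).symm
    have hQ7 : 7 ∣ Nat.card (Subgroup.normalizer ((Q : Subgroup H) : Set H)) :=
      dvd_trans (dvd_of_eq hQ.symm) (Subgroup.card_dvd_of_le Subgroup.le_normalizer)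
    have hQm := card_sylow_modEq_one 7 H
    have hQne : Nat.card (Sylow 7 H) ≠ 1 := by
      intro h1
      haveI : Subsingleton (Sylow 7 H) := (Nat.card_eq_one_iff_unique.1 h1).1
      exact hQ1 (Sylow.normal_of_subsingleton Q)
    rw [hQ2, hH105] at hQi
    obtain ⟨c, hc⟩ := hQ7
    rw [hc] at hQi hQn
    have hm15 : Nat.card (Sylow 7 H) ≤ 15 := by
      refine Nat.le_of_dvd (by norm_num) ⟨c, ?_⟩
      rw [mul_assoc] at hQi
      rw [mul_comm]
      omega
    unfold Nat.ModEq at hQm
    generalize Nat.card (Sylow 7 H) = m at *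
    interval_cases m <;> omega
  · -- the normaliser has order `21`
    have h21 : eN = 21 := by
      rcases heN42 with h | h | h <;> rw [h] at hodd <;> first | exact h | exact absurd hodd (by decide)
    rw [h21] at hnN
    have hnd : n ∣ 240 := by
      have h1 : 21 * n ∣ 21 * 240 := by rw [hnN]; simpa using hS7
      exact Nat.dvd_of_mul_dvd_mul_left (by norm_num) h1
    have hn34 : n ≤ 34 := by omega
    have h168 : Nat.card G = 168 := by
      have := card_ne_315 hα G
      interval_cases n <;> omega
    refine ⟨h168, H13.isSimpleGroup_of_normalizer_card (X := α) (q := 3) (by norm_num) a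
      (by rw [Nat.card_eq_fintype_card, hα]) hp2 P (by rw [← heN, h21]) (not_normal_sylow hα G hG P)⟩

end Cfsg.Agent.H36
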