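import Mathlib
import Cfsg.Agent.H13.Engine

/-!
# Computations in the symmetric group on the residues modulo eleven
-/

open MulAction
set_option linter.style.haveILetI false

namespace Cfsg.Agent.H36.Eleven

open Cfsg.Agent.H13

abbrev Z := ZMod 11

/-- Translation by one. -/
def sP : Equiv.Perm Z := Equiv.addRight 1

/-- Multiplication by three. -/
def mP : Equiv.Perm Z := ⟨fun x => 3 * x, fun x => 4 * x, by decide, by decide⟩

/-- Negation. -/
def nP : Equiv.Perm Z := Equiv.neg Z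

theorem wLeft : ∀ c : Z, c ^ 5 = 1 → ∀ x : Z,
    (if (if x ^ 5 = 1 then x ^ 2 else -(c * x ^ 2)) ^ 5 = 1
      then (if x ^ 5 = 1 then x ^ 2 else -(c * x ^ 2)) ^ 3
      else ((if x ^ 5 = 1 then x ^ 2 else -(c * x ^ 2)) * c ^ 4) ^ 3) = x := by decide +kernel

theorem wRight : ∀ c : Z, c ^ 5 = 1 → ∀ y : Z,
    (if (if y ^ 5 = 1 then y ^ 3 else (y * c ^ 4) ^ 3) ^ 5 = 1
      then (if y ^ 5 = 1 then y ^ 3 else (y * c ^ 4) ^ 3) ^ 2
      else -(c * (if y ^ 5 = 1 then y ^ 3 else (y * c ^ 4) ^ 3) ^ 2)) = y := by decide +kernel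

/-- The five permutations squaring the residues, twisted on non-squares. -/
def wP (c : Z) (hc : c ^ 5 = 1) : Equiv.Perm Z :=
  ⟨fun x => if x ^ 5 = 1 then x ^ 2 else -(c * x ^ 2),
    fun y => if y ^ 5 = 1 then y ^ 3 else (y * c ^ 4) ^ 3, wLeft c hc, wRight c hc⟩

theorem sign_sP : Equiv.Perm.sign sP = 1 := by decide +kernel

theorem sign_nP : Equiv.Perm.sign nP = -1 := by decide +kernel

theorem sign_wP : ∀ (c : Z) (hc : c ^ 5 = 1), Equiv.Perm.sign (wP c hc) = 1 := by decide +kernel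

def gens3 : List PL := [([1, 2, 3, 4, 5, 6, 7, 8, 9, 10, 0], [10, 0, 1, 2, 3, 4, 5, 6, 7, 8, 9]), ([0, 3, 6, 9, 1, 4, 7, 10, 2, 5, 8], [0, 4, 8, 1, 5, 9, 2, 6, 10, 3, 7]), ([0, 1, 10, 9, 5, 3, 2, 7, 6, 4, 8], [0, 1, 6, 5, 9, 4, 8, 7, 10, 3, 2])]

def levels3 : List Level := [
  ⟨0, [(0, 0), (1, 0), (1, 1), (2, 1), (2, 2), (3, 0), (3, 1), (4, 0), (5, 1), (6, 0)], [(7, 0, 9), (2, 2, 4)]⟩,
  ⟨1, [(0, 0), (0, 1), (1, 0), (2, 1), (3, 0), (4, 0), (5, 1), (6, 0), (7, 1)], [(4, 0, 7), (2, 0, 2)]⟩,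
  ⟨2, [(0, 0), (0, 1), (1, 0), (2, 0), (3, 0), (3, 1), (4, 0), (4, 1)], [(3, 1, 5), (6, 0, 6)]⟩,
  ⟨3, [(0, 0), (0, 1), (1, 0), (1, 1), (2, 0), (3, 0), (3, 1)], []⟩]

def gens4 : List PL := [([1, 2, 3, 4, 5, 6, 7, 8, 9, 10, 0], [10, 0, 1, 2, 3, 4, 5, 6, 7, 8, 9]), ([0, 3, 6, 9, 1, 4, 7, 10, 2, 5, 8], [0, 4, 8, 1, 5, 9, 2, 6, 10, 3, 7]), ([0, 1, 6, 9, 5, 3, 10, 2, 8, 4, 7], [0, 1, 7, 5, 9, 4, 2, 10, 8, 3, 6])]

def levels4 : List Level := [
  ⟨0, [(0, 0), (1, 0), (1, 1), (2, 1), (3, 0), (3, 1), (4, 0), (4, 2), (5, 0), (7, 0)], [(9, 2, 5), (9, 1, 6)]⟩,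
  ⟨1, [(0, 0), (0, 1), (1, 0), (1, 1), (2, 0), (2, 1), (4, 0), (5, 0), (6, 0)], [(9, 1, 6), (2, 0, 7)]⟩,
  ⟨2, [(0, 0), (0, 1), (1, 1), (2, 0), (3, 0), (4, 1), (5, 0), (7, 0)], [(0, 1, 3), (0, 0, 4)]⟩,
  ⟨3, [(0, 0), (0, 1), (1, 0), (1, 1), (2, 0), (3, 0), (3, 1)], []⟩]

theorem gens3_eq : [sP, mP, wP 3 (by decide)].map (fun σ : Equiv.Perm (Fin 11) => (img σ, img σ⁻¹))
    = gens3 := by decide +kernel

theorem gens4_eq : [sP, mP, wP 4 (by decide)].map (fun σ : Equiv.Perm (Fin 11) => (img σ, img σ⁻¹))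
    = gens4 := by decide +kernel

theorem check3 : check 11 levels3 gens3 = true := by decide +kernel

theorem check4 : check 11 levels4 gens4 = true := by decide +kernel

theorem card3 : chainCard levels3 = 7920 := by decide +kernel

theorem card4 : chainCard levels4 = 7920 := by decide +kernel

theorem card_embedding_four : Nat.card (Fin 4 ↪ Z) = 7920 := by
  rw [Nat.card_eq_fintype_card, Fintype.card_embedding_eq, ZMod.card, Fintype.card_fin]
  rfl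

/-- A group of order `7920` given by a certified chain on the base `0, 1, 2, 3` is sharply
four-transitive. -/
theorem sharp_of_chain {L : List Level} (l : List (Equiv.Perm (Fin 11))) {S : List PL}
    (hS : l.map (fun σ => (img σ, img σ⁻¹)) = S) (hchk : check 11 L S = true)
    (hcard : chainCard L = 7920) (hbase : L.map Level.base = [0, 1, 2, 3])
    (G : Subgroup (Equiv.Perm Z)) (hl : ∀ σ ∈ l, σ ∈ G) :
    7920 ≤ Nat.card G ∧ (Nat.card G = 7920 → IsPretransitive G (Fin 4 ↪ Z) ∧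
      ∀ x : Fin 4 ↪ Z, stabilizer G x = ⊥) := by
  have hv : ∀ a ∈ S, Valid (⊤ : Subgroup (Equiv.Perm (Fin 11))) a := by
    intro a ha
    rw [← hS, List.mem_map] at ha
    obtain ⟨σ, -, rfl⟩ := ha
    exact ⟨σ, Subgroup.mem_top _, rfl⟩
  have hle : genGroup 11 S ≤ (G : Subgroup (Equiv.Perm (Fin 11))) := by
    refine genGroup_le fun a ha => ?_
    rw [← hS, List.mem_map] at ha
    obtain ⟨σ, hσ, rfl⟩ := ha
    exact ⟨σ, hl σ hσ, rfl⟩
  have hc : Nat.card (genGroup 11 S) = 7920 := (check_spec L S hv hchk).2.trans hcard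
  refine ⟨hc.symm.le.trans (Subgroup.card_le_of_le hle), fun hG => ?_⟩
  have heq : genGroup 11 S = (G : Subgroup (Equiv.Perm (Fin 11))) :=
    Subgroup.eq_of_le_of_card_ge hle (hG.le.trans hc.symm.le)
  let x0 : Fin 4 ↪ Z := ⟨fun i => (Fin.castLE (by norm_num : 4 ≤ 11) i : Fin 11), Fin.castLE_injective (by norm_num : 4 ≤ 11)⟩
  refine regular_of_card x0 ?_ (hG.trans card_embedding_four.symm)
  rw [eq_bot_iff]
  intro g hg
  rw [mem_stabilizer_iff] at hg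
  rw [Subgroup.mem_bot]
  apply Subtype.ext
  refine eq_one_of_fix_bases L S hv hchk (g : Equiv.Perm Z) (heq ▸ g.2) ?_
  intro d hd b hb
  have hd' : d.base ∈ L.map Level.base := List.mem_map_of_mem hd
  rw [hbase] at hd'
  have h4 : d.base < 4 := by
    simp at hd'
    omega
  have hbe : (x0 ⟨d.base, h4⟩ : Z) = b := Fin.ext hb
  have := congrArg (fun x : Fin 4 ↪ Z => x ⟨d.base, h4⟩) hg
  rw [← hbe]
  exact this

/-- The two good twists. -/
theorem sharp_of_good (G : Subgroup (Equiv.Perm Z)) (hs : sP ∈ G) (hm : mP ∈ G) {c : Z}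
    {hc : c ^ 5 = 1} (hw : wP c hc ∈ G) (hgood : c = 3 ∨ c = 4) :
    7920 ≤ Nat.card G ∧ (Nat.card G = 7920 → IsPretransitive G (Fin 4 ↪ Z) ∧
      ∀ x : Fin 4 ↪ Z, stabilizer G x = ⊥) := by
  rcases hgood with rfl | rfl
  · refine sharp_of_chain [sP, mP, wP 3 hc] gens3_eq check3 card3 rfl G ?_
    intro σ hσ
    rcases List.mem_cons.mp hσ with rfl | h1
    · exact hs
    rcases List.mem_cons.mp h1 with rfl | h2
    · exact hm
    exact (List.mem_singleton.mp h2) ▸ hw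
  · refine sharp_of_chain [sP, mP, wP 4 hc] gens4_eq check4 card4 rfl G ?_
    intro σ hσ
    rcases List.mem_cons.mp hσ with rfl | h1
    · exact hs
    rcases List.mem_cons.mp h1 with rfl | h2
    · exact hm
    exact (List.mem_singleton.mp h2) ▸ hw

theorem bad_word_one : ((sP * sP * wP 1 (by decide)) ^ 3) ^ 7 = 1 ∧
    (sP * sP * wP 1 (by decide)) ^ 3 ≠ 1 := by decide +kernel

theorem bad_word_five : ((sP * wP 5 (by decide) * mP) ^ 3) ^ 7 = 1 ∧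
    (sP * wP 5 (by decide) * mP) ^ 3 ≠ 1 := by decide +kernel

theorem bad_word_nine : ((sP * sP * wP 9 (by decide)) ^ 3) ^ 7 = 1 ∧
    (sP * sP * wP 9 (by decide)) ^ 3 ≠ 1 := by decide +kernel

theorem squares_list : ∀ c : Z, c ^ 5 = 1 → c = 1 ∨ c = 3 ∨ c = 4 ∨ c = 5 ∨ c = 9 := by decide

/-- The bad twists give elements of order seven. -/
theorem exists_order_seven_of_bad (G : Subgroup (Equiv.Perm Z)) (hs : sP ∈ G) (hm : mP ∈ G)
    {c : Z} {hc : c ^ 5 = 1} (hw : wP c hc ∈ G) (hbad : ¬ (c = 3 ∨ c = 4)) :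
    ∃ k ∈ G, orderOf k = 7 := by
  haveI : Fact (Nat.Prime 7) := ⟨by norm_num⟩
  rcases squares_list c hc with rfl | h3 | h4 | rfl | rfl
  · exact ⟨_, G.pow_mem (G.mul_mem (G.mul_mem hs hs) hw) 3,
      orderOf_eq_prime bad_word_one.1 bad_word_one.2⟩
  · exact absurd (Or.inl h3) hbad
  · exact absurd (Or.inr h4) hbad
  · exact ⟨_, G.pow_mem (G.mul_mem (G.mul_mem hs hw) hm) 3,
      orderOf_eq_prime bad_word_five.1 bad_word_five.2⟩
  · exact ⟨_, G.pow_mem (G.mul_mem (G.mul_mem hs hs) hw) 3,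
      orderOf_eq_prime bad_word_nine.1 bad_word_nine.2⟩

/-- In the presence of negation a good twist gives a five-cycle. -/
theorem twist_cycle : ∀ (c : Z) (hc : c ^ 5 = 1), c = 3 ∨ c = 4 →
    ∀ j : Fin 5, (3 : Z) ^ (j : ℕ) = c →
      (mP ^ (j : ℕ) * (nP * wP c hc * nP) * (wP c hc)⁻¹) ^ 5 = 1 ∧
      (mP ^ (j : ℕ) * (nP * wP c hc * nP) * (wP c hc)⁻¹).support.card = 5 := by decide +kernel

end Cfsg.Agent.H36.Eleven
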