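import Mathlib
import Cfsg.Agent.S0713
import Cfsg.Agent.H13.Simplicity
import Cfsg.Agent.H36.PrimeNormalizer
import Cfsg.Agent.H36.DegreeSeven
import Cfsg.Agent.H36.ElevenData

/-!
# Insoluble transitive groups of degree eleven
-/

open MulAction
set_option linter.style.haveILetI false

namespace Cfsg.Agent.H36.Eleven

instance : Fact (Nat.Prime 11) := ⟨by norm_num⟩

theorem sP_pow (n : ℕ) (x : Z) : (sP ^ n) x = x + n := by
  induction n generalizing x with
  | zero => simp
  | succ n ih =>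
    rw [pow_succ, Equiv.Perm.mul_apply, ih]
    show x + 1 + (n : Z) = x + ((n + 1 : ℕ) : Z)
    push_cast
    ring

theorem orderOf_sP : orderOf sP = 11 :=
  orderOf_eq_prime (Equiv.ext fun x => by rw [sP_pow]; exact add_eq_left.2 (by decide))
    (fun h => by
      have := Equiv.ext_iff.1 h 0
      simp [sP] at this)

theorem isPretransitive_of_translation (G : Subgroup (Equiv.Perm Z)) (hs : sP ∈ G) :
    IsPretransitive G Z := by
  refine ⟨fun x y => ⟨⟨sP ^ (y - x).val, G.pow_mem hs _⟩, ?_⟩⟩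
  show (sP ^ (y - x).val) x = y
  rw [sP_pow, ZMod.natCast_zmod_val]
  ring

/-- Primitive groups of degree eleven not containing the alternating group miss small cycles. -/
theorem no_cycle (G : Subgroup (Equiv.Perm Z)) [IsPreprimitive G Z] (hA : ¬ alternatingGroup Z ≤ G)
    {q : ℕ} (hq : q.Prime) (hq8 : q ≤ 8) {g : Equiv.Perm Z} (hc : g.IsCycle)
    (hsupp : g.support.card = q) : g ∉ G :=
  fun hg => hA (S0713.result G inferInstance hq (by rw [ZMod.card]; norm_num)
    (by rw [ZMod.card]; omega) hc hsupp hg)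

/-- Hence they contain no Sylow subgroup of the symmetric group for such primes. -/
theorem not_pow_dvd (G : Subgroup (Equiv.Perm Z)) [IsPreprimitive G Z]
    (hA : ¬ alternatingGroup Z ≤ G) {q k r : ℕ} [Fact q.Prime] (hq8 : q ≤ 8)
    (hfac : Nat.factorial 11 = q ^ k * r) (hr : ¬ q ∣ r) : ¬ q ^ k ∣ Nat.card G := by
  intro hd
  have hq : q.Prime := Fact.out
  obtain ⟨Q, hQ⟩ := Sylow.exists_subgroup_card_pow_prime q hd
  have hr0 : r ≠ 0 := fun h => hr (h ▸ dvd_zero q)
  have hfk : (Nat.card (Equiv.Perm Z)).factorization q = k := by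
    rw [Nat.card_perm, Nat.card_eq_fintype_card, ZMod.card, hfac,
      Nat.factorization_mul (pow_ne_zero _ hq.ne_zero) hr0, Finsupp.add_apply,
      hq.factorization_pow, Finsupp.single_eq_same, Nat.factorization_eq_zero_of_not_dvd hr,
      add_zero]
  let Q' : Sylow q (Equiv.Perm Z) := Sylow.ofCard (Q.map G.subtype) (by
    rw [hfk, ← Nat.card_congr (Q.equivMapOfInjective _ G.subtype_injective).toEquiv, hQ])
  obtain ⟨c, hc⟩ := (Equiv.Perm.exists_with_cycleType_iff Z (m := {q})).2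
    ⟨by rw [Multiset.sum_singleton, ZMod.card]; omega, by simpa using hq.two_le⟩
  have hcord : orderOf c = q := by rw [← Equiv.Perm.lcm_cycleType, hc]; simp
  obtain ⟨R, hR⟩ := (IsPGroup.of_card (n := 1) (G := Subgroup.zpowers c) (p := q)
    (by rw [Nat.card_zpowers, hcord, pow_one])).exists_le_sylow
  obtain ⟨g, hg⟩ := exists_smul_eq (Equiv.Perm Z) R Q'
  have hmem : g * c * g⁻¹ ∈ (Q' : Subgroup (Equiv.Perm Z)) := by
    rw [← hg]
    exact Subgroup.mem_map_of_mem _ (hR (Subgroup.mem_zpowers c))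
  have hG : g * c * g⁻¹ ∈ G := by
    obtain ⟨x, -, hx⟩ := hmem
    rw [← hx]
    exact x.2
  refine no_cycle G hA hq hq8 ?_ ?_ hG
  · exact (Equiv.Perm.card_cycleType_eq_one.1 (by rw [hc]; rfl)).conj
  · rw [← Equiv.Perm.sum_cycleType, Equiv.Perm.cycleType_conj, hc, Multiset.sum_singleton]

theorem not_seven_dvd (G : Subgroup (Equiv.Perm Z)) [IsPreprimitive G Z]
    (hA : ¬ alternatingGroup Z ≤ G) : ¬ 7 ∣ Nat.card G := by
  haveI : Fact (Nat.Prime 7) := ⟨by norm_num⟩
  intro h
  exact not_pow_dvd G hA (q := 7) (k := 1) (r := 5702400) (by norm_num) (by norm_num [Nat.factorial])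
    (by norm_num) (by rwa [pow_one])

theorem not_twentyfive_dvd (G : Subgroup (Equiv.Perm Z)) [IsPreprimitive G Z]
    (hA : ¬ alternatingGroup Z ≤ G) : ¬ 5 ^ 2 ∣ Nat.card G := by
  haveI : Fact (Nat.Prime 5) := ⟨by norm_num⟩
  exact not_pow_dvd G hA (q := 5) (k := 2) (r := 1596672) (by norm_num) (by norm_num [Nat.factorial]) (by norm_num)

theorem not_eightyone_dvd (G : Subgroup (Equiv.Perm Z)) [IsPreprimitive G Z]
    (hA : ¬ alternatingGroup Z ≤ G) : ¬ 3 ^ 4 ∣ Nat.card G := by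
  haveI : Fact (Nat.Prime 3) := ⟨by norm_num⟩
  exact not_pow_dvd G hA (q := 3) (k := 4) (r := 492800) (by norm_num) (by norm_num [Nat.factorial]) (by norm_num)

theorem conj_pow_apply {g : Equiv.Perm Z} {k : ℕ} (h : g * sP * g⁻¹ = sP ^ k) (x : Z) :
    g x = (k : Z) * x + g 0 := by
  have key : ∀ n : ℕ, g (n : Z) = (k : Z) * n + g 0 := by
    intro n
    induction n with
    | zero => simp
    | succ n ih =>
      have h1 := Equiv.ext_iff.1 h (g (n : Z))
      rw [Equiv.Perm.mul_apply, Equiv.Perm.mul_apply,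
        show g⁻¹ (g (n : Z)) = n from Equiv.symm_apply_apply g _, sP_pow, ih] at h1
      rw [show ((n + 1 : ℕ) : Z) = sP (n : Z) from by push_cast; rfl, h1]
      show (k : Z) * n + g 0 + k = k * sP (n : Z) + g 0
      show (k : Z) * n + g 0 + k = k * ((n : Z) + 1) + g 0
      ring
  simpa [ZMod.natCast_zmod_val] using key x.val

theorem exists_sylow_of_translation (G : Subgroup (Equiv.Perm Z)) (hs : sP ∈ G) :
    ∃ P : Sylow 11 G, (P : Subgroup G) = Subgroup.zpowers (⟨sP, hs⟩ : G) := by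
  haveI := isPretransitive_of_translation G hs
  have ho : orderOf (⟨sP, hs⟩ : G) = 11 := (Subgroup.orderOf_mk _ _).trans orderOf_sP
  obtain ⟨P, hP⟩ := (IsPGroup.of_card (n := 1) (G := Subgroup.zpowers (⟨sP, hs⟩ : G)) (p := 11)
    (by rw [Nat.card_zpowers, ho, pow_one])).exists_le_sylow
  exact ⟨P, (Subgroup.eq_of_le_of_card_ge hP (by
    rw [sylow_card_of_prime_degree (ZMod.card 11) G P, Nat.card_zpowers, ho])).symm⟩

/-- An element of prime order `r ≠ 11` of the normaliser yields a multiplication in `G`. -/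
theorem exists_mult (G : Subgroup (Equiv.Perm Z)) (hs : sP ∈ G) (P : Sylow 11 G)
    (hP : (P : Subgroup G) = Subgroup.zpowers (⟨sP, hs⟩ : G)) {r : ℕ} [Fact r.Prime]
    (hr : (r : Z) ≠ 0) (hd : r ∣ Nat.card (Subgroup.normalizer ((P : Subgroup G) : Set G))) :
    ∃ k : Z, k ≠ 1 ∧ k ^ r = 1 ∧ ∃ h ∈ G, ∀ x, h x = k * x := by
  obtain ⟨y, hy⟩ := exists_prime_orderOf_dvd_card' r hd
  have hmem : (y : G) * ⟨sP, hs⟩ * (y : G)⁻¹ ∈ Subgroup.zpowers (⟨sP, hs⟩ : G) := by
    rw [← hP]
    exact (Subgroup.mem_normalizer_iff.1 y.2 _).1 (hP ▸ Subgroup.mem_zpowers _)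
  obtain ⟨k, hk⟩ := Submonoid.mem_powers_iff _ _ |>.1
    ((isOfFinOrder_of_finite _).mem_powers_iff_mem_zpowers.2 hmem)
  set g : Equiv.Perm Z := ((y : G) : Equiv.Perm Z) with hg
  have hk' : g * sP * g⁻¹ = sP ^ k := (congrArg Subtype.val hk).symm
  have haff := conj_pow_apply hk'
  have hgr : g ^ r = 1 := by
    have h1 : y ^ r = 1 := hy ▸ pow_orderOf_eq_one y
    exact congrArg (fun z : Subgroup.normalizer ((P : Subgroup G) : Set G) =>
      ((z : G) : Equiv.Perm Z)) h1
  have hg1 : g ≠ 1 := fun h => by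
    have h1 : y = 1 := Subtype.ext (Subtype.ext h)
    rw [h1, orderOf_one] at hy
    exact (Fact.out : r.Prime).one_lt.ne hy
  have hiter : ∀ n : ℕ, ∃ b, ∀ x, (g ^ n) x = (k : Z) ^ n * x + b ∧
      ((k : Z) = 1 → b = n * g 0) := by
    intro n
    induction n with
    | zero => exact ⟨0, fun x => ⟨by simp, fun _ => by simp⟩⟩
    | succ n ih =>
      obtain ⟨b, hb⟩ := ih
      refine ⟨k * b + g 0, fun x => ⟨?_, fun h1 => ?_⟩⟩
      · rw [pow_succ', Equiv.Perm.mul_apply, (hb x).1, haff]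
        ring
      · rw [(hb x).2 h1, h1]
        push_cast
        ring
  obtain ⟨b, hb⟩ := hiter r
  rw [hgr] at hb
  have hb0 : b = 0 := by simpa using (hb 0).1.symm
  have hk1 : (k : Z) ≠ 1 := by
    intro h1
    have h2 := (hb 0).2 h1
    rw [hb0] at h2
    have h3 : g 0 = 0 := (mul_eq_zero.1 h2.symm).resolve_left hr
    exact hg1 (Equiv.ext fun x => by rw [haff, h1, h3]; simp)
  refine ⟨k, hk1, ?_, sP ^ (-g 0).val * g, G.mul_mem (G.pow_mem hs _) (y : G).2, fun x => ?_⟩
  · simpa [hb0] using (hb 1).1.symm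
  · rw [Equiv.Perm.mul_apply, sP_pow, ZMod.natCast_zmod_val, haff]
    ring

theorem pow_three_table : ∀ k : Z, k ≠ 1 → k ^ 5 = 1 → ∃ i : Fin 5, k ^ (i : ℕ) = 3 := by decide

theorem mult_iterate {h : Equiv.Perm Z} {k : Z} (hh : ∀ x, h x = k * x) (n : ℕ) (x : Z) :
    (h ^ n) x = k ^ n * x := by
  induction n generalizing x with
  | zero => simp
  | succ n ih => rw [pow_succ', Equiv.Perm.mul_apply, ih, hh, pow_succ']; ring

theorem mP_mem (G : Subgroup (Equiv.Perm Z)) (hs : sP ∈ G) (P : Sylow 11 G)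
    (hP : (P : Subgroup G) = Subgroup.zpowers (⟨sP, hs⟩ : G))
    (hd : 5 ∣ Nat.card (Subgroup.normalizer ((P : Subgroup G) : Set G))) : mP ∈ G := by
  haveI : Fact (Nat.Prime 5) := ⟨by norm_num⟩
  obtain ⟨k, hk1, hk5, h, hG, hh⟩ := exists_mult G hs P hP (by decide) hd
  obtain ⟨i, hi⟩ := pow_three_table k hk1 hk5
  have he : mP = h ^ (i : ℕ) := Equiv.ext fun x => by rw [mult_iterate hh, hi]; rfl
  exact he ▸ G.pow_mem hG _

theorem nP_mem (G : Subgroup (Equiv.Perm Z)) (hs : sP ∈ G) (P : Sylow 11 G)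
    (hP : (P : Subgroup G) = Subgroup.zpowers (⟨sP, hs⟩ : G))
    (hd : 2 ∣ Nat.card (Subgroup.normalizer ((P : Subgroup G) : Set G))) : nP ∈ G := by
  haveI : Fact (Nat.Prime 2) := ⟨by norm_num⟩
  obtain ⟨k, hk1, hk2, h, hG, hh⟩ := exists_mult G hs P hP (by decide) hd
  have hkey : ∀ k : Z, k ≠ 1 → k ^ 2 = 1 → k = -1 := by clear * -; decide
  have he : nP = h := Equiv.ext fun x => by rw [hh, hkey k hk1 hk2, neg_one_mul]; rfl
  exact he ▸ hG

/-- The shape of the Sylow normaliser data. -/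
theorem normalizer_data (G : Subgroup (Equiv.Perm Z)) (hs : sP ∈ G)
    (hns : ¬ Group.IsSolvable G) (P : Sylow 11 G) :
    ¬ 11 ^ 2 ∣ Nat.card G ∧ ∃ r n : ℕ, (r = 2 ∨ r = 5 ∨ r = 10) ∧
      Nat.card (Subgroup.normalizer ((P : Subgroup G) : Set G)) = 11 * r ∧
      n % 11 = 1 ∧ n ≠ 1 ∧ Nat.card G = 11 * r * n := by
  haveI := isPretransitive_of_translation G hs
  have hα : Fintype.card Z = 11 := ZMod.card 11
  have hP := sylow_card_of_prime_degree hα G P
  have hp2 : ¬ 11 ^ 2 ∣ Nat.card G := by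
    intro h
    have h1 := P.pow_dvd_card_of_pow_dvd_card h
    rw [hP] at h1
    norm_num at h1
  refine ⟨hp2, ?_⟩
  have hNdvd : Nat.card (Subgroup.normalizer ((P : Subgroup G) : Set G)) ∣ 110 := by
    refine (H13.card_normalizer_dvd (P : Subgroup G) hP).trans ?_
    have hsT := sylow_isPretransitive (G := G) (Ω := Z) (f := 1) (by
      rw [Nat.card_eq_fintype_card, hα, pow_one]) P
    have hfree : ∀ x : Z, MulAction.stabilizer (P : Subgroup G) x = ⊥ := by
      intro x
      have h1 := Subgroup.index_mul_card (MulAction.stabilizer (P : Subgroup G) x)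
      rw [MulAction.index_stabilizer_of_transitive (P : Subgroup G) x,
        Nat.card_eq_fintype_card (α := Z), hα, hP] at h1
      exact Subgroup.card_eq_one.1 (by omega)
    have horb := H13.card_orbitRel_mul_of_prime (X := Z) (P : Subgroup G) hP hfree
    rw [Nat.card_eq_fintype_card (α := Z), hα] at horb
    have hk : Nat.card (orbitRel.Quotient (P : Subgroup G) Z) = 1 := by omega
    have hC := H13.card_centralizer_dvd (X := Z) hp2 (P : Subgroup G) hP
    rw [hk, Nat.factorial_one, mul_one] at hC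
    exact Nat.mul_dvd_mul_right hC 10
  obtain ⟨r, hr⟩ : 11 ∣ Nat.card (Subgroup.normalizer ((P : Subgroup G) : Set G)) :=
    dvd_trans (dvd_of_eq hP.symm) (Subgroup.card_dvd_of_le Subgroup.le_normalizer)
  have hne := card_normalizer_ne hα G hns P
  rw [hr] at hne hNdvd
  have hr10 : r ∣ 10 :=
    Nat.dvd_of_mul_dvd_mul_left (k := 11) (by norm_num) (by simpa using hNdvd)
  refine ⟨r, Nat.card (Sylow 11 G), ?_, hr, ?_, ?_, ?_⟩
  · have := Nat.le_of_dvd (by norm_num) hr10
    interval_cases r <;> omega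
  · have := card_sylow_modEq_one 11 G
    unfold Nat.ModEq at this
    simpa using this
  · intro h1
    haveI : Subsingleton (Sylow 11 G) := (Nat.card_eq_one_iff_unique.1 h1).1
    exact not_normal_sylow hα G hns P (Sylow.normal_of_subsingleton P)
  · have h2 : (Subgroup.normalizer ((P : Subgroup G) : Set G)).index = Nat.card (Sylow 11 G) :=
      (P.card_eq_index_normalizer).symm
    rw [← hr, ← h2, Subgroup.card_mul_index]

theorem cycleType_five (G : Subgroup (Equiv.Perm Z)) [IsPreprimitive G Z]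
    (hA : ¬ alternatingGroup Z ≤ G) {g : Equiv.Perm Z} (hg : g ∈ G) (ho : orderOf g = 5) :
    g.cycleType = Multiset.replicate 2 5 := by
  obtain ⟨n, hn⟩ := Equiv.Perm.cycleType_prime_order (σ := g) (by rw [ho]; norm_num)
  rw [ho] at hn
  have hle : g.cycleType.sum ≤ 11 := by
    rw [Equiv.Perm.sum_cycleType]
    exact (Finset.card_le_univ _).trans_eq (ZMod.card 11)
  rw [hn, Multiset.sum_replicate, smul_eq_mul] at hle
  have hn1 : n = 0 ∨ n = 1 := by omega
  rcases hn1 with rfl | rfl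
  · refine absurd hg (no_cycle G hA (q := 5) (by norm_num) (by norm_num) ?_ ?_)
    · exact Equiv.Perm.card_cycleType_eq_one.1 (by rw [hn]; rfl)
    · rw [← Equiv.Perm.sum_cycleType, hn]; rfl
  · exact hn

/-- Centralisers of five-elements in even groups have order five. -/
theorem card_centralizer_five (G : Subgroup (Equiv.Perm Z)) [IsPreprimitive G Z]
    (hA : ¬ alternatingGroup Z ≤ G) (heven : G ≤ alternatingGroup Z) (Q : Subgroup G)
    (hQ : Nat.card Q = 5) : Nat.card (Subgroup.centralizer (Q : Set G)) ∣ 5 := by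
  haveI : Fact (Nat.Prime 5) := ⟨by norm_num⟩
  obtain ⟨q, hq⟩ := exists_prime_orderOf_dvd_card' (G := Q) 5 (dvd_of_eq hQ.symm)
  set g : Equiv.Perm Z := ((q : G) : Equiv.Perm Z) with hgdef
  have hgo : orderOf g = 5 := by rw [hgdef, Subgroup.orderOf_coe, Subgroup.orderOf_coe, hq]
  have hct := cycleType_five G hA (q : G).2 hgo
  set Cg : Subgroup (Equiv.Perm Z) := Subgroup.centralizer {g}
  have hC : Nat.card Cg = 50 := by
    rw [Equiv.Perm.nat_card_centralizer, hct, ZMod.card]
    decide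
  have hnot : ¬ Cg ≤ alternatingGroup Z := by
    intro h
    obtain ⟨-, -, h3⟩ := Equiv.Perm.centralizer_le_alternating_iff.1 h
    have := h3 5
    rw [hct] at this
    simp at this
  set K : Subgroup (Equiv.Perm Z) := (Subgroup.centralizer (Q : Set G)).map G.subtype
  have hK : K ≤ Cg ⊓ alternatingGroup Z := by
    rintro _ ⟨x, hx, rfl⟩
    refine ⟨Subgroup.mem_centralizer_singleton_iff.2 ?_, heven x.2⟩
    exact (congrArg Subtype.val (Subgroup.mem_centralizer_iff.1 hx q q.2)).symm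
  have hcardK : Nat.card K = Nat.card (Subgroup.centralizer (Q : Set G)) :=
    (Nat.card_congr (Subgroup.equivMapOfInjective _ _ G.subtype_injective).toEquiv).symm
  have h1 : Nat.card K ∣ Nat.card (Cg ⊓ alternatingGroup Z : Subgroup (Equiv.Perm Z)) :=
    Subgroup.card_dvd_of_le hK
  have h2 : Nat.card (Cg ⊓ alternatingGroup Z : Subgroup (Equiv.Perm Z)) = 25 := by
    let f : Cg →* ℤˣ := Equiv.Perm.sign.comp Cg.subtype
    have hker : Nat.card f.ker = Nat.card (Cg ⊓ alternatingGroup Z : Subgroup (Equiv.Perm Z)) :=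
      Nat.card_congr
        { toFun := fun x => ⟨((x : Cg) : Equiv.Perm Z), (x : Cg).2, Equiv.Perm.mem_alternatingGroup.2 x.2⟩
          invFun := fun y => ⟨⟨(y : Equiv.Perm Z), y.2.1⟩, Equiv.Perm.mem_alternatingGroup.1 y.2.2⟩
          left_inv := fun x => rfl
          right_inv := fun y => rfl }
    have hle2 : Nat.card f.range ≤ 2 := by
      refine le_trans (Nat.card_le_card_of_injective _ Subtype.val_injective) ?_
      rw [Nat.card_eq_fintype_card, Fintype.card_units_int]
    have hm : Nat.card f.ker * Nat.card f.range = 50 := by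
      rw [← Subgroup.index_ker, Subgroup.card_mul_index, hC]
    have hne1 : Nat.card f.range ≠ 1 := by
      intro h
      refine hnot fun x hx => Equiv.Perm.mem_alternatingGroup.2 ?_
      have h' : f ⟨x, hx⟩ ∈ f.range := ⟨⟨x, hx⟩, rfl⟩
      rw [Subgroup.card_eq_one.1 h, Subgroup.mem_bot] at h'
      exact h'
    rw [← hker]
    have : 0 < Nat.card f.range := Nat.card_pos
    have : Nat.card f.range = 2 := by omega
    rw [this] at hm
    omega
  rw [h2, hcardK] at h1
  have h25 := not_twentyfive_dvd G hA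
  obtain ⟨i, hi, hie⟩ := (Nat.dvd_prime_pow (by norm_num : Nat.Prime 5) (m := 2)).1 h1
  rw [hie]
  rcases Nat.lt_or_ge i 2 with hlt | hge
  · interval_cases i <;> norm_num
  · exfalso
    apply h25
    have hi2 : i = 2 := by omega
    rw [hi2] at hie
    rw [← hie]
    exact Subgroup.card_subgroup_dvd_card _

/-- The Sylow five data. -/
theorem five_data (G : Subgroup (Equiv.Perm Z)) [IsPreprimitive G Z]
    (hA : ¬ alternatingGroup Z ≤ G) (heven : G ≤ alternatingGroup Z) (h5 : 5 ∣ Nat.card G) :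
    ∀ Q : Sylow 5 G, Nat.card (Q : Subgroup G) = 5 ∧
      Nat.card (Subgroup.centralizer ((Q : Subgroup G) : Set G)) ∣ 5 ∧
      ∃ eN n, Nat.card (Subgroup.normalizer ((Q : Subgroup G) : Set G)) = eN ∧ eN ∣ 20 ∧
        n % 5 = 1 ∧ eN * n = Nat.card G := by
  haveI : Fact (Nat.Prime 5) := ⟨by norm_num⟩
  intro Q
  have hQ : Nat.card (Q : Subgroup G) = 5 := by
    obtain ⟨i, hi⟩ := IsPGroup.iff_card.1 Q.isPGroup'
    have h1 := Q.dvd_card_of_dvd_card h5
    have h25 := not_twentyfive_dvd G hA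
    rcases Nat.lt_or_ge i 2 with hlt | hge
    · interval_cases i
      · rw [hi] at h1; norm_num at h1
      · simpa using hi
    · exact absurd ((pow_dvd_pow 5 hge).trans (hi ▸ Subgroup.card_subgroup_dvd_card _)) h25
  have hC := card_centralizer_five G hA heven (Q : Subgroup G) hQ
  refine ⟨hQ, hC, _, Nat.card (Sylow 5 G), rfl, ?_, ?_, ?_⟩
  · exact (H13.card_normalizer_dvd (Q : Subgroup G) hQ).trans (Nat.mul_dvd_mul_right hC 4)
  · have := card_sylow_modEq_one 5 G
    unfold Nat.ModEq at this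
    simpa using this
  · have h2 : (Subgroup.normalizer ((Q : Subgroup G) : Set G)).index = Nat.card (Sylow 5 G) :=
      (Q.card_eq_index_normalizer).symm
    rw [← h2, Subgroup.card_mul_index]

theorem exists_sq_root : ∀ b : Z, b ^ 5 = 1 → ∃ y : Z, y ^ 5 = 1 ∧ y ^ 2 = b := by decide

theorem exists_neg_sq_root : ∀ b : Z, b ≠ 0 → b ^ 5 ≠ 1 → ∃ y : Z, y ^ 5 = 1 ∧ -(y ^ 2) = b := by
  decide

theorem neg_pow_five : ∀ b : Z, b ≠ 0 → b ^ 5 ≠ 1 → (-b) ^ 5 = 1 := by decide

theorem three_pow_cases : ∀ a : Z, a ≠ 0 →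
    (a ^ 5 = 1 ∧ ∃ j : Fin 5, 3 ^ (j : ℕ) * a = 1) ∨
      (a ^ 5 ≠ 1 ∧ ∃ j : Fin 5, 3 ^ (j : ℕ) * a = -1) := by decide

theorem three_pow_form : ∀ x : Z, x ≠ 0 →
    ∃ i : Fin 5, x = 3 ^ (i : ℕ) * (if x ^ 5 = 1 then 1 else -1) ∧ x ^ 2 = 9 ^ (i : ℕ) := by decide

/-- A permutation squaring the multiplier is given by two values. -/
theorem eq_of_conj_mult {g : Equiv.Perm Z} (h : ∀ x, g (3 * x) = 9 * g x) (x : Z) :
    g x = (if x ^ 5 = 1 then g 1 else g (-1)) * x ^ 2 := by
  have key : ∀ (i : ℕ) (y : Z), g (3 ^ i * y) = 9 ^ i * g y := by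
    intro i
    induction i with
    | zero => intro y; simp
    | succ i ih => intro y; rw [pow_succ', mul_assoc, h, ih, pow_succ']; ring
  rcases eq_or_ne x 0 with rfl | hx
  · have h0 := h 0
    rw [mul_zero] at h0
    have h8 : (8 : Z) * g 0 = 0 := by linear_combination -h0
    rw [(mul_eq_zero.1 h8).resolve_left (by decide)]
    ring
  · obtain ⟨i, hi, hsq⟩ := three_pow_form x hx
    rw [hsq]
    conv_lhs => rw [hi]
    rw [key]
    split <;> ring

/-- In an even group such a permutation is one of the five standard ones, up to a multiplier. -/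
theorem exists_wP (G : Subgroup (Equiv.Perm Z)) (heven : G ≤ alternatingGroup Z) (hm : mP ∈ G)
    {g : Equiv.Perm Z} (hg : g ∈ G) (h : ∀ x, g (3 * x) = 9 * g x) :
    ∃ (c : Z) (hc : c ^ 5 = 1), wP c hc ∈ G := by
  have hform := eq_of_conj_mult h
  have h0 : g 0 = 0 := by rw [hform 0]; simp
  have ha0 : g 1 ≠ 0 := fun h1 => absurd (g.injective (h1.trans h0.symm)) (by decide)
  obtain ⟨g', hg', hg'0, hg'1, hform', hsame⟩ : ∃ g' ∈ G, g' 0 = 0 ∧ (g' 1 = 1 ∨ g' 1 = -1) ∧
      (∀ x, g' x = (if x ^ 5 = 1 then g' 1 else g' (-1)) * x ^ 2) ∧ g' 0 = 0 := by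
    have hj : ∃ j : ℕ, 3 ^ j * g 1 = 1 ∨ 3 ^ j * g 1 = -1 := by
      rcases three_pow_cases (g 1) ha0 with ⟨-, j, hj⟩ | ⟨-, j, hj⟩
      · exact ⟨j, Or.inl hj⟩
      · exact ⟨j, Or.inr hj⟩
    obtain ⟨j, hj⟩ := hj
    have hmj : ∀ x, (mP ^ j) x = 3 ^ j * x := mult_iterate (fun x => rfl) j
    have hval : ∀ x, (mP ^ j * g) x = 3 ^ j * g x := fun x => by rw [Equiv.Perm.mul_apply, hmj]
    refine ⟨mP ^ j * g, G.mul_mem (G.pow_mem hm _) hg, ?_, ?_, fun x => ?_, ?_⟩
    · rw [hval, h0, mul_zero]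
    · rw [hval]; exact hj
    · rw [hval, hval, hval, hform x]
      split <;> ring
    · rw [hval, h0, mul_zero]
  set b := g' (-1) with hb
  have hb0 : b ≠ 0 := fun h1 => absurd (g'.injective (h1.trans hg'0.symm)) (by decide)
  rcases hg'1 with h1 | h1
  · have hb5 : b ^ 5 ≠ 1 := by
      intro hb5
      obtain ⟨y, hy, hyb⟩ := exists_sq_root b hb5
      have h2 : g' y = b := by rw [hform' y, if_pos hy, h1, hyb, one_mul]
      rw [g'.injective h2] at hy
      exact absurd hy (by decide)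
    have hc := neg_pow_five b hb0 hb5
    refine ⟨-b, hc, ?_⟩
    have he : wP (-b) hc = g' := Equiv.ext fun x => by
      show (if x ^ 5 = 1 then x ^ 2 else -(-b * x ^ 2)) = g' x
      rw [hform' x, h1]
      split <;> ring
    exact he ▸ hg'
  · exfalso
    have hb5 : b ^ 5 = 1 := by
      by_contra hb5
      obtain ⟨y, hy, hyb⟩ := exists_neg_sq_root b hb0 hb5
      have h2 : g' y = b := by rw [hform' y, if_pos hy, h1, neg_one_mul, hyb]
      rw [g'.injective h2] at hy
      exact absurd hy (by decide)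
    have he : g' = nP * wP b hb5 := Equiv.ext fun x => by
      show g' x = -(if x ^ 5 = 1 then x ^ 2 else -(b * x ^ 2))
      rw [hform' x, h1]
      split <;> ring
    have hs := Equiv.Perm.mem_alternatingGroup.1 (heven hg')
    rw [he, map_mul, sign_nP, sign_wP] at hs
    exact absurd hs (by decide)

/-- A group with normaliser of order twenty realises squaring of the multiplier. -/
theorem exists_conj_square (G : Subgroup (Equiv.Perm Z)) (Q : Subgroup G) (hQ : Nat.card Q = 5)
    (hm : mP ∈ G) (hmQ : (⟨mP, hm⟩ : G) ∈ Q)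
    (hC : Nat.card (Subgroup.centralizer (Q : Set G)) ∣ 5)
    (hN : Nat.card (Subgroup.normalizer (Q : Set G)) = 20) :
    ∃ g ∈ G, ∀ x, g (3 * x) = 9 * g x := by
  classical
  haveI : Fact (Nat.Prime 5) := ⟨by norm_num⟩
  set m : G := ⟨mP, hm⟩ with hmdef
  have hmo : orderOf m = 5 := by
    rw [hmdef, Subgroup.orderOf_mk]
    exact orderOf_eq_prime (by decide +kernel) (by decide +kernel)
  have hgen : Q = Subgroup.zpowers m :=
    (Subgroup.eq_of_le_of_card_ge (Subgroup.zpowers_le.2 hmQ)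
      (by rw [Nat.card_zpowers, hmo, hQ])).symm
  have hk : ∀ g : Subgroup.normalizer (Q : Set G), ∃ k : ℕ, k < 5 ∧ (g : G) * m * (g : G)⁻¹ = m ^ k := by
    intro g
    have h1 : (g : G) * m * (g : G)⁻¹ ∈ Subgroup.zpowers m :=
      hgen ▸ (Subgroup.mem_normalizer_iff.1 g.2 m).1 hmQ
    obtain ⟨k, hk⟩ := Submonoid.mem_powers_iff _ _ |>.1
      ((isOfFinOrder_of_finite _).mem_powers_iff_mem_zpowers.2 h1)
    refine ⟨k % 5, Nat.mod_lt _ (by norm_num), ?_⟩
    rw [← hk, ← hmo, pow_mod_orderOf]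
  by_contra hcon
  have h23 : ∀ g : Subgroup.normalizer (Q : Set G),
      (g : G) * m * (g : G)⁻¹ = m ∨ (g : G) * m * (g : G)⁻¹ = m⁻¹ := by
    intro g
    obtain ⟨k, hk5, hk'⟩ := hk g
    have hsq : ∀ x : G, x * m * x⁻¹ = m ^ 2 → False := by
      intro x hx
      apply hcon
      refine ⟨(x : Equiv.Perm Z), x.2, fun z => ?_⟩
      have h1 := Equiv.ext_iff.1 (congrArg Subtype.val hx) ((x : Equiv.Perm Z) z)
      simp only [Subgroup.coe_mul, InvMemClass.coe_inv, SubmonoidClass.coe_pow,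
        Equiv.Perm.mul_apply] at h1
      rw [show ((x : Equiv.Perm Z))⁻¹ ((x : Equiv.Perm Z) z) = z from Equiv.symm_apply_apply _ z] at h1
      refine h1.trans ?_
      show ((mP : Equiv.Perm Z) ^ 2) _ = _
      rw [mult_iterate (k := 3) (fun x => rfl)]
      norm_num
    have hinv : m⁻¹ = m ^ 4 := inv_eq_of_mul_eq_one_right (by
      rw [← pow_succ', show 4 + 1 = orderOf m from hmo.symm, pow_orderOf_eq_one])
    interval_cases k
    · rw [pow_zero, mul_inv_eq_one, mul_eq_left] at hk'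
      rw [hk', orderOf_one] at hmo
      norm_num at hmo
    · exact Or.inl (by rw [hk', pow_one])
    · exact (hsq _ hk').elim
    · refine (hsq ((g : G) * ((g : G) * (g : G))) ?_).elim
      have h9 : ((g : G) * (g : G)) * m * ((g : G) * (g : G))⁻¹ = m ^ 9 := by
        rw [show ((g : G) * g) * m * ((g : G) * g)⁻¹ = g * (g * m * (g : G)⁻¹) * (g : G)⁻¹ by group, hk',
          ← conj_pow, hk', ← pow_mul]
      rw [show ((g : G) * ((g : G) * g)) * m * ((g : G) * ((g : G) * g))⁻¹ =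
          g * (((g : G) * g) * m * ((g : G) * g)⁻¹) * (g : G)⁻¹ by group, h9, ← conj_pow, hk',
        ← pow_mul, ← pow_mod_orderOf, hmo]
    · exact Or.inr (by rw [hk', hinv])
  -- hence the normaliser has at most twice the order of the centraliser
  have hcent : ∀ x : G, x * m * x⁻¹ = m → x ∈ Subgroup.centralizer (Q : Set G) := by
    intro x hx
    rw [hgen, Subgroup.zpowers_eq_closure, Subgroup.centralizer_closure]
    exact Subgroup.mem_centralizer_singleton_iff.2 (mul_inv_eq_iff_eq_mul.1 hx)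
  set P := fun g : Subgroup.normalizer (Q : Set G) => (g : G) * m * (g : G)⁻¹ = m with hPdef
  have hg0 : ∃ g0 : G, ∀ g, ¬ P g → g0⁻¹ * (g : G) ∈ Subgroup.centralizer (Q : Set G) := by
    by_cases h : ∃ g, ¬ P g
    · obtain ⟨g0, hg0⟩ := h
      refine ⟨g0, fun g hg => hcent _ ?_⟩
      have e1 := (h23 g).resolve_left hg
      have e0 := (h23 g0).resolve_left hg0
      calc ((g0 : G)⁻¹ * g) * m * ((g0 : G)⁻¹ * g)⁻¹
          = (g0 : G)⁻¹ * ((g : G) * m * (g : G)⁻¹) * g0 := by group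
        _ = (g0 : G)⁻¹ * ((g0 : G) * m * (g0 : G)⁻¹) * g0 := by rw [e1, e0]
        _ = m := by group
    · push Not at h
      exact ⟨1, fun g hg => absurd (h g) hg⟩
  obtain ⟨g0, hg0⟩ := hg0
  let f : Subgroup.normalizer (Q : Set G) → Bool × Subgroup.centralizer (Q : Set G) := fun g =>
    if h : P g then (true, ⟨g, hcent _ h⟩) else (false, ⟨g0⁻¹ * g, hg0 g h⟩)
  have hf : Function.Injective f := by
    intro a b hab
    by_cases ha : P a <;> by_cases hb : P b <;> simp [f, ha, hb] at hab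
    · exact hab
    · exact hab
  have h1 := Nat.card_le_card_of_injective f hf
  rw [Nat.card_prod, hN, Nat.card_eq_fintype_card (α := Bool), Fintype.card_bool] at h1
  have h2 := Nat.le_of_dvd (by norm_num) hC
  omega

/-- The case of a Sylow normaliser of order fifty-five. -/
theorem core (G : Subgroup (Equiv.Perm Z)) (hs : sP ∈ G) (hns : ¬ Group.IsSolvable G)
    (hA : ¬ alternatingGroup Z ≤ G) (P : Sylow 11 G)
    (hP : (P : Subgroup G) = Subgroup.zpowers (⟨sP, hs⟩ : G))
    (hN : Nat.card (Subgroup.normalizer ((P : Subgroup G) : Set G)) = 55) :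
    IsSimpleGroup G ∧ G ≤ alternatingGroup Z ∧ (Nat.card G = 660 ∨ (Nat.card G = 7920 ∧
      mP ∈ G ∧ ∃ (c : Z) (hc : c ^ 5 = 1), wP c hc ∈ G ∧ (c = 3 ∨ c = 4))) := by
  haveI := isPretransitive_of_translation G hs
  haveI : IsPreprimitive G Z := IsPreprimitive.of_prime_card (by
    rw [Nat.card_eq_fintype_card, ZMod.card]; norm_num)
  haveI : Fact (Nat.Prime 5) := ⟨by norm_num⟩
  obtain ⟨hp2, r, n, -, hr, hn11, hn1, hG⟩ := normalizer_data G hs hns P
  rw [hN] at hr
  have hr5 : r = 5 := by omega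
  rw [hr5] at hG
  haveI hsimple : IsSimpleGroup G := H13.isSimpleGroup_of_normalizer_card (X := Z) (q := 5)
    (by norm_num) 0 (by rw [Nat.card_eq_fintype_card, ZMod.card]) hp2 P hN
    (not_normal_sylow (ZMod.card 11) G hns P)
  have heven : G ≤ alternatingGroup Z := by
    let f : G →* ℤˣ := Equiv.Perm.sign.comp G.subtype
    rcases IsSimpleGroup.eq_bot_or_eq_top_of_normal f.ker (MonoidHom.normal_ker f) with h | h
    · exfalso
      have h1 := Nat.card_le_card_of_injective f ((MonoidHom.ker_eq_bot_iff f).1 h)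
      rw [Nat.card_eq_fintype_card (α := ℤˣ), Fintype.card_units_int, hG] at h1
      omega
    · intro g hg
      have h1 : (⟨g, hg⟩ : G) ∈ f.ker := h ▸ Subgroup.mem_top _
      exact Equiv.Perm.mem_alternatingGroup.2 h1
  refine ⟨hsimple, heven, ?_⟩
  have hdvd : Nat.card G ∣ 19958400 := by
    have h1 := Subgroup.card_dvd_of_le heven
    have h2 := two_mul_card_alternatingGroup (α := Z)
    rw [Fintype.card_perm, ZMod.card] at h2
    rw [Nat.card_eq_fintype_card (α := alternatingGroup Z)] at h1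
    have h3 : Fintype.card (alternatingGroup Z) = 19958400 := by
      rw [show Nat.factorial 11 = 39916800 by norm_num [Nat.factorial]] at h2
      omega
    rwa [h3] at h1
  have hn7 : ¬ 7 ∣ n := fun h => not_seven_dvd G hA (hG ▸ h.mul_left _)
  have hn5 : ¬ 5 ∣ n := fun h => not_twentyfive_dvd G hA (hG ▸ by
    obtain ⟨t, rfl⟩ := h; exact ⟨11 * t, by ring⟩)
  have hn81 : ¬ 81 ∣ n := fun h => not_eightyone_dvd G hA (hG ▸ h.mul_left _)
  have hn : n = 12 ∨ n = 144 ∨ n = 1728 := by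
    rw [hG] at hdvd
    have h1 : n ∣ 10368 * 35 :=
      Nat.dvd_of_mul_dvd_mul_left (k := 55) (by norm_num) (by simpa using hdvd)
    have hco : Nat.Coprime n 35 :=
      Nat.Coprime.mul_right
        ((Nat.Prime.coprime_iff_not_dvd (by norm_num)).2 hn5).symm
        ((Nat.Prime.coprime_iff_not_dvd (by norm_num)).2 hn7).symm
    have h2 : n ∣ 2 ^ 7 * 3 ^ 4 := hco.dvd_of_dvd_mul_right h1
    obtain ⟨u, v, hu, hv, rfl⟩ := exists_dvd_and_dvd_of_dvd_mul h2
    obtain ⟨i, hi, rfl⟩ := (Nat.dvd_prime_pow (by norm_num)).1 hu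
    obtain ⟨j, hj, rfl⟩ := (Nat.dvd_prime_pow (by norm_num)).1 hv
    interval_cases i <;> interval_cases j <;> omega
  have h5 : 5 ∣ Nat.card G := hG ▸ (Dvd.intro_left 11 rfl).mul_right n
  have hm : mP ∈ G := mP_mem G hs P hP (by rw [hN]; norm_num)
  have hmo : orderOf (⟨mP, hm⟩ : G) = 5 := by
    rw [Subgroup.orderOf_mk]
    exact orderOf_eq_prime (by decide +kernel) (by decide +kernel)
  obtain ⟨Q, hQle⟩ := (IsPGroup.of_card (n := 1) (G := Subgroup.zpowers (⟨mP, hm⟩ : G)) (p := 5)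
    (by rw [Nat.card_zpowers, hmo, pow_one])).exists_le_sylow
  obtain ⟨hQ, hC, eN, k, heN, heN20, hk, hkG⟩ := five_data G hA heven h5 Q
  rw [hG] at hkG
  have h5N : 5 ∣ eN :=
    heN ▸ dvd_trans (dvd_of_eq hQ.symm) (Subgroup.card_dvd_of_le Subgroup.le_normalizer)
  have heN' : eN = 5 ∨ eN = 10 ∨ eN = 20 := by
    have := Nat.le_of_dvd (by norm_num) heN20
    interval_cases eN <;> omega
  rcases hn with rfl | rfl | rfl
  · exact Or.inl hG
  · refine Or.inr ⟨hG, hm, ?_⟩
    have he20 : eN = 20 := by rcases heN' with h | h | h <;> rw [h] at hkG <;> omega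
    obtain ⟨g, hg, hg'⟩ := exists_conj_square G (Q : Subgroup G) hQ hm
      (hQle (Subgroup.mem_zpowers _)) hC (heN.trans he20)
    obtain ⟨c, hc, hw⟩ := exists_wP G heven hm hg hg'
    refine ⟨c, hc, hw, ?_⟩
    by_contra hbad
    obtain ⟨k, hk, hk7⟩ := exists_order_seven_of_bad G hs hm hw hbad
    refine not_seven_dvd G hA (dvd_trans (dvd_of_eq hk7.symm) ?_)
    exact (dvd_of_eq (Subgroup.orderOf_mk k hk).symm).trans (orderOf_dvd_natCard (⟨k, hk⟩ : G))
  · exfalso
    rcases heN' with h | h | h <;> rw [h] at hkG <;> omega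

/-- The degree eleven classification, on the residues. -/
theorem eleven (G : Subgroup (Equiv.Perm Z)) (hs : sP ∈ G) (hns : ¬ Group.IsSolvable G)
    (hA : ¬ alternatingGroup Z ≤ G) :
    (Nat.card G = 660 ∧ IsSimpleGroup G) ∨
      (IsPretransitive G (Fin 4 ↪ Z) ∧ ∀ x : Fin 4 ↪ Z, MulAction.stabilizer G x = ⊥) := by
  classical
  haveI := isPretransitive_of_translation G hs
  haveI : IsPreprimitive G Z := IsPreprimitive.of_prime_card (by
    rw [Nat.card_eq_fintype_card, ZMod.card]; norm_num)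
  obtain ⟨P, hP⟩ := exists_sylow_of_translation G hs
  obtain ⟨hp2, r, n, hr, hN, hn11, hn1, hG⟩ := normalizer_data G hs hns P
  by_cases hr5 : r = 5
  · rw [hr5] at hN
    obtain ⟨hsimple, -, h | ⟨h, hm, c, hc, hw, hgood⟩⟩ := core G hs hns hA P hP hN
    · exact Or.inl ⟨h, hsimple⟩
    · exact Or.inr ((sharp_of_good G hs hm hw hgood).2 h)
  exfalso
  have h2N : 2 ∣ Nat.card (Subgroup.normalizer ((P : Subgroup G) : Set G)) := by
    rw [hN]
    rcases hr with h | h | h
    · exact h ▸ (by norm_num)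
    · exact absurd h hr5
    · exact h ▸ (by norm_num)
  have hn := nP_mem G hs P hP h2N
  set f : G →* ℤˣ := Equiv.Perm.sign.comp G.subtype with hf
  set H : Subgroup (Equiv.Perm Z) := G ⊓ alternatingGroup Z with hH
  have hsH : sP ∈ H := ⟨hs, Equiv.Perm.mem_alternatingGroup.2 sign_sP⟩
  let iso : f.ker ≃* H :=
    { toFun := fun x => ⟨((x : G) : Equiv.Perm Z), (x : G).2, Equiv.Perm.mem_alternatingGroup.2 x.2⟩
      invFun := fun y => ⟨⟨(y : Equiv.Perm Z), y.2.1⟩, Equiv.Perm.mem_alternatingGroup.1 y.2.2⟩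
      left_inv := fun x => rfl
      right_inv := fun y => rfl
      map_mul' := fun x y => rfl }
  have hr2 : Nat.card f.range = 2 := by
    refine le_antisymm ?_ ?_
    · refine le_trans (Nat.card_le_card_of_injective _ Subtype.val_injective) ?_
      rw [Nat.card_eq_fintype_card, Fintype.card_units_int]
    · have hm1 : (-1 : ℤˣ) ∈ f.range := ⟨⟨nP, hn⟩, sign_nP⟩
      haveI : Nontrivial f.range :=
        ⟨⟨⟨-1, hm1⟩, 1, fun h => by simpa using congrArg Subtype.val h⟩⟩
      exact Finite.one_lt_card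
  have hcard : Nat.card H * 2 = Nat.card G := by
    rw [← Nat.card_congr iso.toEquiv, ← hr2, ← Subgroup.index_ker, Subgroup.card_mul_index]
  have hHns : ¬ Group.IsSolvable H := fun hs' => hns
    (Group.isSolvable_of_ker_le_range f.ker.subtype f (by
      rw [Subgroup.range_subtype])
      (hG' := Group.isSolvable_of_isSolvable_injective (f := iso.toMonoidHom) iso.injective))
  have hHA : ¬ alternatingGroup Z ≤ H := fun h => hA (h.trans inf_le_left)
  obtain ⟨Q, hQ⟩ := exists_sylow_of_translation H hsH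
  obtain ⟨-, r', n', hr', hN', hn11', -, hH'⟩ := normalizer_data H hsH hHns Q
  have hrr : r' = 5 ∧ r = 10 := by
    have h1 : 11 * (r * n) = 11 * (2 * (r' * n')) := by rw [← mul_assoc, ← hG, ← hcard, hH']; ring
    have h2 : r * n = 2 * (r' * n') := Nat.eq_of_mul_eq_mul_left (by norm_num) h1
    have h3 : (r * n) % 11 = r := by rw [Nat.mul_mod, hn11]; rcases hr with h | h | h <;> rw [h]
    have h4 : (r' * n') % 11 = r' := by
      rw [Nat.mul_mod, hn11']; rcases hr' with h | h | h <;> rw [h]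
    rcases hr with h | h | h <;> rcases hr' with h' | h' | h' <;> omega
  rw [hrr.1] at hN'
  obtain ⟨-, -, h | ⟨-, hm, c, hc, hw, hgood⟩⟩ := core H hsH hHns hHA Q hQ hN'
  · -- order 1320 is not divisible by 990
    haveI h3 := three_transitive_of_even_normalizer (ZMod.card 11) G hns P (even_iff_two_dvd.2 h2N)
    set x0 : Fin 3 ↪ Z := ⟨fun i => (Fin.castLE (by norm_num : 3 ≤ 11) i : Fin 11),
      Fin.castLE_injective (by norm_num : 3 ≤ 11)⟩
    have horb : MulAction.orbit G x0 = Set.univ :=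
      Set.eq_univ_of_forall fun y => MulAction.exists_smul_eq G x0 y
    have h1 := Subgroup.index_dvd_card (MulAction.stabilizer G x0)
    rw [MulAction.index_stabilizer] at h1
    erw [horb, Set.ncard_univ] at h1
    rw [Nat.card_eq_fintype_card (α := Fin 3 ↪ Z), Fintype.card_embedding_eq, Fintype.card_fin,
      ZMod.card, ← hcard, h] at h1
    norm_num [Nat.descFactorial] at h1
  · -- negation turns a good twist into a five-cycle
    have hj : ∀ c : Z, c ^ 5 = 1 → ∃ j : Fin 5, (3 : Z) ^ (j : ℕ) = c := by clear * -; decide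
    obtain ⟨j, hj⟩ := hj c hc
    obtain ⟨h5, hsupp⟩ := twist_cycle c hc hgood j hj
    set k := mP ^ (j : ℕ) * (nP * wP c hc * nP) * (wP c hc)⁻¹
    have hkG : k ∈ G := G.mul_mem (G.mul_mem (G.pow_mem hm.1 _) (G.mul_mem (G.mul_mem hn hw.1) hn))
      (G.inv_mem hw.1)
    haveI : Fact (Nat.Prime 5) := ⟨by norm_num⟩
    have hk1 : k ≠ 1 := fun h => by rw [h] at hsupp; simp at hsupp
    have ho : orderOf k = 5 := orderOf_eq_prime h5 hk1
    refine no_cycle G hA (q := 5) (by norm_num) (by norm_num) ?_ hsupp hkG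
    exact Equiv.Perm.isCycle_of_prime_order (by rw [ho]; norm_num) (by rw [hsupp, ho]; norm_num)

end Cfsg.Agent.H36.Eleven
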