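import Mathlib
import Cfsg.Agent.H36.DegreeEleven
import Cfsg.Agent.H31.PSL2Recog

/-!
# Degree eleven: transport to an arbitrary set of eleven points
-/

open MulAction
set_option linter.style.haveILetI false

namespace Cfsg.Agent.H36

/-- The insoluble transitive groups of degree eleven not containing `A₁₁`. -/
theorem degree_eleven {α : Type*} [Fintype α] [DecidableEq α] (hα : Fintype.card α = 11)
    (G : Subgroup (Equiv.Perm α)) [IsPretransitive G α] (hG : ¬ Group.IsSolvable G)
    (hA : ¬ alternatingGroup α ≤ G) :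
    (MulAction.IsMultiplyPretransitive G α 4 ∧ ∀ x : Fin 4 ↪ α, MulAction.stabilizer G x = ⊥) ∨
      Nonempty (G ≃* Matrix.ProjectiveSpecialLinearGroup (Fin 2) (ZMod 11)) := by
  classical
  haveI : Fact (Nat.Prime 11) := ⟨by norm_num⟩
  let P : Sylow 11 G := default
  obtain ⟨s, hs⟩ := exists_prime_orderOf_dvd_card' (G := (P : Subgroup G)) 11
    (dvd_of_eq (sylow_card_of_prime_degree hα G P).symm)
  have hσ : orderOf ((s : G) : Equiv.Perm α) = 11 := by
    rw [Subgroup.orderOf_coe, Subgroup.orderOf_coe, hs]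
  obtain ⟨e, he⟩ := exists_zmod_numbering hα hσ
  let φ : Equiv.Perm α ≃* Equiv.Perm Eleven.Z := e.symm.permCongrHom
  have hφ : ∀ g x, φ g x = e.symm (g (e x)) := fun g x => rfl
  set K : Subgroup (Equiv.Perm Eleven.Z) := G.map φ.toMonoidHom with hK
  have hsK : Eleven.sP ∈ K := by
    refine ⟨_, (s : G).2, Equiv.ext fun x => ?_⟩
    show φ ((s : G) : Equiv.Perm α) x = _
    rw [hφ]
    have h1 : ((s : G) : Equiv.Perm α) (e x) = e (x + 1) := by simpa using he 1 x
    rw [h1, Equiv.symm_apply_apply]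
    rfl
  let ψ : G ≃* K := G.equivMapOfInjective φ.toMonoidHom φ.injective
  have hψ : ∀ (g : G) x, (ψ g : Equiv.Perm Eleven.Z) x = e.symm ((g : Equiv.Perm α) (e x)) :=
    fun g x => rfl
  have hKns : ¬ Group.IsSolvable K := fun h => hG
    (Group.isSolvable_of_isSolvable_injective (f := ψ.toMonoidHom) ψ.injective)
  have hKA : ¬ alternatingGroup Eleven.Z ≤ K := by
    intro h
    apply hA
    intro g hg
    have h1 : φ g ∈ alternatingGroup Eleven.Z := by
      rw [Equiv.Perm.mem_alternatingGroup] at hg ⊢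
      rw [← hg]
      exact Equiv.Perm.sign_permCongr _ _
    obtain ⟨g', hg', he'⟩ := h h1
    rw [← φ.injective he']
    exact hg'
  rcases Eleven.eleven K hsK hKns hKA with ⟨hcard, hsimple⟩ | ⟨htrans, hstab⟩
  · right
    haveI := hsimple
    obtain ⟨f⟩ := H31.nonempty_mulEquiv_psl_two_prime' (G := K) (p := 11) (k := 60) (by norm_num)
      (by rw [hcard]) (by norm_num) (by decide +kernel) (F := ZMod 11) (ZMod.card 11)
    exact ⟨ψ.trans f⟩
  · left
    let T : (Fin 4 ↪ α) → (Fin 4 ↪ Eleven.Z) := fun x => x.trans e.symm.toEmbedding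
    have hTi : Function.Injective T := fun x y h => by
      ext i
      exact e.symm.injective (congrArg (fun z : Fin 4 ↪ Eleven.Z => z i) h)
    have hTs : ∀ (g : G) (x : Fin 4 ↪ α), T (g • x) = ψ g • T x := by
      intro g x
      ext i
      show e.symm ((g : Equiv.Perm α) (x i)) = (ψ g : Equiv.Perm Eleven.Z) (e.symm (x i))
      rw [hψ, Equiv.apply_symm_apply]
    refine ⟨⟨fun x y => ?_⟩, fun x => ?_⟩
    · obtain ⟨k, hk⟩ := MulAction.exists_smul_eq K (T x) (T y)
      obtain ⟨g, rfl⟩ := ψ.surjective k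
      exact ⟨g, hTi ((hTs g x).trans hk)⟩
    · rw [eq_bot_iff]
      intro g hg
      have h1 : ψ g ∈ MulAction.stabilizer K (T x) :=
        (hTs g x).symm.trans (congrArg T (MulAction.mem_stabilizer_iff.1 hg))
      rw [hstab, Subgroup.mem_bot] at h1
      exact Subgroup.mem_bot.2 (ψ.injective (h1.trans (map_one ψ).symm))

end Cfsg.Agent.H36
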