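import Cfsg.Agent.H63.CoxeterA
import Mathlib

/-! Moore's presentation of the alternating group, from the Coxeter presentation of `S_n`. -/

set_option autoImplicit false
set_option linter.unusedSimpArgs false

namespace Cfsg.Agent.H36.AltMoore

variable (k : ℕ)

/-- Moore's relators. -/
def rels : Set (FreeGroup (Fin (k + 1))) :=
  {g | ∃ i : Fin (k + 1), i.val = 0 ∧ g = FreeGroup.of i ^ 3} ∪
    {g | ∃ i : Fin (k + 1), 1 ≤ i.val ∧ g = FreeGroup.of i ^ 2} ∪
    {g | ∃ i j : Fin (k + 1), j.val = i.val + 1 ∧ g = (FreeGroup.of i * FreeGroup.of j) ^ 3} ∪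
    {g | ∃ i j : Fin (k + 1), i.val + 1 < j.val ∧ g = (FreeGroup.of i * FreeGroup.of j) ^ 2}

abbrev Grp := PresentedGroup (rels k)

/-- The generators. -/
def gen (i : Fin (k + 1)) : Grp k := PresentedGroup.of i

theorem gen_cube : gen k 0 ^ 3 = 1 := by
  rw [gen, PresentedGroup.of, ← map_pow]
  exact PresentedGroup.one_of_mem (Or.inl (Or.inl (Or.inl ⟨0, rfl, rfl⟩)))

theorem gen_sq {i : Fin (k + 1)} (h : 1 ≤ i.val) : gen k i ^ 2 = 1 := by
  rw [gen, PresentedGroup.of, ← map_pow]
  exact PresentedGroup.one_of_mem (Or.inl (Or.inl (Or.inr ⟨i, h, rfl⟩)))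

theorem gen_braid {i j : Fin (k + 1)} (h : j.val = i.val + 1) : (gen k i * gen k j) ^ 3 = 1 := by
  rw [gen, gen, PresentedGroup.of, PresentedGroup.of, ← map_mul, ← map_pow]
  exact PresentedGroup.one_of_mem (Or.inl (Or.inr ⟨i, j, h, rfl⟩))

theorem gen_far {i j : Fin (k + 1)} (h : i.val + 1 < j.val) : (gen k i * gen k j) ^ 2 = 1 := by
  rw [gen, gen, PresentedGroup.of, PresentedGroup.of, ← map_mul, ← map_pow]
  exact PresentedGroup.one_of_mem (Or.inr ⟨i, j, h, rfl⟩)

theorem pow_eq_one_swap {G : Type*} [Group G] {a b : G} {m : ℕ} (h : (a * b) ^ m = 1) :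
    (b * a) ^ m = 1 := by
  have h1 : b * a = b * (a * b) * b⁻¹ := by group
  rw [h1, conj_pow, h, mul_one, mul_inv_cancel]

theorem inv_rels : ∀ r ∈ rels k, FreeGroup.lift (fun i => (gen k i)⁻¹) r = 1 := by
  rintro r (((⟨i, hi, rfl⟩ | ⟨i, hi, rfl⟩) | ⟨i, j, h, rfl⟩) | ⟨i, j, h, rfl⟩) <;>
    simp only [map_pow, map_mul, FreeGroup.lift_apply_of, inv_pow, ← mul_inv_rev, inv_eq_one]
  · rw [show i = 0 from Fin.ext hi, gen_cube]
  · exact gen_sq k hi
  · exact pow_eq_one_swap (gen_braid k h)
  · exact pow_eq_one_swap (gen_far k h)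

/-- The automorphism inverting every generator. -/
def flipHom : Grp k →* Grp k := PresentedGroup.toGroup (inv_rels k)

theorem flipHom_gen (i : Fin (k + 1)) : flipHom k (gen k i) = (gen k i)⁻¹ :=
  PresentedGroup.toGroup.of (inv_rels k)

theorem flipHom_flipHom : (flipHom k).comp (flipHom k) = MonoidHom.id _ :=
  PresentedGroup.ext fun i => by
    show flipHom k (flipHom k (gen k i)) = gen k i
    rw [flipHom_gen, map_inv, flipHom_gen, inv_inv]

/-- The same as an automorphism. -/
def flipAut : MulAut (Grp k) :=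
  MonoidHom.toMulEquiv (flipHom k) (flipHom k) (flipHom_flipHom k) (flipHom_flipHom k)

theorem flipAut_gen (i : Fin (k + 1)) : flipAut k (gen k i) = (gen k i)⁻¹ := flipHom_gen k i

/-- The action of the group of order two. -/
def act : Multiplicative (ZMod 2) →* MulAut (Grp k) where
  toFun z := if Multiplicative.toAdd z = 0 then 1 else flipAut k
  map_one' := if_pos rfl
  map_mul' z w := by
    have h2 : flipAut k * flipAut k = 1 :=
      MulEquiv.ext fun x => DFunLike.congr_fun (flipHom_flipHom k) x
    have hc : ∀ a : ZMod 2, a = 0 ∨ a = 1 := by decide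
    rw [toAdd_mul]
    rcases hc (Multiplicative.toAdd z) with hz | hz <;>
      rcases hc (Multiplicative.toAdd w) with hw | hw <;> rw [hz, hw] <;>
      simp [h2, show (1 : ZMod 2) + 1 = 0 by decide]

abbrev Ext := Grp k ⋊[act k] Multiplicative (ZMod 2)

/-- The outer involution. -/
def σ : Ext k := SemidirectProduct.inr (Multiplicative.ofAdd (1 : ZMod 2))

theorem σ_sq : σ k * σ k = 1 := by
  rw [σ, ← map_mul, ← ofAdd_add, show (1 : ZMod 2) + 1 = 0 by decide, ofAdd_zero, map_one]

theorem σ_conj (i : Fin (k + 1)) :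
    σ k * SemidirectProduct.inl (gen k i) * σ k = SemidirectProduct.inl (gen k i)⁻¹ := by
  have h := SemidirectProduct.inl_aut (φ := act k) (Multiplicative.ofAdd (1 : ZMod 2)) (gen k i)
  rw [show act k (Multiplicative.ofAdd (1 : ZMod 2)) = flipAut k by simp [act],
    flipAut_gen, map_inv SemidirectProduct.inr] at h
  rw [h]
  show σ k * _ * σ k = σ k * _ * (σ k)⁻¹
  rw [inv_eq_of_mul_eq_one_right (σ_sq k)]

/-- Coxeter generators of the extension. -/
def cox : Fin (k + 2) → Ext k := Fin.cases (σ k) fun i => SemidirectProduct.inl (gen k i) * σ k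

theorem cox_zero : cox k 0 = σ k := rfl

theorem cox_succ (i : Fin (k + 1)) : cox k i.succ = SemidirectProduct.inl (gen k i) * σ k := rfl

theorem cox_liftable : (CoxeterMatrix.A (k + 2)).IsLiftable (cox k) := by
  intro i j
  rw [H63.coxeterA_apply]
  have hsq : ∀ a, cox k a * cox k a = 1 := by
    intro a
    induction a using Fin.cases with
    | zero => exact σ_sq k
    | succ a =>
      rw [cox_succ, show SemidirectProduct.inl (gen k a) * σ k *
        (SemidirectProduct.inl (gen k a) * σ k) = SemidirectProduct.inl (gen k a) *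
        (σ k * SemidirectProduct.inl (gen k a) * σ k) by group, σ_conj, ← map_mul, mul_inv_cancel,
        map_one]
  by_cases hij : i = j
  · subst hij; rw [if_pos rfl, pow_one]; exact hsq i
  rw [if_neg hij]
  -- reduce to `i < j`
  suffices h : ∀ a b : Fin (k + 2), a < b →
      (cox k a * cox k b) ^ (if (a : ℕ) + 1 = b then 3 else 2) = 1 by
    rcases lt_or_gt_of_ne hij with hlt | hlt
    · have := h i j hlt
      have hlt' : (i : ℕ) < j := hlt
      by_cases hc : (i : ℕ) + 1 = j
      · rw [if_pos hc] at this; rwa [if_pos (Or.inr hc)]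
      · rw [if_neg hc] at this; rwa [if_neg (by omega)]
    · have := pow_eq_one_swap (h j i hlt)
      have hlt' : (j : ℕ) < i := hlt
      by_cases hc : (j : ℕ) + 1 = i
      · rw [if_pos hc] at this; rwa [if_pos (Or.inl hc)]
      · rw [if_neg hc] at this; rwa [if_neg (by omega)]
  intro a b hab
  induction b using Fin.cases with
  | zero => exact absurd hab (Fin.not_lt_zero a)
  | succ b =>
    induction a using Fin.cases with
    | zero =>
      rw [cox_zero, cox_succ, ← mul_assoc, σ_conj, ← map_pow]
      rw [show ((gen k b)⁻¹) ^ _ = 1 from ?_, map_one]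
      rw [inv_pow, inv_eq_one]
      by_cases hb : b.val = 0
      · rw [if_pos (by simp [hb]), show b = 0 from Fin.ext hb, gen_cube]
      · rw [if_neg (by simp only [Fin.val_succ, Fin.val_zero]; omega)]
        exact gen_sq k (Nat.pos_of_ne_zero hb)
    | succ a =>
      have hab' : (a : ℕ) < b := Fin.succ_lt_succ_iff.1 hab
      rw [cox_succ, cox_succ, show SemidirectProduct.inl (gen k a) * σ k *
        (SemidirectProduct.inl (gen k b) * σ k) = SemidirectProduct.inl (gen k a) *
        (σ k * SemidirectProduct.inl (gen k b) * σ k) by group, σ_conj, ← map_mul,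
        show (gen k b)⁻¹ = gen k b from inv_eq_of_mul_eq_one_right (by
          rw [← pow_two]; exact gen_sq k (by omega)), ← map_pow]
      rw [show (gen k a * gen k b) ^ _ = 1 from ?_, map_one]
      by_cases hc : (a : ℕ) + 1 = b
      · rw [if_pos (by simp only [Fin.val_succ, Fin.val_zero]; omega)]
        exact gen_braid k hc.symm
      · rw [if_neg (by simp only [Fin.val_succ, Fin.val_zero]; omega)]
        exact gen_far k (by omega)

theorem nonempty_equiv :
    Nonempty (Grp k ≃* alternatingGroup (Fin (k + 3))) := by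
  classical
  obtain ⟨cs, hcs⟩ := H63.exists_coxeterSystem_perm (k + 2)
  let s : Fin (k + 2) → Equiv.Perm (Fin (k + 3)) := cs.simple
  have hs2 : ∀ a, s a * s a = 1 := cs.simple_mul_simple_self
  have hsrel : ∀ a b, (s a * s b) ^ CoxeterMatrix.A (k + 2) a b = 1 := cs.simple_mul_simple_pow
  have hsign : ∀ a, Equiv.Perm.sign (s a) = -1 := fun a => by
    show Equiv.Perm.sign (cs.simple a) = -1
    rw [hcs, Equiv.Perm.sign_swap]
    exact (Fin.castSucc_lt_succ).ne
  have hrel : ∀ r ∈ rels k, FreeGroup.lift (fun i : Fin (k + 1) => s i.succ * s 0) r = 1 := by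
    rintro r (((⟨i, hi, rfl⟩ | ⟨i, hi, rfl⟩) | ⟨i, j, h, rfl⟩) | ⟨i, j, h, rfl⟩) <;>
      simp only [map_pow, map_mul, FreeGroup.lift_apply_of]
    · have := hsrel i.succ 0
      rwa [H63.coxeterA_apply, if_neg (Fin.succ_ne_zero i), if_pos (Or.inl (by simp [hi]))] at this
    · have := hsrel i.succ 0
      rwa [H63.coxeterA_apply, if_neg (Fin.succ_ne_zero i), if_neg (by simp only [Fin.val_succ, Fin.val_zero]; omega)] at this
    all_goals
      have hcomm : s 0 * (s j.succ * s 0) = s j.succ := by
        have h0 := hsrel 0 j.succ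
        rw [H63.coxeterA_apply, if_neg (Fin.succ_ne_zero j).symm, if_neg (by simp only [Fin.val_succ, Fin.val_zero]; omega), pow_two]
          at h0
        have h1 := eq_inv_of_mul_eq_one_left h0
        rw [mul_inv_rev, inv_eq_of_mul_eq_one_right (hs2 0),
          inv_eq_of_mul_eq_one_right (hs2 j.succ)] at h1
        rw [← mul_assoc, h1, mul_assoc, hs2, mul_one]
      rw [mul_assoc, hcomm]
      have := hsrel i.succ j.succ
      rw [H63.coxeterA_apply, if_neg (by simp [Fin.ext_iff]; omega)] at this
    · rwa [if_pos (Or.inr (by simp only [Fin.val_succ, Fin.val_zero]; omega))] at this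
    · rwa [if_neg (by simp only [Fin.val_succ, Fin.val_zero]; omega)] at this
  let φ : Grp k →* Equiv.Perm (Fin (k + 3)) := PresentedGroup.toGroup hrel
  have hφ : ∀ i, φ (gen k i) = s i.succ * s 0 := fun i => PresentedGroup.toGroup.of hrel
  let f2 : Multiplicative (ZMod 2) →* Equiv.Perm (Fin (k + 3)) :=
    { toFun := fun z => if Multiplicative.toAdd z = 0 then 1 else s 0
      map_one' := if_pos rfl
      map_mul' := fun z w => by
        have hc : ∀ a : ZMod 2, a = 0 ∨ a = 1 := by decide
        rw [toAdd_mul]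
        rcases hc (Multiplicative.toAdd z) with hz | hz <;>
          rcases hc (Multiplicative.toAdd w) with hw | hw <;> rw [hz, hw] <;>
          simp [hs2, show (1 : ZMod 2) + 1 = 0 by decide] }
  have hf2 : f2 (Multiplicative.ofAdd (1 : ZMod 2)) = s 0 := by simp [f2]
  have hcompat : ∀ g, φ.comp ((act k g).toMonoidHom) = (MulAut.conj (f2 g)).toMonoidHom.comp φ := by
    intro g
    have hc : ∀ a : ZMod 2, a = 0 ∨ a = 1 := by decide
    refine PresentedGroup.ext fun i => ?_
    show φ (act k g (gen k i)) = f2 g * φ (gen k i) * (f2 g)⁻¹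
    rcases hc (Multiplicative.toAdd g) with hg | hg
    · rw [show act k g = 1 from if_pos hg, show f2 g = 1 from if_pos hg]
      simp
    · have hne : ¬ Multiplicative.toAdd g = 0 := by rw [hg]; decide
      rw [show act k g = flipAut k from if_neg hne, show f2 g = s 0 from if_neg hne, flipAut_gen,
        map_inv, hφ, mul_inv_rev]
      simp only [inv_eq_of_mul_eq_one_right (hs2 0), inv_eq_of_mul_eq_one_right (hs2 i.succ),
        mul_assoc, hs2, mul_one]
  let Φ : Ext k →* Equiv.Perm (Fin (k + 3)) := SemidirectProduct.lift φ f2 hcompat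
  let Ψ : Equiv.Perm (Fin (k + 3)) →* Ext k := cs.lift ⟨cox k, cox_liftable k⟩
  have hΨ : ∀ a, Ψ (s a) = cox k a := fun a => cs.lift_apply_simple (cox_liftable k) a
  have hΦσ : Φ (σ k) = s 0 := by
    show Φ (SemidirectProduct.inr _) = _
    rw [SemidirectProduct.lift_inr, hf2]
  have hΦ : ∀ a, Φ (cox k a) = s a := by
    intro a
    induction a using Fin.cases with
    | zero => exact hΦσ
    | succ a =>
      rw [cox_succ, map_mul, hΦσ, show Φ (SemidirectProduct.inl (gen k a)) = φ (gen k a) from
        SemidirectProduct.lift_inl φ f2 hcompat _, hφ, mul_assoc, hs2, mul_one]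
  have h1 : Ψ.comp Φ = MonoidHom.id _ := by
    refine SemidirectProduct.hom_ext ?_ ?_
    · refine PresentedGroup.ext fun i => ?_
      show Ψ (Φ (SemidirectProduct.inl (gen k i))) = SemidirectProduct.inl (gen k i)
      rw [show Φ (SemidirectProduct.inl (gen k i)) = φ (gen k i) from
        SemidirectProduct.lift_inl φ f2 hcompat _, hφ, map_mul, hΨ, hΨ, cox_succ, cox_zero,
        mul_assoc, σ_sq, mul_one]
    · refine MonoidHom.ext fun z => ?_
      have hc : ∀ a : ZMod 2, a = 0 ∨ a = 1 := by decide
      show Ψ (Φ (SemidirectProduct.inr z)) = SemidirectProduct.inr z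
      rcases hc (Multiplicative.toAdd z) with hz | hz
      · rw [show z = 1 from Multiplicative.toAdd.injective hz, map_one, map_one, map_one]
      · rw [show z = Multiplicative.ofAdd (1 : ZMod 2) from Multiplicative.toAdd.injective hz,
          show Φ (SemidirectProduct.inr _) = s 0 from hΦσ, hΨ]
        rfl
  have h2 : Φ.comp Ψ = MonoidHom.id _ := cs.ext_simple fun a => by
    show Φ (Ψ (s a)) = s a
    rw [hΨ, hΦ]
  have hinj : Function.Injective φ := fun a b h => by
    refine SemidirectProduct.inl_injective (φ := act k) ?_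
    have h3 := congrArg Ψ (show Φ (SemidirectProduct.inl a) = Φ (SemidirectProduct.inl b) by
      rw [SemidirectProduct.lift_inl, SemidirectProduct.lift_inl]; exact h)
    exact ((DFunLike.congr_fun h1 _).symm.trans h3).trans (DFunLike.congr_fun h1 _)
  have hrange : φ.range = alternatingGroup (Fin (k + 3)) := by
    refine le_antisymm ?_ fun g hg => ?_
    · rintro _ ⟨x, rfl⟩
      have : (Equiv.Perm.sign.comp φ : Grp k →* ℤˣ) = 1 := PresentedGroup.ext fun i => by
        show Equiv.Perm.sign (φ (gen k i)) = 1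
        rw [hφ, map_mul, hsign, hsign]; decide
      exact Equiv.Perm.mem_alternatingGroup.2 (DFunLike.congr_fun this x)
    · rw [Equiv.Perm.mem_alternatingGroup] at hg
      let sg : Multiplicative (ZMod 2) →* ℤˣ :=
        { toFun := fun z => if Multiplicative.toAdd z = 0 then 1 else -1
          map_one' := if_pos rfl
          map_mul' := by decide }
      have h3 : (sg.comp (SemidirectProduct.rightHom.comp Ψ)) = Equiv.Perm.sign := by
        refine cs.ext_simple fun a => ?_
        show sg (Ψ (s a)).right = Equiv.Perm.sign (s a)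
        rw [hΨ, hsign]
        induction a using Fin.cases with
        | zero => simp [cox_zero, σ, sg]
        | succ a => simp [cox_succ, σ, sg]
      have h4 : (Ψ g).right = 1 := by
        have h5 : sg (Ψ g).right = 1 := (DFunLike.congr_fun h3 g).trans hg
        revert h5
        generalize (Ψ g).right = z
        revert z
        decide
      refine ⟨(Ψ g).left, ?_⟩
      have h5 : Φ (Ψ g) = g := DFunLike.congr_fun h2 g
      conv_rhs => rw [← h5, ← SemidirectProduct.inl_left_mul_inr_right (Ψ g), h4, map_one, mul_one]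
      exact (SemidirectProduct.lift_inl φ f2 hcompat _).symm
  exact ⟨(MonoidHom.ofInjective hinj).trans (MulEquiv.subgroupCongr hrange)⟩

end Cfsg.Agent.H36.AltMoore
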