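import Cfsg.Agent.H36.PermSpectrum

/-!
Kernel-checkable certificates for a permutation group of known order: a straight-line program, lower
bounds for the orbits along a base, membership tests for base images, and complete lists of the
elements conjugating one given element to another.

Once the products of the orbit bounds equals the order, the base is faithful and the sifting test is
complete, with no Schreier generators checked.
-/

set_option autoImplicit false

open Equiv Cfsg.Agent.H16

namespace Cfsg.Agent.H36.AutEngine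

/-- The packed setting. -/
structure Ctx where
  /-- the degree -/
  n : ℕ
  /-- the field width -/
  w : ℕ
  /-- generators -/
  gens : List ℕ
  /-- the number of program entries -/
  ns : ℕ
  /-- the entries -/
  slp : NTree
  /-- factors: two earlier entries; the first entries are the generators -/
  edge : PArr

/-- A level of the base. -/
structure Level where
  /-- the base point -/
  b : ℕ
  /-- elements fixing the earlier base points -/
  gens : List ℕ
  /-- their inverses -/
  invs : List ℕ
  /-- for each point: element, parent and rank; rank zero outside the orbit -/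
  tree : PArr

namespace Ctx

variable (D : Ctx)

/-- The image of a point under a packed map. -/
noncomputable def ap (P x : ℕ) : ℕ := pim D.w P x

/-- An entry. -/
noncomputable def el (k : ℕ) : ℕ := D.slp.get k

/-- A test on all points. -/
noncomputable def allPts (p : ℕ → Bool) : Bool := allFrom p D.n 0

/-- The test of an entry. -/
noncomputable def slpOk (k : ℕ) : Bool :=
  forceNat (D.el k) fun P =>
  bif Nat.blt k D.gens.length then D.allPts fun x => Nat.beq (D.ap P x) (D.ap (getN D.gens k) x)
  else forceNat (bitField (D.edge.get 48 k) 0 16) fun a => forceNat (bitField (D.edge.get 48 k) 16 16) fun b =>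
    forceNat (D.el a) fun A => forceNat (D.el b) fun B =>
      Nat.blt a k && Nat.blt b k && D.allPts fun x => Nat.beq (D.ap P x) (D.ap A (D.ap B x))

/-- The rank of a point in a level. -/
noncomputable def rank (L : Level) (t : ℕ) : ℕ := bitField (L.tree.get 48 t) 32 16

/-- The size of the listed orbit. -/
noncomputable def cnt (L : Level) : ℕ := countFrom (fun t => !(Nat.beq (rank L t) 0)) D.n 0

/-- The test of the elements of a level, given the earlier base points. -/
noncomputable def levelGensOk (prev : List ℕ) (L : Level) : Bool :=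
  Nat.beq L.gens.length L.invs.length && Nat.blt L.b D.n &&
  allFrom (fun j => forceNat (getN L.gens j) fun g => forceNat (getN L.invs j) fun h =>
    Nat.blt g D.ns && Nat.blt h D.ns &&
    forceNat (D.el g) fun P => forceNat (D.el h) fun Q =>
      D.allPts (fun x => Nat.beq (D.ap Q (D.ap P x)) x) && prev.all (fun b => Nat.beq (D.ap P b) b)) L.gens.length 0

/-- The tree test at a point. -/
noncomputable def treeOk (L : Level) (t : ℕ) : Bool :=
  forceNat (rank L t) fun r =>
  bif Nat.beq r 0 then true else bif Nat.beq t L.b then Nat.beq r 1 else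
    forceNat (bitField (L.tree.get 48 t) 0 16) fun g => forceNat (bitField (L.tree.get 48 t) 16 16) fun p =>
      Nat.blt g L.gens.length && Nat.blt p D.n && Nat.beq (Nat.succ (rank L p)) r && Nat.blt 0 (rank L p) &&
        Nat.beq (D.ap (D.el (getN L.gens g)) p) t

/-- A level is valid. -/
noncomputable def levelOk (prev : List ℕ) (L : Level) : Bool :=
  D.levelGensOk prev L && allFrom (D.treeOk L) D.n 0

/-- All levels are valid. -/
noncomputable def levelsOk (Ls : List Level) : List ℕ → Bool :=
  List.rec (motive := fun _ => List ℕ → Bool) (fun _ => true)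
    (fun L _ ih prev => D.levelOk prev L && ih (L.b :: prev)) Ls

/-- The product of the orbit sizes. -/
noncomputable def prodCnt (Ls : List Level) : ℕ :=
  List.rec (motive := fun _ => ℕ) 1 (fun L _ ih => Nat.mul (D.cnt L) ih) Ls

/-- The inverse of the transversal element of `t` applied to a point. -/
noncomputable def undo (L : Level) (fuel : ℕ) : ℕ → ℕ → ℕ :=
  Nat.rec (motive := fun _ => ℕ → ℕ → ℕ) (fun _ y => y)
    (fun _ ih t y => bif Nat.beq t L.b then y else
      forceNat (L.tree.get 48 t) fun v =>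
      forceNat (D.ap (D.el (getN L.invs (bitField v 0 16))) y) fun y' =>
      forceNat (bitField v 16 16) fun p => ih p y') fuel

/-- Images of the base are those of an element of the group. -/
noncomputable def sift (Ls : List Level) : List ℕ → Bool :=
  List.rec (motive := fun _ => List ℕ → Bool) (fun _ => true)
    (fun L _ ih ts => List.rec (motive := fun _ => Bool) false
      (fun t rest _ => forceNat (rank L t) fun r =>
        bif Nat.beq r 0 then false else ih (rest.map fun y => D.undo L r t y)) ts) Ls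

/-- Two packed maps agree on the base. -/
noncomputable def agree (Ls : List Level) (f g : ℕ → ℕ) : Bool :=
  Ls.all fun L => Nat.beq (f L.b) (g L.b)

end Ctx

/-- A complete list of the elements conjugating `g` to `h`. -/
structure TransCert where
  /-- the element -/
  g : ℕ
  /-- its image -/
  h : ℕ
  /-- points whose images are free -/
  roots : List ℕ
  /-- each base point as a power of `g` applied to one of them -/
  pows : List (List ℕ)
  /-- the elements found -/
  sols : List ℕ

namespace Ctx

variable (D : Ctx)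

/-- The base images determined by the images `m` of the free points. -/
noncomputable def tuple (C : TransCert) (m : ℕ) : List ℕ :=
  C.pows.map fun p => iterPt (D.ap (D.el C.h)) (getN p 1) (Nat.mod (Nat.div m (Nat.pow D.n (getN p 0))) D.n)

/-- The test of a candidate. -/
noncomputable def candOk (Ls : List Level) (C : TransCert) (m : ℕ) : Bool :=
  forceNat m fun m =>
  !(D.sift Ls (D.tuple C m)) || C.sols.any (fun s => natListEq (D.tuple C m) (Ls.map fun L => D.ap (D.el s) L.b))

/-- The shape of a certificate. -/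
noncomputable def transShapeOk (Ls : List Level) (C : TransCert) : Bool :=
  Nat.blt C.g D.ns && Nat.blt C.h D.ns && C.sols.all (fun s => Nat.blt s D.ns) && C.roots.all (fun r => Nat.blt r D.n) &&
  Nat.beq C.pows.length Ls.length &&
  allFrom (fun i => forceNat (getN (getW C.pows i) 0) fun r =>
    Nat.blt r C.roots.length &&
      Nat.beq (iterPt (D.ap (D.el C.g)) (getN (getW C.pows i) 1) (getN C.roots r)) (getN (Ls.map Level.b) i)) Ls.length 0

/-- The packed map of a permutation. -/
def Rep (g : Perm (Fin D.n)) (P : ℕ) : Prop := ∀ x : Fin D.n, ((g x : Fin D.n) : ℕ) = D.ap P x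

variable {D}

theorem Rep.unique {g g' : Perm (Fin D.n)} {P : ℕ} (h : D.Rep g P) (h' : D.Rep g' P) : g = g' :=
  Equiv.ext fun x => Fin.ext ((h x).trans (h' x).symm)

theorem pts_spec {f g : ℕ → ℕ} (h : D.allPts (fun x => Nat.beq (f x) (g x)) = true) (x : Fin D.n) : f x = g x :=
  Nat.eq_of_beq_eq_true (allFrom_spec h x (Nat.zero_le _) (by simp))

theorem iterPt_spec {g : Perm (Fin D.n)} {f : ℕ → ℕ} (h : ∀ x : Fin D.n, f x = (g x : Fin D.n))
    (m : ℕ) (x : Fin D.n) : iterPt f m x = ((g ^ m) x : Fin D.n) := by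
  induction m with
  | zero => simp [iterPt]
  | succ m ih =>
    show forceNat (iterPt f m x) f = _
    rw [forceNat_eq, ih, h, pow_succ', Perm.mul_apply]

theorem prodCnt_nil : D.prodCnt [] = 1 := rfl

theorem prodCnt_cons (L : Level) (Ls : List Level) : D.prodCnt (L :: Ls) = D.cnt L * D.prodCnt Ls := rfl

section

variable (σ : Fin D.gens.length → Perm (Fin D.n)) (hσ : ∀ c, D.Rep (σ c) (getN D.gens c))
variable (hslp : ∀ k, k < D.ns → D.slpOk k = true)

include hσ hslp

theorem el_mem : ∀ k, k < D.ns → ∃ g ∈ Subgroup.closure (Set.range σ), D.Rep g (D.el k) := by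
  intro k
  induction k using Nat.strong_induction_on with
  | h k ih =>
    intro hk
    have h := hslp k hk
    simp only [slpOk, forceNat_eq] at h
    by_cases h2 : k < D.gens.length
    · rw [show Nat.blt k D.gens.length = true by simpa using h2, cond_true] at h
      exact ⟨σ ⟨k, h2⟩, Subgroup.subset_closure ⟨_, rfl⟩, fun x => (hσ ⟨k, h2⟩ x).trans (pts_spec h x).symm⟩
    · rw [show Nat.blt k D.gens.length = false by simpa [Bool.eq_false_iff] using h2, cond_false] at h
      simp only [Bool.and_eq_true, Nat.blt_eq] at h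
      obtain ⟨⟨ha, hb⟩, hx⟩ := h
      obtain ⟨g, hg, hr⟩ := ih _ ha (lt_trans ha hk)
      obtain ⟨g', hg', hr'⟩ := ih _ hb (lt_trans hb hk)
      exact ⟨g * g', mul_mem hg hg', fun x => by rw [Perm.mul_apply, hr, hr', pts_spec hx x]⟩

/-- An element of a level and its inverse. -/
theorem level_el {prev : List ℕ} {L : Level} (h : D.levelGensOk prev L = true) {j : ℕ} (hj : j < L.gens.length) :
    ∃ g ∈ Subgroup.closure (Set.range σ), D.Rep g (D.el (getN L.gens j)) ∧ D.Rep g⁻¹ (D.el (getN L.invs j)) ∧
      ∀ b : Fin D.n, (b : ℕ) ∈ prev → g b = b := by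
  simp only [levelGensOk, Bool.and_eq_true] at h
  have h' := allFrom_spec h.2 j (Nat.zero_le _) (by omega)
  simp only [forceNat_eq, Bool.and_eq_true, Nat.blt_eq] at h'
  obtain ⟨⟨hg, hh⟩, hinv, hfix⟩ := h'
  obtain ⟨g, hgm, hgr⟩ := el_mem σ hσ hslp _ hg
  obtain ⟨g', -, hgr'⟩ := el_mem σ hσ hslp _ hh
  have e : g' * g = 1 := Equiv.ext fun x => Fin.ext (by rw [Perm.mul_apply, hgr', hgr, pts_spec hinv x]; rfl)
  refine ⟨g, hgm, hgr, eq_inv_of_mul_eq_one_left e ▸ hgr', fun b hb => Fin.ext ?_⟩
  rw [hgr]
  exact Nat.eq_of_beq_eq_true (List.all_eq_true.1 hfix _ hb)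

/-- The transversal: reaching a listed point, and undoing. -/
theorem tree_el {prev : List ℕ} {L : Level} (h : D.levelOk prev L = true) (H : Subgroup (Perm (Fin D.n)))
    (hH : ∀ g ∈ Subgroup.closure (Set.range σ), (∀ b : Fin D.n, (b : ℕ) ∈ prev → g b = b) → g ∈ H) :
    ∀ r, ∀ t : Fin D.n, rank L t = r → r ≠ 0 →
      ∃ u ∈ H, (∀ b : Fin D.n, (b : ℕ) = L.b → u b = t) ∧
        ∀ y : Fin D.n, ((u⁻¹ y : Fin D.n) : ℕ) = D.undo L r t y := by
  simp only [levelOk, Bool.and_eq_true] at h
  intro r
  induction r using Nat.strong_induction_on with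
  | h r ih =>
    intro t hr h0
    have ht := allFrom_spec h.2 t (Nat.zero_le _) (by omega)
    simp only [treeOk, forceNat_eq, hr, show Nat.beq r 0 = false from by simpa [Bool.eq_false_iff] using h0, cond_false] at ht
    obtain ⟨r', rfl⟩ := Nat.exists_eq_succ_of_ne_zero h0
    by_cases htb : (t : ℕ) = L.b
    · refine ⟨1, one_mem _, fun b hb => Fin.ext (by simp [hb, htb]), fun y => ?_⟩
      show _ = (bif Nat.beq (t : ℕ) L.b then (y : ℕ) else _)
      rw [show Nat.beq (t : ℕ) L.b = true by simp [htb], cond_true]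
      simp
    · have hne : Nat.beq (t : ℕ) L.b = false := by simpa [Bool.eq_false_iff] using htb
      rw [hne, cond_false] at ht
      simp only [Bool.and_eq_true, Nat.blt_eq] at ht
      obtain ⟨⟨⟨⟨hg, hp⟩, hsucc⟩, hpos⟩, hx⟩ := ht
      have hsucc' : rank L _ + 1 = r' + 1 := Nat.eq_of_beq_eq_true hsucc
      obtain ⟨g, hgm, hgr, hgi, hgf⟩ := level_el σ hσ hslp h.1 hg
      set p : Fin D.n := ⟨_, hp⟩
      have hgp : g p = t := Fin.ext ((hgr p).trans (Nat.eq_of_beq_eq_true hx))
      obtain ⟨u, huH, hub, hui⟩ := ih r' (Nat.lt_succ_self r') p (Nat.succ_injective hsucc') (by omega)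
      refine ⟨g * u, mul_mem (hH g hgm hgf) huH, fun b hb => ?_, fun y => ?_⟩
      · rw [Perm.mul_apply, hub b hb, hgp]
      · show _ = (bif Nat.beq (t : ℕ) L.b then (y : ℕ) else forceNat _ _)
        rw [hne, cond_false]
        simp only [forceNat_eq]
        rw [mul_inv_rev, Perm.mul_apply, hui, hgi]
        simp only [undo, forceNat_eq]
        rfl

/-- The pointwise stabiliser of base points. -/
def fixing (H : Subgroup (Perm (Fin D.n))) (b : Fin D.n) : Subgroup (Perm (Fin D.n)) :=
  H ⊓ MulAction.stabilizer (Perm (Fin D.n)) b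

omit hσ hslp in
theorem card_orbit_mul (H : Subgroup (Perm (Fin D.n))) (b : Fin D.n) :
    Nat.card H = Nat.card (MulAction.orbit H b) * Nat.card (fixing H b) := by
  rw [Nat.card_congr (MulAction.orbitEquivQuotientStabilizer H b)]
  have e : Nat.card (MulAction.stabilizer H b) = Nat.card (fixing H b) :=
    Nat.card_congr
      { toFun := fun g => ⟨g.1.1, g.1.2, g.2⟩
        invFun := fun g => ⟨⟨g.1, g.2.1⟩, g.2.2⟩ }
  rw [← e]
  exact Subgroup.card_eq_card_quotient_mul_card_subgroup _

theorem cnt_le {prev : List ℕ} {L : Level} (h : D.levelOk prev L = true) (hb : L.b < D.n)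
    (H : Subgroup (Perm (Fin D.n)))
    (hH : ∀ g ∈ Subgroup.closure (Set.range σ), (∀ b : Fin D.n, (b : ℕ) ∈ prev → g b = b) → g ∈ H) :
    D.cnt L ≤ Nat.card (MulAction.orbit H (⟨L.b, hb⟩ : Fin D.n)) ∧
      (D.cnt L = Nat.card (MulAction.orbit H (⟨L.b, hb⟩ : Fin D.n)) →
        ∀ c ∈ H, rank L (c ⟨L.b, hb⟩ : Fin D.n) ≠ 0) := by
  classical
  set T := (Finset.univ : Finset (Fin D.n)).filter fun t : Fin D.n => rank L (t : ℕ) ≠ 0 with hT
  have hTc : T.card = D.cnt L := by
    rw [cnt, countFrom_spec, hT]
    refine Finset.card_bij (fun t _ => (t : ℕ)) ?_ (fun a _ b _ e => Fin.ext e) ?_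
    · intro t ht
      refine Finset.mem_filter.2 ⟨Finset.mem_Ico.2 ⟨Nat.zero_le _, by omega⟩, ?_⟩
      simpa [Bool.eq_false_iff] using (Finset.mem_filter.1 ht).2
    · intro t ht
      obtain ⟨ht1, ht2⟩ := Finset.mem_filter.1 ht
      refine ⟨⟨t, by simpa using ht1⟩, Finset.mem_filter.2 ⟨Finset.mem_univ _, ?_⟩, rfl⟩
      simpa [Bool.eq_false_iff] using ht2
  have hsub : (T : Set (Fin D.n)) ⊆ MulAction.orbit H (⟨L.b, hb⟩ : Fin D.n) := fun t ht => by
    obtain ⟨u, huH, hub, -⟩ := tree_el σ hσ hslp h H hH _ t rfl (Finset.mem_filter.1 ht).2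
    exact ⟨⟨u, huH⟩, hub _ rfl⟩
  have hncard : (T : Set (Fin D.n)).ncard = D.cnt L := by rw [Set.ncard_coe_finset, hTc]
  rw [Nat.card_coe_set_eq]
  refine ⟨hncard ▸ Set.ncard_le_ncard hsub, fun e c hc => ?_⟩
  have heq := Set.eq_of_subset_of_ncard_le hsub (by omega)
  have : c ⟨L.b, hb⟩ ∈ (T : Set (Fin D.n)) := by rw [heq]; exact ⟨⟨c, hc⟩, rfl⟩
  exact (Finset.mem_filter.1 this).2

theorem level_facts : ∀ (Ls : List Level) (prev : List ℕ), D.levelsOk Ls prev = true →
    ∀ H : Subgroup (Perm (Fin D.n)),
      (∀ g ∈ Subgroup.closure (Set.range σ), (∀ b : Fin D.n, (b : ℕ) ∈ prev → g b = b) → g ∈ H) →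
      (∀ g ∈ H, ∀ b : Fin D.n, (b : ℕ) ∈ prev → g b = b) →
      D.prodCnt Ls ≤ Nat.card H ∧
      (D.prodCnt Ls = Nat.card H → ∀ c ∈ H,
        (∀ f : ℕ → ℕ, (∀ x : Fin D.n, f x = ((c x : Fin D.n) : ℕ)) → D.sift Ls (Ls.map fun L => f L.b) = true) ∧
        ((∀ b : Fin D.n, (b : ℕ) ∈ Ls.map Level.b → c b = b) → c = 1)) := by
  intro Ls
  induction Ls with
  | nil =>
    intro prev _ H _ _
    refine ⟨Nat.card_pos, fun e c hc => ⟨fun f _ => rfl, fun _ => ?_⟩⟩
    have hbot : H = ⊥ := Subgroup.eq_bot_of_card_eq H e.symm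
    rw [hbot] at hc
    exact Subgroup.mem_bot.1 hc
  | cons L Ls ih =>
    intro prev hok H hH hfix
    change (D.levelOk prev L && D.levelsOk Ls (L.b :: prev)) = true at hok
    rw [Bool.and_eq_true] at hok
    have hb : L.b < D.n := by
      have h := hok.1
      simp only [levelOk, levelGensOk, Bool.and_eq_true, Nat.blt_eq] at h
      exact h.1.1.2
    set b : Fin D.n := ⟨L.b, hb⟩
    obtain ⟨hle, horb⟩ := cnt_le σ hσ hslp hok.1 hb H hH
    have hH' : ∀ g ∈ Subgroup.closure (Set.range σ), (∀ x : Fin D.n, (x : ℕ) ∈ L.b :: prev → g x = x) → g ∈ fixing H b :=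
      fun g hg hgf => ⟨hH g hg fun x hx => hgf x (List.mem_cons_of_mem _ hx), hgf b List.mem_cons_self⟩
    have hfix' : ∀ g ∈ fixing H b, ∀ x : Fin D.n, (x : ℕ) ∈ L.b :: prev → g x = x := fun g hg x hx => by
      rcases List.mem_cons.1 hx with e | e
      · obtain rfl : x = b := Fin.ext e
        exact hg.2
      · exact hfix g hg.1 x e
    obtain ⟨hle', hrest⟩ := ih _ hok.2 (fixing H b) hH' hfix'
    have hprod : D.prodCnt (L :: Ls) = D.cnt L * D.prodCnt Ls := rfl
    rw [card_orbit_mul H b, hprod]
    refine ⟨Nat.mul_le_mul hle hle', fun e c hc => ?_⟩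
    have hpos : 0 < Nat.card (fixing H b) := Nat.card_pos
    have hposo : 0 < Nat.card (MulAction.orbit H b) := by
      have : Nonempty (MulAction.orbit H b) := ⟨⟨b, MulAction.mem_orbit_self b⟩⟩
      exact Nat.card_pos
    have e1 : D.cnt L = Nat.card (MulAction.orbit H b) := by
      refine le_antisymm hle (Nat.le_of_mul_le_mul_right ?_ hpos)
      rw [← e]
      exact Nat.mul_le_mul_left _ hle'
    have e2 : D.prodCnt Ls = Nat.card (fixing H b) := by
      rw [e1] at e
      exact Nat.eq_of_mul_eq_mul_left hposo e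
    have hr := horb e1 c hc
    obtain ⟨u, huH, hub, hui⟩ := tree_el σ hσ hslp hok.1 H hH _ (c b) rfl hr
    have hd : u⁻¹ * c ∈ fixing H b :=
      ⟨H.mul_mem (H.inv_mem huH) hc, by
        show u⁻¹ (c b) = b
        rw [Perm.inv_eq_iff_eq, hub b rfl]⟩
    obtain ⟨hs, hone⟩ := hrest e2 (u⁻¹ * c) hd
    refine ⟨fun f hf => ?_, fun hall => ?_⟩
    · show (forceNat (rank L (f L.b)) fun r =>
        bif Nat.beq r 0 then false else D.sift Ls ((Ls.map fun L => f L.b).map fun y => D.undo L r (f L.b) y)) = true
      rw [forceNat_eq, show f L.b = ((c b : Fin D.n) : ℕ) from hf b,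
        show Nat.beq (rank L ((c b : Fin D.n) : ℕ)) 0 = false by simpa [Bool.eq_false_iff] using hr, cond_false,
        List.map_map]
      have key := hs (fun x => D.undo L (rank L ((c b : Fin D.n) : ℕ)) ((c b : Fin D.n) : ℕ) (f x)) fun x => by
        rw [hf, ← hui, Perm.mul_apply]
      exact key
    · have hcb : c b = b := hall b List.mem_cons_self
      have hc' : c ∈ fixing H b := ⟨hc, hcb⟩
      exact (hrest e2 c hc').2 fun x hx => hall x (List.mem_cons_of_mem _ hx)

/-- The lower bound on the order. -/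
theorem prodCnt_le {Ls : List Level} (h : D.levelsOk Ls [] = true) :
    D.prodCnt Ls ≤ Nat.card (Subgroup.closure (Set.range σ)) :=
  (level_facts σ hσ hslp Ls [] h _ (fun _ hg _ => hg) (fun _ _ b hb => absurd hb List.not_mem_nil)).1

variable {Ls : List Level} (hLs : D.levelsOk Ls [] = true)
  (hcard : D.prodCnt Ls = Nat.card (Subgroup.closure (Set.range σ)))

include hLs hcard

/-- Base images of elements pass the test. -/
theorem sift_complete {c : Perm (Fin D.n)} (hc : c ∈ Subgroup.closure (Set.range σ)) (f : ℕ → ℕ)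
    (hf : ∀ x : Fin D.n, f x = ((c x : Fin D.n) : ℕ)) : D.sift Ls (Ls.map fun L => f L.b) = true :=
  ((level_facts σ hσ hslp Ls [] hLs _ (fun _ hg _ => hg) (fun _ _ b hb => absurd hb List.not_mem_nil)).2 hcard c hc).1 f hf

/-- The base is faithful. -/
theorem eq_of_base {a b : Perm (Fin D.n)} (ha : a ∈ Subgroup.closure (Set.range σ))
    (hb : b ∈ Subgroup.closure (Set.range σ))
    (h : ∀ x : Fin D.n, (x : ℕ) ∈ Ls.map Level.b → a x = b x) : a = b := by
  have := ((level_facts σ hσ hslp Ls [] hLs _ (fun _ hg _ => hg) (fun _ _ b hb => absurd hb List.not_mem_nil)).2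
    hcard (b⁻¹ * a) (mul_mem (inv_mem hb) ha)).2 fun x hx => by
      rw [Perm.mul_apply, h x hx, Perm.inv_eq_iff_eq]
  exact (inv_mul_eq_one.1 this).symm

end

end Ctx

end Cfsg.Agent.H36.AutEngine
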