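import Cfsg.Agent.H36.Fi22AutCert
import Cfsg.Agent.H36.AutEngineFix

/-! Kernel checks of a list of commuting elements. -/

set_option autoImplicit false
set_option maxRecDepth 100000
set_option Elab.async false

open Cfsg.Agent.H16 Cfsg.Agent.H36.AutEngine

namespace Cfsg.Agent.H36.Fi22

theorem rows_trans1_1_0 : allFrom (ctx.fixRowOk levels trans1_1) 871 0 = true := by decide +kernel

theorem rows_trans1_1_1 : allFrom (ctx.fixRowOk levels trans1_1) 250 871 = true := by decide +kernel

theorem rows_trans1_1_2 : allFrom (ctx.fixRowOk levels trans1_1) 210 1121 = true := by decide +kernel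

theorem rows_trans1_1_3 : allFrom (ctx.fixRowOk levels trans1_1) 90 1331 = true := by decide +kernel

theorem rows_trans1_1_4 : allFrom (ctx.fixRowOk levels trans1_1) 694 1421 = true := by decide +kernel

theorem rows_trans1_1_5 : allFrom (ctx.fixRowOk levels trans1_1) 127 2115 = true := by decide +kernel

theorem rows_trans1_1_6 : allFrom (ctx.fixRowOk levels trans1_1) 301 2242 = true := by decide +kernel

theorem rows_trans1_1_7 : allFrom (ctx.fixRowOk levels trans1_1) 336 2543 = true := by decide +kernel

theorem rows_trans1_1_8 : allFrom (ctx.fixRowOk levels trans1_1) 234 2879 = true := by decide +kernel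

theorem rows_trans1_1_9 : allFrom (ctx.fixRowOk levels trans1_1) 363 3113 = true := by decide +kernel

theorem rows_trans1_1_10 : allFrom (ctx.fixRowOk levels trans1_1) 34 3476 = true := by decide +kernel

theorem rows_trans1_1 (t : ℕ) (h : t < ctx.n) : ctx.fixRowOk levels trans1_1 t = true := by
  change t < 3510 at h
  by_cases h0 : t < 871
  · exact allFrom_spec rows_trans1_1_0 t (by omega) (by omega)
  by_cases h1 : t < 1121
  · exact allFrom_spec rows_trans1_1_1 t (by omega) (by omega)
  by_cases h2 : t < 1331
  · exact allFrom_spec rows_trans1_1_2 t (by omega) (by omega)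
  by_cases h3 : t < 1421
  · exact allFrom_spec rows_trans1_1_3 t (by omega) (by omega)
  by_cases h4 : t < 2115
  · exact allFrom_spec rows_trans1_1_4 t (by omega) (by omega)
  by_cases h5 : t < 2242
  · exact allFrom_spec rows_trans1_1_5 t (by omega) (by omega)
  by_cases h6 : t < 2543
  · exact allFrom_spec rows_trans1_1_6 t (by omega) (by omega)
  by_cases h7 : t < 2879
  · exact allFrom_spec rows_trans1_1_7 t (by omega) (by omega)
  by_cases h8 : t < 3113
  · exact allFrom_spec rows_trans1_1_8 t (by omega) (by omega)
  by_cases h9 : t < 3476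
  · exact allFrom_spec rows_trans1_1_9 t (by omega) (by omega)
  exact allFrom_spec rows_trans1_1_10 t (by omega) (by omega)

end Cfsg.Agent.H36.Fi22
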