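import Cfsg.Agent.H36.Fi22AutData

/-! Kernel checks of the straight-line program. -/

set_option autoImplicit false
set_option maxRecDepth 100000
set_option Elab.async false

open Cfsg.Agent.H16 Cfsg.Agent.H36.AutEngine

namespace Cfsg.Agent.H36.Fi22

theorem slp_part0_0 : allFrom (fun k => ctx.slpOk k) 12 0 = true := by decide +kernel

theorem slp_part0_1 : allFrom (fun k => ctx.slpOk k) 12 12 = true := by decide +kernel

theorem slp_part0_2 : allFrom (fun k => ctx.slpOk k) 12 24 = true := by decide +kernel

theorem slp_part0_3 : allFrom (fun k => ctx.slpOk k) 12 36 = true := by decide +kernel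

theorem slp_part0_4 : allFrom (fun k => ctx.slpOk k) 12 48 = true := by decide +kernel

theorem slp_part0_5 : allFrom (fun k => ctx.slpOk k) 12 60 = true := by decide +kernel

theorem slp_part0_6 : allFrom (fun k => ctx.slpOk k) 12 72 = true := by decide +kernel

theorem slp_part0_7 : allFrom (fun k => ctx.slpOk k) 12 84 = true := by decide +kernel

theorem slp_part0_8 : allFrom (fun k => ctx.slpOk k) 12 96 = true := by decide +kernel

theorem slp_part0_9 : allFrom (fun k => ctx.slpOk k) 12 108 = true := by decide +kernel

theorem slp_part0_10 : allFrom (fun k => ctx.slpOk k) 12 120 = true := by decide +kernel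

theorem slp_part0_11 : allFrom (fun k => ctx.slpOk k) 12 132 = true := by decide +kernel

theorem slp_part0_12 : allFrom (fun k => ctx.slpOk k) 12 144 = true := by decide +kernel

theorem slp_part0_13 : allFrom (fun k => ctx.slpOk k) 12 156 = true := by decide +kernel

theorem slp_part0_14 : allFrom (fun k => ctx.slpOk k) 12 168 = true := by decide +kernel

theorem slp_part0_15 : allFrom (fun k => ctx.slpOk k) 12 180 = true := by decide +kernel

theorem slp_part0_16 : allFrom (fun k => ctx.slpOk k) 12 192 = true := by decide +kernel

theorem slp_part0_17 : allFrom (fun k => ctx.slpOk k) 12 204 = true := by decide +kernel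

theorem slp_part0_18 : allFrom (fun k => ctx.slpOk k) 12 216 = true := by decide +kernel

theorem slp_part0_19 : allFrom (fun k => ctx.slpOk k) 12 228 = true := by decide +kernel

theorem slp_part0_20 : allFrom (fun k => ctx.slpOk k) 12 240 = true := by decide +kernel

theorem slp_part0_21 : allFrom (fun k => ctx.slpOk k) 5 252 = true := by decide +kernel

theorem slp_block0 (k : ℕ) (h1 : 0 ≤ k) (h2 : k < 257) : ctx.slpOk k = true := by
  by_cases h0 : k < 12
  · exact allFrom_spec slp_part0_0 k (by omega) (by omega)
  by_cases h1 : k < 24
  · exact allFrom_spec slp_part0_1 k (by omega) (by omega)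
  by_cases h2 : k < 36
  · exact allFrom_spec slp_part0_2 k (by omega) (by omega)
  by_cases h3 : k < 48
  · exact allFrom_spec slp_part0_3 k (by omega) (by omega)
  by_cases h4 : k < 60
  · exact allFrom_spec slp_part0_4 k (by omega) (by omega)
  by_cases h5 : k < 72
  · exact allFrom_spec slp_part0_5 k (by omega) (by omega)
  by_cases h6 : k < 84
  · exact allFrom_spec slp_part0_6 k (by omega) (by omega)
  by_cases h7 : k < 96
  · exact allFrom_spec slp_part0_7 k (by omega) (by omega)
  by_cases h8 : k < 108
  · exact allFrom_spec slp_part0_8 k (by omega) (by omega)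
  by_cases h9 : k < 120
  · exact allFrom_spec slp_part0_9 k (by omega) (by omega)
  by_cases h10 : k < 132
  · exact allFrom_spec slp_part0_10 k (by omega) (by omega)
  by_cases h11 : k < 144
  · exact allFrom_spec slp_part0_11 k (by omega) (by omega)
  by_cases h12 : k < 156
  · exact allFrom_spec slp_part0_12 k (by omega) (by omega)
  by_cases h13 : k < 168
  · exact allFrom_spec slp_part0_13 k (by omega) (by omega)
  by_cases h14 : k < 180
  · exact allFrom_spec slp_part0_14 k (by omega) (by omega)
  by_cases h15 : k < 192
  · exact allFrom_spec slp_part0_15 k (by omega) (by omega)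
  by_cases h16 : k < 204
  · exact allFrom_spec slp_part0_16 k (by omega) (by omega)
  by_cases h17 : k < 216
  · exact allFrom_spec slp_part0_17 k (by omega) (by omega)
  by_cases h18 : k < 228
  · exact allFrom_spec slp_part0_18 k (by omega) (by omega)
  by_cases h19 : k < 240
  · exact allFrom_spec slp_part0_19 k (by omega) (by omega)
  by_cases h20 : k < 252
  · exact allFrom_spec slp_part0_20 k (by omega) (by omega)
  exact allFrom_spec slp_part0_21 k (by omega) (by omega)

end Cfsg.Agent.H36.Fi22
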