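import Cfsg.Agent.H36.Fi22AutData

/-! Kernel checks of the straight-line program. -/

set_option autoImplicit false
set_option maxRecDepth 100000
set_option Elab.async false

open Cfsg.Agent.H16 Cfsg.Agent.H36.AutEngine

namespace Cfsg.Agent.H36.Fi22

theorem slp_part1_0 : allFrom (fun k => ctx.slpOk k) 12 257 = true := by decide +kernel

theorem slp_part1_1 : allFrom (fun k => ctx.slpOk k) 12 269 = true := by decide +kernel

theorem slp_part1_2 : allFrom (fun k => ctx.slpOk k) 12 281 = true := by decide +kernel

theorem slp_part1_3 : allFrom (fun k => ctx.slpOk k) 12 293 = true := by decide +kernel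

theorem slp_part1_4 : allFrom (fun k => ctx.slpOk k) 12 305 = true := by decide +kernel

theorem slp_part1_5 : allFrom (fun k => ctx.slpOk k) 12 317 = true := by decide +kernel

theorem slp_part1_6 : allFrom (fun k => ctx.slpOk k) 12 329 = true := by decide +kernel

theorem slp_part1_7 : allFrom (fun k => ctx.slpOk k) 12 341 = true := by decide +kernel

theorem slp_part1_8 : allFrom (fun k => ctx.slpOk k) 12 353 = true := by decide +kernel

theorem slp_part1_9 : allFrom (fun k => ctx.slpOk k) 12 365 = true := by decide +kernel

theorem slp_part1_10 : allFrom (fun k => ctx.slpOk k) 12 377 = true := by decide +kernel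

theorem slp_part1_11 : allFrom (fun k => ctx.slpOk k) 12 389 = true := by decide +kernel

theorem slp_part1_12 : allFrom (fun k => ctx.slpOk k) 12 401 = true := by decide +kernel

theorem slp_part1_13 : allFrom (fun k => ctx.slpOk k) 12 413 = true := by decide +kernel

theorem slp_part1_14 : allFrom (fun k => ctx.slpOk k) 12 425 = true := by decide +kernel

theorem slp_part1_15 : allFrom (fun k => ctx.slpOk k) 12 437 = true := by decide +kernel

theorem slp_part1_16 : allFrom (fun k => ctx.slpOk k) 12 449 = true := by decide +kernel

theorem slp_part1_17 : allFrom (fun k => ctx.slpOk k) 12 461 = true := by decide +kernel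

theorem slp_part1_18 : allFrom (fun k => ctx.slpOk k) 12 473 = true := by decide +kernel

theorem slp_part1_19 : allFrom (fun k => ctx.slpOk k) 12 485 = true := by decide +kernel

theorem slp_part1_20 : allFrom (fun k => ctx.slpOk k) 12 497 = true := by decide +kernel

theorem slp_part1_21 : allFrom (fun k => ctx.slpOk k) 6 509 = true := by decide +kernel

theorem slp_block1 (k : ℕ) (h1 : 257 ≤ k) (h2 : k < 515) : ctx.slpOk k = true := by
  by_cases h0 : k < 269
  · exact allFrom_spec slp_part1_0 k (by omega) (by omega)
  by_cases h1 : k < 281
  · exact allFrom_spec slp_part1_1 k (by omega) (by omega)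
  by_cases h2 : k < 293
  · exact allFrom_spec slp_part1_2 k (by omega) (by omega)
  by_cases h3 : k < 305
  · exact allFrom_spec slp_part1_3 k (by omega) (by omega)
  by_cases h4 : k < 317
  · exact allFrom_spec slp_part1_4 k (by omega) (by omega)
  by_cases h5 : k < 329
  · exact allFrom_spec slp_part1_5 k (by omega) (by omega)
  by_cases h6 : k < 341
  · exact allFrom_spec slp_part1_6 k (by omega) (by omega)
  by_cases h7 : k < 353
  · exact allFrom_spec slp_part1_7 k (by omega) (by omega)
  by_cases h8 : k < 365
  · exact allFrom_spec slp_part1_8 k (by omega) (by omega)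
  by_cases h9 : k < 377
  · exact allFrom_spec slp_part1_9 k (by omega) (by omega)
  by_cases h10 : k < 389
  · exact allFrom_spec slp_part1_10 k (by omega) (by omega)
  by_cases h11 : k < 401
  · exact allFrom_spec slp_part1_11 k (by omega) (by omega)
  by_cases h12 : k < 413
  · exact allFrom_spec slp_part1_12 k (by omega) (by omega)
  by_cases h13 : k < 425
  · exact allFrom_spec slp_part1_13 k (by omega) (by omega)
  by_cases h14 : k < 437
  · exact allFrom_spec slp_part1_14 k (by omega) (by omega)
  by_cases h15 : k < 449
  · exact allFrom_spec slp_part1_15 k (by omega) (by omega)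
  by_cases h16 : k < 461
  · exact allFrom_spec slp_part1_16 k (by omega) (by omega)
  by_cases h17 : k < 473
  · exact allFrom_spec slp_part1_17 k (by omega) (by omega)
  by_cases h18 : k < 485
  · exact allFrom_spec slp_part1_18 k (by omega) (by omega)
  by_cases h19 : k < 497
  · exact allFrom_spec slp_part1_19 k (by omega) (by omega)
  by_cases h20 : k < 509
  · exact allFrom_spec slp_part1_20 k (by omega) (by omega)
  exact allFrom_spec slp_part1_21 k (by omega) (by omega)

end Cfsg.Agent.H36.Fi22
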