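import Cfsg.Agent.H36.Fi22AutData

/-! Kernel checks of the straight-line program. -/

set_option autoImplicit false
set_option maxRecDepth 100000
set_option Elab.async false

open Cfsg.Agent.H16 Cfsg.Agent.H36.AutEngine

namespace Cfsg.Agent.H36.Fi22

theorem slp_part2_0 : allFrom (fun k => ctx.slpOk k) 12 515 = true := by decide +kernel

theorem slp_part2_1 : allFrom (fun k => ctx.slpOk k) 12 527 = true := by decide +kernel

theorem slp_part2_2 : allFrom (fun k => ctx.slpOk k) 12 539 = true := by decide +kernel

theorem slp_part2_3 : allFrom (fun k => ctx.slpOk k) 12 551 = true := by decide +kernel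

theorem slp_part2_4 : allFrom (fun k => ctx.slpOk k) 12 563 = true := by decide +kernel

theorem slp_part2_5 : allFrom (fun k => ctx.slpOk k) 12 575 = true := by decide +kernel

theorem slp_part2_6 : allFrom (fun k => ctx.slpOk k) 12 587 = true := by decide +kernel

theorem slp_part2_7 : allFrom (fun k => ctx.slpOk k) 12 599 = true := by decide +kernel

theorem slp_part2_8 : allFrom (fun k => ctx.slpOk k) 12 611 = true := by decide +kernel

theorem slp_part2_9 : allFrom (fun k => ctx.slpOk k) 12 623 = true := by decide +kernel

theorem slp_part2_10 : allFrom (fun k => ctx.slpOk k) 12 635 = true := by decide +kernel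

theorem slp_part2_11 : allFrom (fun k => ctx.slpOk k) 12 647 = true := by decide +kernel

theorem slp_part2_12 : allFrom (fun k => ctx.slpOk k) 12 659 = true := by decide +kernel

theorem slp_part2_13 : allFrom (fun k => ctx.slpOk k) 12 671 = true := by decide +kernel

theorem slp_part2_14 : allFrom (fun k => ctx.slpOk k) 12 683 = true := by decide +kernel

theorem slp_part2_15 : allFrom (fun k => ctx.slpOk k) 12 695 = true := by decide +kernel

theorem slp_part2_16 : allFrom (fun k => ctx.slpOk k) 12 707 = true := by decide +kernel

theorem slp_part2_17 : allFrom (fun k => ctx.slpOk k) 12 719 = true := by decide +kernel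

theorem slp_part2_18 : allFrom (fun k => ctx.slpOk k) 12 731 = true := by decide +kernel

theorem slp_part2_19 : allFrom (fun k => ctx.slpOk k) 12 743 = true := by decide +kernel

theorem slp_part2_20 : allFrom (fun k => ctx.slpOk k) 12 755 = true := by decide +kernel

theorem slp_part2_21 : allFrom (fun k => ctx.slpOk k) 6 767 = true := by decide +kernel

theorem slp_block2 (k : ℕ) (h1 : 515 ≤ k) (h2 : k < 773) : ctx.slpOk k = true := by
  by_cases h0 : k < 527
  · exact allFrom_spec slp_part2_0 k (by omega) (by omega)
  by_cases h1 : k < 539
  · exact allFrom_spec slp_part2_1 k (by omega) (by omega)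
  by_cases h2 : k < 551
  · exact allFrom_spec slp_part2_2 k (by omega) (by omega)
  by_cases h3 : k < 563
  · exact allFrom_spec slp_part2_3 k (by omega) (by omega)
  by_cases h4 : k < 575
  · exact allFrom_spec slp_part2_4 k (by omega) (by omega)
  by_cases h5 : k < 587
  · exact allFrom_spec slp_part2_5 k (by omega) (by omega)
  by_cases h6 : k < 599
  · exact allFrom_spec slp_part2_6 k (by omega) (by omega)
  by_cases h7 : k < 611
  · exact allFrom_spec slp_part2_7 k (by omega) (by omega)
  by_cases h8 : k < 623
  · exact allFrom_spec slp_part2_8 k (by omega) (by omega)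
  by_cases h9 : k < 635
  · exact allFrom_spec slp_part2_9 k (by omega) (by omega)
  by_cases h10 : k < 647
  · exact allFrom_spec slp_part2_10 k (by omega) (by omega)
  by_cases h11 : k < 659
  · exact allFrom_spec slp_part2_11 k (by omega) (by omega)
  by_cases h12 : k < 671
  · exact allFrom_spec slp_part2_12 k (by omega) (by omega)
  by_cases h13 : k < 683
  · exact allFrom_spec slp_part2_13 k (by omega) (by omega)
  by_cases h14 : k < 695
  · exact allFrom_spec slp_part2_14 k (by omega) (by omega)
  by_cases h15 : k < 707
  · exact allFrom_spec slp_part2_15 k (by omega) (by omega)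
  by_cases h16 : k < 719
  · exact allFrom_spec slp_part2_16 k (by omega) (by omega)
  by_cases h17 : k < 731
  · exact allFrom_spec slp_part2_17 k (by omega) (by omega)
  by_cases h18 : k < 743
  · exact allFrom_spec slp_part2_18 k (by omega) (by omega)
  by_cases h19 : k < 755
  · exact allFrom_spec slp_part2_19 k (by omega) (by omega)
  by_cases h20 : k < 767
  · exact allFrom_spec slp_part2_20 k (by omega) (by omega)
  exact allFrom_spec slp_part2_21 k (by omega) (by omega)

end Cfsg.Agent.H36.Fi22
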