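import Cfsg.Agent.H36.Fi22AutData

/-! Kernel checks of the straight-line program. -/

set_option autoImplicit false
set_option maxRecDepth 100000
set_option Elab.async false

open Cfsg.Agent.H16 Cfsg.Agent.H36.AutEngine

namespace Cfsg.Agent.H36.Fi22

theorem slp_part3_0 : allFrom (fun k => ctx.slpOk k) 12 773 = true := by decide +kernel

theorem slp_part3_1 : allFrom (fun k => ctx.slpOk k) 12 785 = true := by decide +kernel

theorem slp_part3_2 : allFrom (fun k => ctx.slpOk k) 12 797 = true := by decide +kernel

theorem slp_part3_3 : allFrom (fun k => ctx.slpOk k) 12 809 = true := by decide +kernel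

theorem slp_part3_4 : allFrom (fun k => ctx.slpOk k) 12 821 = true := by decide +kernel

theorem slp_part3_5 : allFrom (fun k => ctx.slpOk k) 12 833 = true := by decide +kernel

theorem slp_part3_6 : allFrom (fun k => ctx.slpOk k) 12 845 = true := by decide +kernel

theorem slp_part3_7 : allFrom (fun k => ctx.slpOk k) 12 857 = true := by decide +kernel

theorem slp_part3_8 : allFrom (fun k => ctx.slpOk k) 12 869 = true := by decide +kernel

theorem slp_part3_9 : allFrom (fun k => ctx.slpOk k) 12 881 = true := by decide +kernel

theorem slp_part3_10 : allFrom (fun k => ctx.slpOk k) 12 893 = true := by decide +kernel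

theorem slp_part3_11 : allFrom (fun k => ctx.slpOk k) 12 905 = true := by decide +kernel

theorem slp_part3_12 : allFrom (fun k => ctx.slpOk k) 12 917 = true := by decide +kernel

theorem slp_part3_13 : allFrom (fun k => ctx.slpOk k) 12 929 = true := by decide +kernel

theorem slp_part3_14 : allFrom (fun k => ctx.slpOk k) 12 941 = true := by decide +kernel

theorem slp_part3_15 : allFrom (fun k => ctx.slpOk k) 12 953 = true := by decide +kernel

theorem slp_part3_16 : allFrom (fun k => ctx.slpOk k) 12 965 = true := by decide +kernel

theorem slp_part3_17 : allFrom (fun k => ctx.slpOk k) 12 977 = true := by decide +kernel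

theorem slp_part3_18 : allFrom (fun k => ctx.slpOk k) 12 989 = true := by decide +kernel

theorem slp_part3_19 : allFrom (fun k => ctx.slpOk k) 12 1001 = true := by decide +kernel

theorem slp_part3_20 : allFrom (fun k => ctx.slpOk k) 12 1013 = true := by decide +kernel

theorem slp_part3_21 : allFrom (fun k => ctx.slpOk k) 6 1025 = true := by decide +kernel

theorem slp_block3 (k : ℕ) (h1 : 773 ≤ k) (h2 : k < 1031) : ctx.slpOk k = true := by
  by_cases h0 : k < 785
  · exact allFrom_spec slp_part3_0 k (by omega) (by omega)
  by_cases h1 : k < 797
  · exact allFrom_spec slp_part3_1 k (by omega) (by omega)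
  by_cases h2 : k < 809
  · exact allFrom_spec slp_part3_2 k (by omega) (by omega)
  by_cases h3 : k < 821
  · exact allFrom_spec slp_part3_3 k (by omega) (by omega)
  by_cases h4 : k < 833
  · exact allFrom_spec slp_part3_4 k (by omega) (by omega)
  by_cases h5 : k < 845
  · exact allFrom_spec slp_part3_5 k (by omega) (by omega)
  by_cases h6 : k < 857
  · exact allFrom_spec slp_part3_6 k (by omega) (by omega)
  by_cases h7 : k < 869
  · exact allFrom_spec slp_part3_7 k (by omega) (by omega)
  by_cases h8 : k < 881
  · exact allFrom_spec slp_part3_8 k (by omega) (by omega)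
  by_cases h9 : k < 893
  · exact allFrom_spec slp_part3_9 k (by omega) (by omega)
  by_cases h10 : k < 905
  · exact allFrom_spec slp_part3_10 k (by omega) (by omega)
  by_cases h11 : k < 917
  · exact allFrom_spec slp_part3_11 k (by omega) (by omega)
  by_cases h12 : k < 929
  · exact allFrom_spec slp_part3_12 k (by omega) (by omega)
  by_cases h13 : k < 941
  · exact allFrom_spec slp_part3_13 k (by omega) (by omega)
  by_cases h14 : k < 953
  · exact allFrom_spec slp_part3_14 k (by omega) (by omega)
  by_cases h15 : k < 965
  · exact allFrom_spec slp_part3_15 k (by omega) (by omega)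
  by_cases h16 : k < 977
  · exact allFrom_spec slp_part3_16 k (by omega) (by omega)
  by_cases h17 : k < 989
  · exact allFrom_spec slp_part3_17 k (by omega) (by omega)
  by_cases h18 : k < 1001
  · exact allFrom_spec slp_part3_18 k (by omega) (by omega)
  by_cases h19 : k < 1013
  · exact allFrom_spec slp_part3_19 k (by omega) (by omega)
  by_cases h20 : k < 1025
  · exact allFrom_spec slp_part3_20 k (by omega) (by omega)
  exact allFrom_spec slp_part3_21 k (by omega) (by omega)

end Cfsg.Agent.H36.Fi22
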