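import Cfsg.Agent.H36.Fi22AutData

/-! Kernel checks of the straight-line program. -/

set_option autoImplicit false
set_option maxRecDepth 100000
set_option Elab.async false

open Cfsg.Agent.H16 Cfsg.Agent.H36.AutEngine

namespace Cfsg.Agent.H36.Fi22

theorem slp_part4_0 : allFrom (fun k => ctx.slpOk k) 12 1031 = true := by decide +kernel

theorem slp_part4_1 : allFrom (fun k => ctx.slpOk k) 12 1043 = true := by decide +kernel

theorem slp_part4_2 : allFrom (fun k => ctx.slpOk k) 12 1055 = true := by decide +kernel

theorem slp_part4_3 : allFrom (fun k => ctx.slpOk k) 12 1067 = true := by decide +kernel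

theorem slp_part4_4 : allFrom (fun k => ctx.slpOk k) 12 1079 = true := by decide +kernel

theorem slp_part4_5 : allFrom (fun k => ctx.slpOk k) 12 1091 = true := by decide +kernel

theorem slp_part4_6 : allFrom (fun k => ctx.slpOk k) 12 1103 = true := by decide +kernel

theorem slp_part4_7 : allFrom (fun k => ctx.slpOk k) 12 1115 = true := by decide +kernel

theorem slp_part4_8 : allFrom (fun k => ctx.slpOk k) 12 1127 = true := by decide +kernel

theorem slp_part4_9 : allFrom (fun k => ctx.slpOk k) 12 1139 = true := by decide +kernel

theorem slp_part4_10 : allFrom (fun k => ctx.slpOk k) 12 1151 = true := by decide +kernel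

theorem slp_part4_11 : allFrom (fun k => ctx.slpOk k) 12 1163 = true := by decide +kernel

theorem slp_part4_12 : allFrom (fun k => ctx.slpOk k) 12 1175 = true := by decide +kernel

theorem slp_part4_13 : allFrom (fun k => ctx.slpOk k) 12 1187 = true := by decide +kernel

theorem slp_part4_14 : allFrom (fun k => ctx.slpOk k) 12 1199 = true := by decide +kernel

theorem slp_part4_15 : allFrom (fun k => ctx.slpOk k) 12 1211 = true := by decide +kernel

theorem slp_part4_16 : allFrom (fun k => ctx.slpOk k) 12 1223 = true := by decide +kernel

theorem slp_part4_17 : allFrom (fun k => ctx.slpOk k) 12 1235 = true := by decide +kernel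

theorem slp_part4_18 : allFrom (fun k => ctx.slpOk k) 12 1247 = true := by decide +kernel

theorem slp_part4_19 : allFrom (fun k => ctx.slpOk k) 12 1259 = true := by decide +kernel

theorem slp_part4_20 : allFrom (fun k => ctx.slpOk k) 12 1271 = true := by decide +kernel

theorem slp_part4_21 : allFrom (fun k => ctx.slpOk k) 5 1283 = true := by decide +kernel

theorem slp_block4 (k : ℕ) (h1 : 1031 ≤ k) (h2 : k < 1288) : ctx.slpOk k = true := by
  by_cases h0 : k < 1043
  · exact allFrom_spec slp_part4_0 k (by omega) (by omega)
  by_cases h1 : k < 1055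
  · exact allFrom_spec slp_part4_1 k (by omega) (by omega)
  by_cases h2 : k < 1067
  · exact allFrom_spec slp_part4_2 k (by omega) (by omega)
  by_cases h3 : k < 1079
  · exact allFrom_spec slp_part4_3 k (by omega) (by omega)
  by_cases h4 : k < 1091
  · exact allFrom_spec slp_part4_4 k (by omega) (by omega)
  by_cases h5 : k < 1103
  · exact allFrom_spec slp_part4_5 k (by omega) (by omega)
  by_cases h6 : k < 1115
  · exact allFrom_spec slp_part4_6 k (by omega) (by omega)
  by_cases h7 : k < 1127
  · exact allFrom_spec slp_part4_7 k (by omega) (by omega)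
  by_cases h8 : k < 1139
  · exact allFrom_spec slp_part4_8 k (by omega) (by omega)
  by_cases h9 : k < 1151
  · exact allFrom_spec slp_part4_9 k (by omega) (by omega)
  by_cases h10 : k < 1163
  · exact allFrom_spec slp_part4_10 k (by omega) (by omega)
  by_cases h11 : k < 1175
  · exact allFrom_spec slp_part4_11 k (by omega) (by omega)
  by_cases h12 : k < 1187
  · exact allFrom_spec slp_part4_12 k (by omega) (by omega)
  by_cases h13 : k < 1199
  · exact allFrom_spec slp_part4_13 k (by omega) (by omega)
  by_cases h14 : k < 1211
  · exact allFrom_spec slp_part4_14 k (by omega) (by omega)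
  by_cases h15 : k < 1223
  · exact allFrom_spec slp_part4_15 k (by omega) (by omega)
  by_cases h16 : k < 1235
  · exact allFrom_spec slp_part4_16 k (by omega) (by omega)
  by_cases h17 : k < 1247
  · exact allFrom_spec slp_part4_17 k (by omega) (by omega)
  by_cases h18 : k < 1259
  · exact allFrom_spec slp_part4_18 k (by omega) (by omega)
  by_cases h19 : k < 1271
  · exact allFrom_spec slp_part4_19 k (by omega) (by omega)
  by_cases h20 : k < 1283
  · exact allFrom_spec slp_part4_20 k (by omega) (by omega)
  exact allFrom_spec slp_part4_21 k (by omega) (by omega)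

end Cfsg.Agent.H36.Fi22
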