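import Cfsg.Agent.H36.Fi22AutData

/-! Kernel checks of the straight-line program. -/

set_option autoImplicit false
set_option maxRecDepth 100000
set_option Elab.async false

open Cfsg.Agent.H16 Cfsg.Agent.H36.AutEngine

namespace Cfsg.Agent.H36.Fi22

theorem slp_part5_0 : allFrom (fun k => ctx.slpOk k) 12 1288 = true := by decide +kernel

theorem slp_part5_1 : allFrom (fun k => ctx.slpOk k) 12 1300 = true := by decide +kernel

theorem slp_part5_2 : allFrom (fun k => ctx.slpOk k) 12 1312 = true := by decide +kernel

theorem slp_part5_3 : allFrom (fun k => ctx.slpOk k) 12 1324 = true := by decide +kernel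

theorem slp_part5_4 : allFrom (fun k => ctx.slpOk k) 12 1336 = true := by decide +kernel

theorem slp_part5_5 : allFrom (fun k => ctx.slpOk k) 12 1348 = true := by decide +kernel

theorem slp_part5_6 : allFrom (fun k => ctx.slpOk k) 12 1360 = true := by decide +kernel

theorem slp_part5_7 : allFrom (fun k => ctx.slpOk k) 12 1372 = true := by decide +kernel

theorem slp_part5_8 : allFrom (fun k => ctx.slpOk k) 12 1384 = true := by decide +kernel

theorem slp_part5_9 : allFrom (fun k => ctx.slpOk k) 12 1396 = true := by decide +kernel

theorem slp_part5_10 : allFrom (fun k => ctx.slpOk k) 12 1408 = true := by decide +kernel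

theorem slp_part5_11 : allFrom (fun k => ctx.slpOk k) 12 1420 = true := by decide +kernel

theorem slp_part5_12 : allFrom (fun k => ctx.slpOk k) 12 1432 = true := by decide +kernel

theorem slp_part5_13 : allFrom (fun k => ctx.slpOk k) 12 1444 = true := by decide +kernel

theorem slp_part5_14 : allFrom (fun k => ctx.slpOk k) 12 1456 = true := by decide +kernel

theorem slp_part5_15 : allFrom (fun k => ctx.slpOk k) 12 1468 = true := by decide +kernel

theorem slp_part5_16 : allFrom (fun k => ctx.slpOk k) 12 1480 = true := by decide +kernel

theorem slp_part5_17 : allFrom (fun k => ctx.slpOk k) 12 1492 = true := by decide +kernel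

theorem slp_part5_18 : allFrom (fun k => ctx.slpOk k) 12 1504 = true := by decide +kernel

theorem slp_part5_19 : allFrom (fun k => ctx.slpOk k) 12 1516 = true := by decide +kernel

theorem slp_part5_20 : allFrom (fun k => ctx.slpOk k) 12 1528 = true := by decide +kernel

theorem slp_part5_21 : allFrom (fun k => ctx.slpOk k) 6 1540 = true := by decide +kernel

theorem slp_block5 (k : ℕ) (h1 : 1288 ≤ k) (h2 : k < 1546) : ctx.slpOk k = true := by
  by_cases h0 : k < 1300
  · exact allFrom_spec slp_part5_0 k (by omega) (by omega)
  by_cases h1 : k < 1312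
  · exact allFrom_spec slp_part5_1 k (by omega) (by omega)
  by_cases h2 : k < 1324
  · exact allFrom_spec slp_part5_2 k (by omega) (by omega)
  by_cases h3 : k < 1336
  · exact allFrom_spec slp_part5_3 k (by omega) (by omega)
  by_cases h4 : k < 1348
  · exact allFrom_spec slp_part5_4 k (by omega) (by omega)
  by_cases h5 : k < 1360
  · exact allFrom_spec slp_part5_5 k (by omega) (by omega)
  by_cases h6 : k < 1372
  · exact allFrom_spec slp_part5_6 k (by omega) (by omega)
  by_cases h7 : k < 1384
  · exact allFrom_spec slp_part5_7 k (by omega) (by omega)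
  by_cases h8 : k < 1396
  · exact allFrom_spec slp_part5_8 k (by omega) (by omega)
  by_cases h9 : k < 1408
  · exact allFrom_spec slp_part5_9 k (by omega) (by omega)
  by_cases h10 : k < 1420
  · exact allFrom_spec slp_part5_10 k (by omega) (by omega)
  by_cases h11 : k < 1432
  · exact allFrom_spec slp_part5_11 k (by omega) (by omega)
  by_cases h12 : k < 1444
  · exact allFrom_spec slp_part5_12 k (by omega) (by omega)
  by_cases h13 : k < 1456
  · exact allFrom_spec slp_part5_13 k (by omega) (by omega)
  by_cases h14 : k < 1468
  · exact allFrom_spec slp_part5_14 k (by omega) (by omega)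
  by_cases h15 : k < 1480
  · exact allFrom_spec slp_part5_15 k (by omega) (by omega)
  by_cases h16 : k < 1492
  · exact allFrom_spec slp_part5_16 k (by omega) (by omega)
  by_cases h17 : k < 1504
  · exact allFrom_spec slp_part5_17 k (by omega) (by omega)
  by_cases h18 : k < 1516
  · exact allFrom_spec slp_part5_18 k (by omega) (by omega)
  by_cases h19 : k < 1528
  · exact allFrom_spec slp_part5_19 k (by omega) (by omega)
  by_cases h20 : k < 1540
  · exact allFrom_spec slp_part5_20 k (by omega) (by omega)
  exact allFrom_spec slp_part5_21 k (by omega) (by omega)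

end Cfsg.Agent.H36.Fi22
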