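import Cfsg.Agent.H36.Fi22AutData

/-! Kernel checks of the straight-line program. -/

set_option autoImplicit false
set_option maxRecDepth 100000
set_option Elab.async false

open Cfsg.Agent.H16 Cfsg.Agent.H36.AutEngine

namespace Cfsg.Agent.H36.Fi22

theorem slp_part6_0 : allFrom (fun k => ctx.slpOk k) 12 1546 = true := by decide +kernel

theorem slp_part6_1 : allFrom (fun k => ctx.slpOk k) 12 1558 = true := by decide +kernel

theorem slp_part6_2 : allFrom (fun k => ctx.slpOk k) 12 1570 = true := by decide +kernel

theorem slp_part6_3 : allFrom (fun k => ctx.slpOk k) 12 1582 = true := by decide +kernel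

theorem slp_part6_4 : allFrom (fun k => ctx.slpOk k) 12 1594 = true := by decide +kernel

theorem slp_part6_5 : allFrom (fun k => ctx.slpOk k) 12 1606 = true := by decide +kernel

theorem slp_part6_6 : allFrom (fun k => ctx.slpOk k) 12 1618 = true := by decide +kernel

theorem slp_part6_7 : allFrom (fun k => ctx.slpOk k) 12 1630 = true := by decide +kernel

theorem slp_part6_8 : allFrom (fun k => ctx.slpOk k) 12 1642 = true := by decide +kernel

theorem slp_part6_9 : allFrom (fun k => ctx.slpOk k) 12 1654 = true := by decide +kernel

theorem slp_part6_10 : allFrom (fun k => ctx.slpOk k) 12 1666 = true := by decide +kernel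

theorem slp_part6_11 : allFrom (fun k => ctx.slpOk k) 12 1678 = true := by decide +kernel

theorem slp_part6_12 : allFrom (fun k => ctx.slpOk k) 12 1690 = true := by decide +kernel

theorem slp_part6_13 : allFrom (fun k => ctx.slpOk k) 12 1702 = true := by decide +kernel

theorem slp_part6_14 : allFrom (fun k => ctx.slpOk k) 12 1714 = true := by decide +kernel

theorem slp_part6_15 : allFrom (fun k => ctx.slpOk k) 12 1726 = true := by decide +kernel

theorem slp_part6_16 : allFrom (fun k => ctx.slpOk k) 12 1738 = true := by decide +kernel

theorem slp_part6_17 : allFrom (fun k => ctx.slpOk k) 12 1750 = true := by decide +kernel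

theorem slp_part6_18 : allFrom (fun k => ctx.slpOk k) 12 1762 = true := by decide +kernel

theorem slp_part6_19 : allFrom (fun k => ctx.slpOk k) 12 1774 = true := by decide +kernel

theorem slp_part6_20 : allFrom (fun k => ctx.slpOk k) 12 1786 = true := by decide +kernel

theorem slp_part6_21 : allFrom (fun k => ctx.slpOk k) 6 1798 = true := by decide +kernel

theorem slp_block6 (k : ℕ) (h1 : 1546 ≤ k) (h2 : k < 1804) : ctx.slpOk k = true := by
  by_cases h0 : k < 1558
  · exact allFrom_spec slp_part6_0 k (by omega) (by omega)
  by_cases h1 : k < 1570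
  · exact allFrom_spec slp_part6_1 k (by omega) (by omega)
  by_cases h2 : k < 1582
  · exact allFrom_spec slp_part6_2 k (by omega) (by omega)
  by_cases h3 : k < 1594
  · exact allFrom_spec slp_part6_3 k (by omega) (by omega)
  by_cases h4 : k < 1606
  · exact allFrom_spec slp_part6_4 k (by omega) (by omega)
  by_cases h5 : k < 1618
  · exact allFrom_spec slp_part6_5 k (by omega) (by omega)
  by_cases h6 : k < 1630
  · exact allFrom_spec slp_part6_6 k (by omega) (by omega)
  by_cases h7 : k < 1642
  · exact allFrom_spec slp_part6_7 k (by omega) (by omega)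
  by_cases h8 : k < 1654
  · exact allFrom_spec slp_part6_8 k (by omega) (by omega)
  by_cases h9 : k < 1666
  · exact allFrom_spec slp_part6_9 k (by omega) (by omega)
  by_cases h10 : k < 1678
  · exact allFrom_spec slp_part6_10 k (by omega) (by omega)
  by_cases h11 : k < 1690
  · exact allFrom_spec slp_part6_11 k (by omega) (by omega)
  by_cases h12 : k < 1702
  · exact allFrom_spec slp_part6_12 k (by omega) (by omega)
  by_cases h13 : k < 1714
  · exact allFrom_spec slp_part6_13 k (by omega) (by omega)
  by_cases h14 : k < 1726
  · exact allFrom_spec slp_part6_14 k (by omega) (by omega)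
  by_cases h15 : k < 1738
  · exact allFrom_spec slp_part6_15 k (by omega) (by omega)
  by_cases h16 : k < 1750
  · exact allFrom_spec slp_part6_16 k (by omega) (by omega)
  by_cases h17 : k < 1762
  · exact allFrom_spec slp_part6_17 k (by omega) (by omega)
  by_cases h18 : k < 1774
  · exact allFrom_spec slp_part6_18 k (by omega) (by omega)
  by_cases h19 : k < 1786
  · exact allFrom_spec slp_part6_19 k (by omega) (by omega)
  by_cases h20 : k < 1798
  · exact allFrom_spec slp_part6_20 k (by omega) (by omega)
  exact allFrom_spec slp_part6_21 k (by omega) (by omega)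

end Cfsg.Agent.H36.Fi22
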