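import Cfsg.Agent.H36.Fi22AutData

/-! Kernel checks of the straight-line program. -/

set_option autoImplicit false
set_option maxRecDepth 100000
set_option Elab.async false

open Cfsg.Agent.H16 Cfsg.Agent.H36.AutEngine

namespace Cfsg.Agent.H36.Fi22

theorem slp_part7_0 : allFrom (fun k => ctx.slpOk k) 12 1804 = true := by decide +kernel

theorem slp_part7_1 : allFrom (fun k => ctx.slpOk k) 12 1816 = true := by decide +kernel

theorem slp_part7_2 : allFrom (fun k => ctx.slpOk k) 12 1828 = true := by decide +kernel

theorem slp_part7_3 : allFrom (fun k => ctx.slpOk k) 12 1840 = true := by decide +kernel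

theorem slp_part7_4 : allFrom (fun k => ctx.slpOk k) 12 1852 = true := by decide +kernel

theorem slp_part7_5 : allFrom (fun k => ctx.slpOk k) 12 1864 = true := by decide +kernel

theorem slp_part7_6 : allFrom (fun k => ctx.slpOk k) 12 1876 = true := by decide +kernel

theorem slp_part7_7 : allFrom (fun k => ctx.slpOk k) 12 1888 = true := by decide +kernel

theorem slp_part7_8 : allFrom (fun k => ctx.slpOk k) 12 1900 = true := by decide +kernel

theorem slp_part7_9 : allFrom (fun k => ctx.slpOk k) 12 1912 = true := by decide +kernel

theorem slp_part7_10 : allFrom (fun k => ctx.slpOk k) 12 1924 = true := by decide +kernel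

theorem slp_part7_11 : allFrom (fun k => ctx.slpOk k) 12 1936 = true := by decide +kernel

theorem slp_part7_12 : allFrom (fun k => ctx.slpOk k) 12 1948 = true := by decide +kernel

theorem slp_part7_13 : allFrom (fun k => ctx.slpOk k) 12 1960 = true := by decide +kernel

theorem slp_part7_14 : allFrom (fun k => ctx.slpOk k) 12 1972 = true := by decide +kernel

theorem slp_part7_15 : allFrom (fun k => ctx.slpOk k) 12 1984 = true := by decide +kernel

theorem slp_part7_16 : allFrom (fun k => ctx.slpOk k) 12 1996 = true := by decide +kernel

theorem slp_part7_17 : allFrom (fun k => ctx.slpOk k) 12 2008 = true := by decide +kernel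

theorem slp_part7_18 : allFrom (fun k => ctx.slpOk k) 12 2020 = true := by decide +kernel

theorem slp_part7_19 : allFrom (fun k => ctx.slpOk k) 12 2032 = true := by decide +kernel

theorem slp_part7_20 : allFrom (fun k => ctx.slpOk k) 12 2044 = true := by decide +kernel

theorem slp_part7_21 : allFrom (fun k => ctx.slpOk k) 6 2056 = true := by decide +kernel

theorem slp_block7 (k : ℕ) (h1 : 1804 ≤ k) (h2 : k < 2062) : ctx.slpOk k = true := by
  by_cases h0 : k < 1816
  · exact allFrom_spec slp_part7_0 k (by omega) (by omega)
  by_cases h1 : k < 1828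
  · exact allFrom_spec slp_part7_1 k (by omega) (by omega)
  by_cases h2 : k < 1840
  · exact allFrom_spec slp_part7_2 k (by omega) (by omega)
  by_cases h3 : k < 1852
  · exact allFrom_spec slp_part7_3 k (by omega) (by omega)
  by_cases h4 : k < 1864
  · exact allFrom_spec slp_part7_4 k (by omega) (by omega)
  by_cases h5 : k < 1876
  · exact allFrom_spec slp_part7_5 k (by omega) (by omega)
  by_cases h6 : k < 1888
  · exact allFrom_spec slp_part7_6 k (by omega) (by omega)
  by_cases h7 : k < 1900
  · exact allFrom_spec slp_part7_7 k (by omega) (by omega)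
  by_cases h8 : k < 1912
  · exact allFrom_spec slp_part7_8 k (by omega) (by omega)
  by_cases h9 : k < 1924
  · exact allFrom_spec slp_part7_9 k (by omega) (by omega)
  by_cases h10 : k < 1936
  · exact allFrom_spec slp_part7_10 k (by omega) (by omega)
  by_cases h11 : k < 1948
  · exact allFrom_spec slp_part7_11 k (by omega) (by omega)
  by_cases h12 : k < 1960
  · exact allFrom_spec slp_part7_12 k (by omega) (by omega)
  by_cases h13 : k < 1972
  · exact allFrom_spec slp_part7_13 k (by omega) (by omega)
  by_cases h14 : k < 1984
  · exact allFrom_spec slp_part7_14 k (by omega) (by omega)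
  by_cases h15 : k < 1996
  · exact allFrom_spec slp_part7_15 k (by omega) (by omega)
  by_cases h16 : k < 2008
  · exact allFrom_spec slp_part7_16 k (by omega) (by omega)
  by_cases h17 : k < 2020
  · exact allFrom_spec slp_part7_17 k (by omega) (by omega)
  by_cases h18 : k < 2032
  · exact allFrom_spec slp_part7_18 k (by omega) (by omega)
  by_cases h19 : k < 2044
  · exact allFrom_spec slp_part7_19 k (by omega) (by omega)
  by_cases h20 : k < 2056
  · exact allFrom_spec slp_part7_20 k (by omega) (by omega)
  exact allFrom_spec slp_part7_21 k (by omega) (by omega)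

end Cfsg.Agent.H36.Fi22
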