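import Cfsg.Agent.H36.Fi22AutRows_trans0_0
import Cfsg.Agent.H36.Fi22AutRows_trans0_1
import Cfsg.Agent.H36.Fi22AutRows_trans1_0
import Cfsg.Agent.H36.Fi22AutRows_trans1_1
import Cfsg.Agent.H36.Fi22AutCert
import Cfsg.Agent.H36.AutEngineFix
import Cfsg.Agent.H36.Fi22AutSlp0
import Cfsg.Agent.H36.Fi22AutSlp1
import Cfsg.Agent.H36.Fi22AutSlp2
import Cfsg.Agent.H36.Fi22AutSlp3
import Cfsg.Agent.H36.Fi22AutSlp4
import Cfsg.Agent.H36.Fi22AutSlp5
import Cfsg.Agent.H36.Fi22AutSlp6
import Cfsg.Agent.H36.Fi22AutSlp7

/-! Kernel checks of the classification certificate. -/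

set_option autoImplicit false
set_option maxRecDepth 100000
set_option Elab.async false

open Cfsg.Agent.H16 Cfsg.Agent.H36.AutEngine

namespace Cfsg.Agent.H36.Fi22

theorem slp_ok : ∀ k, k < ctx.ns → ctx.slpOk k = true := by
  intro k hk
  change k < 2062 at hk
  by_cases h0 : k < 257
  · exact slp_block0 k (by omega) (by omega)
  by_cases h1 : k < 515
  · exact slp_block1 k (by omega) (by omega)
  by_cases h2 : k < 773
  · exact slp_block2 k (by omega) (by omega)
  by_cases h3 : k < 1031
  · exact slp_block3 k (by omega) (by omega)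
  by_cases h4 : k < 1288
  · exact slp_block4 k (by omega) (by omega)
  by_cases h5 : k < 1546
  · exact slp_block5 k (by omega) (by omega)
  by_cases h6 : k < 1804
  · exact slp_block6 k (by omega) (by omega)
  exact slp_block7 k (by omega) (by omega)

theorem levels_ok : ctx.levelsOk levels [] = true := by decide +kernel

theorem prod_ok : ctx.prodCnt levels = 64561751654400 := by
  apply Nat.eq_of_beq_eq_true
  decide +kernel

theorem trans0_shape : ctx.transShapeOk levels trans0 = true := by decide +kernel

theorem trans0_cand : allFrom (fun m => ctx.candOk levels trans0 m) 3510 0 = true := by decide +kernel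

theorem trans0_ok : TransOk ctx levels trans0 where
  shape := trans0_shape
  cand := fun m hm => allFrom_spec trans0_cand m (Nat.zero_le _) (by simpa [trans0, ctx] using hm)

theorem trans0_0_shape : ctx.transShapeOk levels trans0_0 = true := by decide +kernel

theorem trans0_0_fix : Ctx.fixShapeOk trans0_0 = true := by decide +kernel

theorem trans0_0_rows : ∀ t, t < ctx.n → ctx.fixRowOk levels trans0_0 t = true := rows_trans0_0

theorem trans0_0_ok : TransOk ctx levels trans0_0 where
  shape := trans0_0_shape
  cand := Ctx.cand_of_fix ctx levels trans0_0 trans0_0_fix (Ctx.allFrom_of_forall trans0_0_rows)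

theorem trans0_1_shape : ctx.transShapeOk levels trans0_1 = true := by decide +kernel

theorem trans0_1_fix : Ctx.fixShapeOk trans0_1 = true := by decide +kernel

theorem trans0_1_rows : ∀ t, t < ctx.n → ctx.fixRowOk levels trans0_1 t = true := rows_trans0_1

theorem trans0_1_ok : TransOk ctx levels trans0_1 where
  shape := trans0_1_shape
  cand := Ctx.cand_of_fix ctx levels trans0_1 trans0_1_fix (Ctx.allFrom_of_forall trans0_1_rows)

theorem trans1_shape : ctx.transShapeOk levels trans1 = true := by decide +kernel

theorem trans1_cand : allFrom (fun m => ctx.candOk levels trans1 m) 3510 0 = true := by decide +kernel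

theorem trans1_ok : TransOk ctx levels trans1 where
  shape := trans1_shape
  cand := fun m hm => allFrom_spec trans1_cand m (Nat.zero_le _) (by simpa [trans1, ctx] using hm)

theorem trans1_0_shape : ctx.transShapeOk levels trans1_0 = true := by decide +kernel

theorem trans1_0_fix : Ctx.fixShapeOk trans1_0 = true := by decide +kernel

theorem trans1_0_rows : ∀ t, t < ctx.n → ctx.fixRowOk levels trans1_0 t = true := rows_trans1_0

theorem trans1_0_ok : TransOk ctx levels trans1_0 where
  shape := trans1_0_shape
  cand := Ctx.cand_of_fix ctx levels trans1_0 trans1_0_fix (Ctx.allFrom_of_forall trans1_0_rows)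

theorem trans1_1_shape : ctx.transShapeOk levels trans1_1 = true := by decide +kernel

theorem trans1_1_fix : Ctx.fixShapeOk trans1_1 = true := by decide +kernel

theorem trans1_1_rows : ∀ t, t < ctx.n → ctx.fixRowOk levels trans1_1 t = true := rows_trans1_1

theorem trans1_1_ok : TransOk ctx levels trans1_1 where
  shape := trans1_1_shape
  cand := Ctx.cand_of_fix ctx levels trans1_1 trans1_1_fix (Ctx.allFrom_of_forall trans1_1_rows)

theorem outerTrans_shape : ctx.transShapeOk levels outerTrans = true := by decide +kernel

theorem outerTrans_cand : allFrom (fun m => ctx.candOk levels outerTrans m) 3510 0 = true := by decide +kernel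

theorem outerTrans_ok : TransOk ctx levels outerTrans where
  shape := outerTrans_shape
  cand := fun m hm => allFrom_spec outerTrans_cand m (Nat.zero_le _) (by simpa [outerTrans, ctx] using hm)

theorem main_ok : ctx.certOk levels cert = true := by decide +kernel

theorem case0_ok : ctx.caseOk levels cert (cert.cases.getD 0 ⟨0, 0, trans0, [], []⟩) = true := by decide +kernel

theorem branch0_0_ok : ctx.branchOk levels cert 1 (cert.cases.getD 0 ⟨0, 0, trans0, [], []⟩) ((cert.cases.getD 0 ⟨0, 0, trans0, [], []⟩).branches.getD 0 ⟨0, trans0, []⟩) = true := by decide +kernel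

theorem branch0_1_ok : ctx.branchOk levels cert 1 (cert.cases.getD 0 ⟨0, 0, trans0, [], []⟩) ((cert.cases.getD 0 ⟨0, 0, trans0, [], []⟩).branches.getD 1 ⟨0, trans0, []⟩) = true := by decide +kernel

theorem case1_ok : ctx.caseOk levels cert (cert.cases.getD 1 ⟨0, 0, trans1, [], []⟩) = true := by decide +kernel

theorem branch1_0_ok : ctx.branchOk levels cert 1 (cert.cases.getD 1 ⟨0, 0, trans1, [], []⟩) ((cert.cases.getD 1 ⟨0, 0, trans1, [], []⟩).branches.getD 0 ⟨0, trans1, []⟩) = true := by decide +kernel

theorem branch1_1_ok : ctx.branchOk levels cert 1 (cert.cases.getD 1 ⟨0, 0, trans1, [], []⟩) ((cert.cases.getD 1 ⟨0, 0, trans1, [], []⟩).branches.getD 1 ⟨0, trans1, []⟩) = true := by decide +kernel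

theorem cert_ok : CertOk ctx levels cert 1 where
  main := main_ok
  prime := show Nat.Prime 11 by norm_num
  cases := fun C hC => by
    simp only [cert, List.mem_cons, List.not_mem_nil, or_false] at hC
    rcases hC with rfl | rfl
    · refine ⟨case0_ok, trans0_ok, fun B hB => ?_⟩
      simp only [List.mem_cons, List.not_mem_nil, or_false] at hB
      rcases hB with rfl | rfl
      · exact ⟨branch0_0_ok, trans0_0_ok⟩
      · exact ⟨branch0_1_ok, trans0_1_ok⟩
    · refine ⟨case1_ok, trans1_ok, fun B hB => ?_⟩
      simp only [List.mem_cons, List.not_mem_nil, or_false] at hB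
      rcases hB with rfl | rfl
      · exact ⟨branch1_0_ok, trans1_0_ok⟩
      · exact ⟨branch1_1_ok, trans1_1_ok⟩

theorem outer_inv_ok : (ctx.allPts fun x => Nat.beq (ctx.ap outerInv (ctx.ap outerPerm x)) x && Nat.beq (ctx.ap outerPerm (ctx.ap outerInv x)) x &&
    Nat.blt (ctx.ap outerPerm x) ctx.n && Nat.blt (ctx.ap outerInv x) ctx.n) = true := by decide +kernel

theorem outer_img_ok : allFrom (fun k => Nat.blt (getN outerImg k) ctx.ns && Nat.blt (getN outerImgInv k) ctx.ns &&
      ctx.allPts (fun x => Nat.beq (ctx.ap outerPerm (ctx.ap (getN ctx.gens k) (ctx.ap outerInv x))) (ctx.ap (ctx.el (getN outerImg k)) x)) &&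
      ctx.allPts (fun x => Nat.beq (ctx.ap outerInv (ctx.ap (getN ctx.gens k) (ctx.ap outerPerm x))) (ctx.ap (ctx.el (getN outerImgInv k)) x)))
      ctx.gens.length 0 = true := by decide +kernel

theorem outer_triple_ok : allFrom (fun a => ctx.allPts fun x => Nat.beq
    (ctx.ap outerPerm (ctx.ap (ctx.el (getN [cert.xi, cert.wi, cert.zi] a)) (ctx.ap outerInv x)))
    (ctx.ap (ctx.el (getN cert.other a)) x)) 3 0 = true := by decide +kernel

theorem other_lt : cert.other.all (fun a => Nat.blt a ctx.ns) = true ∧ Nat.blt cert.wi ctx.ns = true ∧ Nat.blt cert.zi ctx.ns = true := by decide +kernel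

end Cfsg.Agent.H36.Fi22
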