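import Cfsg.Agent.H16.Fi22Order
import Cfsg.Agent.H36.Fi22AutChecks

/-!
The outer automorphism group of the Fischer group on 3510 points has order two.
-/

set_option autoImplicit false
set_option maxRecDepth 100000

namespace Cfsg.Agent.H36.Fi22

open Cfsg.Agent.H16 Cfsg.Agent.H36.AutEngine EnumData Equiv

noncomputable section

theorem gens_length : ctx.gens.length = 9 := rfl

/-- The generators on the cosets. -/
def gen (c : Fin ctx.gens.length) : Perm (Fin ctx.n) := Fi22H.valid.perm c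

theorem rep_ok : allFrom (fun g => allFrom (fun x => Nat.beq (Fi22H.data.act x g) (ctx.ap (getN genTab g) x)) 3510 0)
    9 0 = true := by decide +kernel

theorem gen_rep (c : Fin ctx.gens.length) : ctx.Rep (gen c) (getN ctx.gens c) := by
  intro x
  have hg : (c : ℕ) < Fi22H.data.ng := c.2
  have hx : (x : ℕ) < 3510 := x.2
  have h := allFrom_spec (allFrom_spec rep_ok c (Nat.zero_le _) (Nat.lt_of_lt_of_eq c.2 (gens_length.trans (Nat.zero_add 9).symm))) x (Nat.zero_le _) (by omega)
  refine Eq.trans ?_ (Nat.eq_of_beq_eq_true h)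
  show ((Fi22H.valid.perm (c : ℕ) x : Fin Fi22H.data.n) : ℕ) = _
  rw [Valid.perm, dif_pos hg]
  rfl

theorem grp_eq : grpOf gen = (Fi22H.theModel.rho.range : Subgroup (Perm (Fin Fi22H.data.n))) := by
  have h : (Fi22H.theModel.rho.range : Subgroup (Perm (Fin Fi22H.data.n))) =
      Subgroup.closure (Set.range fun g => Fi22H.valid.perm g) := by
    rw [MonoidHom.range_eq_map, ← Fi22H.theModel.gen_closure, MonoidHom.map_closure]
    congr 1
    ext p
    simp only [Set.mem_image, Set.mem_range]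
    constructor
    · rintro ⟨_, ⟨g, rfl⟩, rfl⟩; exact ⟨g, (Fi22H.theModel.rho_gen g).symm⟩
    · rintro ⟨g, rfl⟩; exact ⟨_, ⟨g, rfl⟩, Fi22H.theModel.rho_gen g⟩
  refine le_antisymm ((Subgroup.closure_le _).2 ?_) (h.le.trans ((Subgroup.closure_le _).2 ?_))
  · rintro _ ⟨c, rfl⟩
    rw [h]
    exact Subgroup.subset_closure ⟨(c : ℕ), rfl⟩
  · rintro _ ⟨g, rfl⟩
    by_cases hg : g < Fi22H.data.ng
    · exact Subgroup.subset_closure ⟨(⟨g, hg⟩ : Fin ctx.gens.length), rfl⟩
    · show Fi22H.valid.perm g ∈ _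
      rw [Valid.perm, dif_neg hg]
      exact one_mem _

/-- The presented group and the permutation group. -/
def modelEquiv : Cfsg.Spor.Fi22 ≃* grpOf gen :=
  (MonoidHom.ofInjective Fi22Order.card_and_faithful.2).trans (MulEquiv.subgroupCongr grp_eq.symm)

theorem card_grp : Nat.card (grpOf gen) = 64561751654400 := by
  rw [← Nat.card_congr modelEquiv.toEquiv, Fi22Order.card_and_faithful.1]

theorem setting : Setting ctx levels gen where
  rep := gen_rep
  slp := slp_ok
  levels := levels_ok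
  card := prod_ok.trans card_grp.symm

theorem fac : (Nat.card (grpOf gen)).factorization cert.p = 1 := by
  rw [card_grp, show cert.p = 11 from rfl, show (64561751654400 : ℕ) = 11 ^ 1 * 5869250150400 by norm_num,
    Nat.factorization_mul (by norm_num) (by norm_num), Finsupp.add_apply,
    Nat.Prime.factorization_pow (by norm_num),
    Nat.factorization_eq_zero_of_not_dvd (by norm_num : ¬ 11 ∣ 5869250150400)]
  simp

theorem outer_spec (x : Fin ctx.n) : ctx.ap outerPerm x < ctx.n ∧ ctx.ap outerInv x < ctx.n ∧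
    ctx.ap outerInv (ctx.ap outerPerm x) = x ∧ ctx.ap outerPerm (ctx.ap outerInv x) = x := by
  have h := allFrom_spec outer_inv_ok x (Nat.zero_le _) (Nat.lt_of_lt_of_eq x.2 (Nat.zero_add _).symm)
  simp only [Bool.and_eq_true, Nat.blt_eq] at h
  exact ⟨h.1.2, h.2, Nat.eq_of_beq_eq_true h.1.1.1, Nat.eq_of_beq_eq_true h.1.1.2⟩

/-- The outer permutation. -/
def tau : Perm (Fin ctx.n) where
  toFun x := ⟨ctx.ap outerPerm x, (outer_spec x).1⟩
  invFun x := ⟨ctx.ap outerInv x, (outer_spec x).2.1⟩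
  left_inv x := Fin.ext (outer_spec x).2.2.1
  right_inv x := Fin.ext (outer_spec x).2.2.2

theorem card_out_grp : Nat.card (Cfsg.Out (grpOf gen)) = 2 := by
  obtain ⟨β, hβ⟩ := exists_aut setting tau (S := outerPerm) (T := outerInv) (fun _ => rfl) (fun _ => rfl)
    outerImg outerImgInv outer_img_ok
  obtain ⟨ho, hw, hz⟩ := other_lt
  simp only [List.all_eq_true, Nat.blt_eq] at ho hw hz
  refine card_out_two setting cert_ok fac β (fun a ha => ?_) outerTrans_ok rfl rfl rfl
  have hlt : getN [cert.xi, cert.wi, cert.zi] a < ctx.ns ∧ getN cert.other a < ctx.ns := by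
    refine ⟨?_, ho _ (getN_mem _ (Nat.lt_of_lt_of_eq ha rfl))⟩
    interval_cases a
    · exact Nat.blt_eq.mp (by decide +kernel : Nat.blt cert.xi ctx.ns = true)
    · exact hw
    · exact hz
  refine Subtype.ext (Equiv.ext fun x => Fin.ext ?_)
  rw [hβ, Perm.mul_apply, Perm.mul_apply]
  show ctx.ap outerPerm ((((elG setting (getN [cert.xi, cert.wi, cert.zi] a) : grpOf gen) : Perm (Fin ctx.n)) (tau⁻¹ x) : Fin ctx.n) : ℕ) = _
  rw [elG_rep setting hlt.1, elG_rep setting hlt.2]
  exact Ctx.pts_spec (allFrom_spec outer_triple_ok a (Nat.zero_le _) (by omega)) x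

theorem card_out_fi22 : Nat.card (Cfsg.Out Cfsg.Spor.Fi22) = 2 := by
  rw [← card_out_grp]
  refine Nat.card_congr (QuotientGroup.congr _ _ (MulAut.congr modelEquiv) ?_).toEquiv
  ext x
  constructor
  · rintro ⟨_, ⟨g, rfl⟩, rfl⟩
    exact ⟨modelEquiv g, by ext y; simp [MulAut.congr]⟩
  · rintro ⟨h, rfl⟩
    exact ⟨MulAut.conj (modelEquiv.symm h), ⟨_, rfl⟩, by ext y; simp [MulAut.congr]⟩

end

end Cfsg.Agent.H36.Fi22
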