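import Cfsg.Agent.H36.HSData
import Cfsg.Agent.H15.Data.OrbC100

/-! Kernel checks for the automorphisms of the Higman-Sims group. -/

set_option autoImplicit false
set_option maxRecDepth 100000

open Cfsg.Agent.H16

namespace Cfsg.Agent.H36.HS

/-- The image of a point. -/
noncomputable def ap (P x : ℕ) : ℕ := pim 7 P x

/-- A test on all points. -/
noncomputable def allPts (p : ℕ → Bool) : Bool := allFrom p 100 0

/-- The identity. -/
noncomputable def isOne (P : ℕ) : Bool := allPts fun x => Nat.beq (ap P x) x

/-- The packed permutation for entry `k` of the straight-line program. -/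
noncomputable def el (k : ℕ) : ℕ := slpTab.get k

/-- The generators act on the vectors as the matrices do. -/
noncomputable def genOk (g : ℕ) : Bool :=
  allFrom (fun i => Nat.blt (ap (getN genTab g) i) 100 &&
    H15.checkImg (H15.Data.pcsHS.getD g ([], 0)) (H15.Data.certC100.pt i) (H15.Data.certC100.pt (ap (getN genTab g) i))) 100 0

/-- Entry `k` is a generator or a product of earlier entries. -/
noncomputable def slpOk (k : ℕ) : Bool :=
  forceNat (el k) fun P =>
  if Nat.blt k 2 then allPts fun x => Nat.beq (ap P x) (ap (getN genTab k) x)
  else forceNat (bitField (slpEdge.get 48 k) 0 16) fun a => forceNat (bitField (slpEdge.get 48 k) 16 16) fun b =>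
    forceNat (el a) fun A => forceNat (el b) fun B =>
      Nat.blt a k && Nat.blt b k && allPts fun x => Nat.beq (ap P x) (ap A (ap B x))

/-- Conjugation by a generator permutes the class of involutions. -/
noncomputable def moveOk (m : ℕ) : Bool :=
  forceNat (Nat.div m 5775) fun g => forceNat (Nat.mod m 5775) fun i => forceNat (invMove.get 48 m) fun j =>
  forceNat (getN genTab g) fun S => forceNat (invTab.get i) fun A => forceNat (invTab.get j) fun B =>
    Nat.blt j 5775 && allPts fun x => Nat.beq (ap S (ap A x)) (ap B (ap S x))

/-- The images of the first three points. -/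
noncomputable def key (P : ℕ) : ℕ := Nat.add (Nat.add (ap P 0) (Nat.mul 128 (ap P 1))) (Nat.mul 16384 (ap P 2))

/-- A listed subgroup: identity first, edges, moves, distinct keys. -/
noncomputable def subOk (gens : List ℕ) (tab : NTree) (edge move : PArr) (n : ℕ) : Bool :=
  isOne (tab.get 0) &&
  allFrom (fun k => Nat.blt (getN gens k) 479) gens.length 0 &&
  allFrom (fun i => Nat.beq i 0 ||
    (forceNat (bitField (edge.get 48 i) 0 16) fun g => forceNat (bitField (edge.get 48 i) 16 16) fun p =>
     forceNat (el (getN gens g)) fun S => forceNat (tab.get i) fun P => forceNat (tab.get p) fun Q =>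
      Nat.blt g gens.length && Nat.blt p i && allPts fun x => Nat.beq (ap P x) (ap S (ap Q x)))) n 0 &&
  allFrom (fun m => forceNat (Nat.div m n) fun g => forceNat (Nat.mod m n) fun i => forceNat (move.get 48 m) fun j =>
     forceNat (el (getN gens g)) fun S => forceNat (tab.get i) fun P => forceNat (tab.get j) fun Q =>
      Nat.blt j n && allPts fun x => Nat.beq (ap Q x) (ap S (ap P x))) (Nat.mul gens.length n) 0 &&
  allFrom (fun i => forceNat (key (tab.get i)) fun a =>
    allFrom (fun j => !(Nat.beq a (key (tab.get j)))) i 0) n 0

/-- In the Sylow `2`-subgroup the elements of order four square into the class, and no involution fixes thirty points. -/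
noncomputable def sqOk (i : ℕ) : Bool :=
  forceNat (p2Tab.get i) fun P =>
    bif allPts (fun x => Nat.beq (ap P (ap P x)) x) then !(Nat.beq (countFrom (fun x => Nat.beq (ap P x) x) 100 0) 30)
    else !(allPts fun x => Nat.beq (ap P (ap P (ap P (ap P x)))) x) ||
      forceNat (p2Sq.get 48 i) fun j => forceNat (invTab.get j) fun A =>
        Nat.blt j 5775 && allPts fun x => Nat.beq (ap P (ap P x)) (ap A x)

/-- Words in `x` (letter `1`) and the variable involution (letter `0`), with the orders of their values. -/
def pats : List (List ℕ × ℕ) :=
  [([1, 0], 15), ([1, 1, 0], 8), ([1, 1, 1, 0], 7), ([1, 0, 1, 1, 0], 10), ([1, 0, 1, 1, 1, 0], 15),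
    ([1, 1, 0, 1, 1, 1, 1, 0], 10)]

/-- A word in a pair of packed permutations applied to a point. -/
noncomputable def evalTwo (X Y : ℕ) (w : List ℕ) (x : ℕ) : ℕ := evalW 7 [Y, X] w x

/-- The first three points are fixed by the powers of the words. -/
noncomputable def patOk (Y : ℕ) : Bool :=
  forceNat (el 26) fun X =>
    pats.all fun p => allFrom (fun b => Nat.beq (iterPt (evalTwo X Y p.1) p.2 b) b) 3 0

/-- The full relations for the chosen involution. -/
noncomputable def relOk : Bool :=
  pats.all fun p => allPts fun b => Nat.beq (iterPt (evalTwo (el 26) (el 58) p.1) p.2 b) b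

/-- Candidates are among the conjugates of the two chosen involutions. -/
noncomputable def candOk (i : ℕ) : Bool :=
  forceNat (invTab.get i) fun A => !(patOk A) || survTab.any fun s => Nat.beq (Nat.div s 16) i

/-- The listed candidates are conjugates. -/
noncomputable def survOk : Bool :=
  survTab.all fun s => forceNat (Nat.div (Nat.mod s 16) 2) fun k => forceNat (invTab.get (Nat.div s 16)) fun A =>
    forceNat (bif Nat.beq (Nat.mod s 2) 0 then el 58 else invTab.get yOne) fun B =>
    allPts fun x => Nat.beq (ap A (iterPt (ap (el 26)) k x)) (iterPt (ap (el 26)) k (ap B x))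

/-- The facts about the special elements. -/
noncomputable def specialOk : Bool :=
  allPts (fun b => Nat.beq (iterPt (ap (el 26)) 7 b) b) && !(isOne (el 26)) &&
  allPts (fun b => Nat.beq (iterPt (ap (el 478)) 11 b) b) && !(isOne (el 478)) &&
  allPts (fun b => Nat.beq (iterPt (ap (el 57)) 4 b) b) && !(allPts fun b => Nat.beq (iterPt (ap (el 57)) 2 b) b) &&
  allPts (fun b => Nat.beq (iterPt (ap (el 57)) 2 b) (ap (el 58) b)) &&
  allPts (fun b => Nat.beq (ap (el 153) (ap (el 26) b)) (iterPt (ap (el 26)) 3 (ap (el 153) b)))

/-- The outer permutation. -/
noncomputable def sigOk : Bool :=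
  allPts (fun x => Nat.blt (ap sigTab x) 100 && Nat.beq (ap sigTab (ap sigTab x)) x) &&
  Nat.beq (countFrom (fun x => Nat.beq (ap sigTab x) x) 100 0) 30 &&
  allPts (fun x => Nat.beq (ap sigTab (ap (getN genTab 0) (ap sigTab x))) (ap (el 254) x)) &&
  allPts (fun x => Nat.beq (ap sigTab (ap (getN genTab 1) (ap sigTab x))) (ap (el 276) x)) &&
  allPts (fun x => Nat.beq (ap sigTab (ap (el 26) x)) (ap (el 26) (ap sigTab x))) &&
  allPts (fun x => Nat.beq (ap sigTab (ap (el 58) (ap sigTab x))) (ap (invTab.get yOne) x))

/-- The pair generates. -/
noncomputable def xyOk : Bool :=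
  allFrom (fun g => (getW xyWords g).all (fun a => Nat.blt a 2) &&
    allPts fun x => Nat.beq (evalW 7 [el 26, el 58] (getW xyWords g) x) (ap (getN genTab g) x)) 2 0

/-- A word in the generators fixing the point `0` only. -/
noncomputable def fixOk : Bool :=
  (getW fixWords 0).all (fun a => Nat.blt a 2) && Nat.beq (evalW 7 genTab (getW fixWords 0) 0) 0 &&
  allFrom (fun x => Nat.beq x 0 || !(Nat.beq (evalW 7 genTab (getW fixWords 0) x) x)) 100 0

theorem gen_ok : ∀ g, g < 2 → genOk g = true :=
  allFrom_extend allFrom_nil (show allFrom genOk 2 0 = true by decide +kernel)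
theorem slp_ok : ∀ k, k < 479 → slpOk k = true :=
  allFrom_extend allFrom_nil (show allFrom slpOk 479 0 = true by decide +kernel)
theorem p2_ok : subOk p2Gens p2Tab p2Edge p2Move 512 = true := by decide +kernel
theorem p5_ok : subOk p5Gens p5Tab p5Edge p5Move 125 = true := by decide +kernel
theorem sq_ok : ∀ i, i < 512 → sqOk i = true :=
  allFrom_extend allFrom_nil (show allFrom sqOk 512 0 = true by decide +kernel)
theorem rel_ok : relOk = true := by decide +kernel
theorem surv_ok : survOk = true := by decide +kernel
theorem special_ok : specialOk = true := by decide +kernel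
theorem sig_ok : sigOk = true := by decide +kernel
theorem xy_ok : xyOk = true := by decide +kernel
theorem fix_ok : fixOk = true := by decide +kernel
private theorem cand_ok0 : allFrom candOk 1155 0 = true := by decide +kernel
private theorem cand_ok1 : allFrom candOk 1155 1155 = true := by decide +kernel
private theorem cand_ok2 : allFrom candOk 1155 2310 = true := by decide +kernel
private theorem cand_ok3 : allFrom candOk 1155 3465 = true := by decide +kernel
private theorem cand_ok4 : allFrom candOk 1155 4620 = true := by decide +kernel
theorem cand_ok : ∀ m, m < 5775 → candOk m = true :=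
  (allFrom_extend (allFrom_extend (allFrom_extend (allFrom_extend (allFrom_extend allFrom_nil
    cand_ok0)
    cand_ok1)
    cand_ok2)
    cand_ok3)
    cand_ok4)
private theorem move_ok0 : allFrom moveOk 770 0 = true := by decide +kernel
private theorem move_ok1 : allFrom moveOk 770 770 = true := by decide +kernel
private theorem move_ok2 : allFrom moveOk 770 1540 = true := by decide +kernel
private theorem move_ok3 : allFrom moveOk 770 2310 = true := by decide +kernel
private theorem move_ok4 : allFrom moveOk 770 3080 = true := by decide +kernel
private theorem move_ok5 : allFrom moveOk 770 3850 = true := by decide +kernel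
private theorem move_ok6 : allFrom moveOk 770 4620 = true := by decide +kernel
private theorem move_ok7 : allFrom moveOk 770 5390 = true := by decide +kernel
private theorem move_ok8 : allFrom moveOk 770 6160 = true := by decide +kernel
private theorem move_ok9 : allFrom moveOk 770 6930 = true := by decide +kernel
private theorem move_ok10 : allFrom moveOk 770 7700 = true := by decide +kernel
private theorem move_ok11 : allFrom moveOk 770 8470 = true := by decide +kernel
private theorem move_ok12 : allFrom moveOk 770 9240 = true := by decide +kernel
private theorem move_ok13 : allFrom moveOk 770 10010 = true := by decide +kernel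
private theorem move_ok14 : allFrom moveOk 770 10780 = true := by decide +kernel
theorem move_ok : ∀ m, m < 11550 → moveOk m = true :=
  (allFrom_extend (allFrom_extend (allFrom_extend (allFrom_extend (allFrom_extend (allFrom_extend (allFrom_extend (allFrom_extend (allFrom_extend (allFrom_extend (allFrom_extend (allFrom_extend (allFrom_extend (allFrom_extend (allFrom_extend allFrom_nil
    move_ok0)
    move_ok1)
    move_ok2)
    move_ok3)
    move_ok4)
    move_ok5)
    move_ok6)
    move_ok7)
    move_ok8)
    move_ok9)
    move_ok10)
    move_ok11)
    move_ok12)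
    move_ok13)
    move_ok14)

end Cfsg.Agent.H36.HS
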