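import Cfsg.Agent.H36.HSChecks
import Cfsg.Agent.H14.HSGraph

/-! The Higman-Sims group as the group generated by two permutations of 100 points. -/

set_option autoImplicit false

namespace Cfsg.Agent.H36.HS

open Cfsg.Agent.H14 Cfsg.Agent.H14.HSGraph Cfsg.Agent.H16 Equiv

noncomputable section

/-- Permutations of the 100 points. -/
abbrev P100 := Perm (Fin 100)

/-- The packed map of a permutation. -/
def Rep (g : P100) (P : ℕ) : Prop := ∀ x : Fin 100, (g x : ℕ) = ap P x

theorem Rep.unique {g g' : P100} {P : ℕ} (h : Rep g P) (h' : Rep g' P) : g = g' :=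
  Equiv.ext fun x => Fin.ext ((h x).trans (h' x).symm)

theorem allPts_spec {p : ℕ → Bool} (h : allPts p = true) (x : Fin 100) : p x = true :=
  allFrom_spec h x (Nat.zero_le _) (by simp)

theorem pts_spec {f g : ℕ → ℕ} (h : allPts (fun x => Nat.beq (f x) (g x)) = true) (x : Fin 100) : f x = g x :=
  Nat.eq_of_beq_eq_true (allPts_spec h x)

/-- The vector at a point. -/
def ptVec (i : Fin 100) : ↥(H15.set100 H15.bV H15.bW) := (pt_exists i).choose

theorem ptVec_val (i : Fin 100) :
    ((ptVec i : leechLattice) : H14.V) = H15.vecOf (H15.Data.certC100.pt i) := (pt_exists i).choose_spec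

theorem ptVec_bijective : Function.Bijective ptVec := by
  have hinj : Function.Injective ptVec := by
    intro i j e
    have h := congrArg (fun x : ↥(H15.set100 H15.bV H15.bW) => ((x : leechLattice) : H14.V)) e
    simp only [ptVec_val] at h
    exact Fin.ext (H15.OrbitCert.pt_injOn H15.Data.certC100_ok i.2 j.2
      (H15.vecOf_inj (H15.OrbitCert.pt_lt _ _) (H15.OrbitCert.pt_lt _ _) h))
  have : Finite ↥(H15.set100 H15.bV H15.bW) :=
    Nat.finite_of_card_ne_zero (by rw [Nat.card_coe_set_eq, H15.orbit_100.2.1]; norm_num)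
  refine hinj.bijective_of_nat_card_le ?_
  rw [Nat.card_coe_set_eq, H15.orbit_100.2.1, Nat.card_fin]

/-- Points and vectors. -/
def ptEquiv : Fin 100 ≃ ↥(H15.set100 H15.bV H15.bW) := Equiv.ofBijective ptVec ptVec_bijective

/-- The action on the points. -/
def rho : hsGrp →* P100 where
  toFun g := ptEquiv.trans ((hsHom g).toEquiv.trans ptEquiv.symm)
  map_one' := Equiv.ext fun i => by
    show ptEquiv.symm (hsHom 1 (ptEquiv i)) = i
    rw [map_one]
    exact ptEquiv.symm_apply_apply i
  map_mul' g h := Equiv.ext fun i => by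
    show ptEquiv.symm (hsHom (g * h) (ptEquiv i)) = ptEquiv.symm (hsHom g (ptEquiv (ptEquiv.symm (hsHom h (ptEquiv i)))))
    rw [map_mul, Equiv.apply_symm_apply]
    rfl

theorem rho_transitive (i j : Fin 100) : ∃ g, rho g i = j := by
  obtain ⟨g, hg⟩ := hsHom_transitive (ptEquiv i) (ptEquiv j)
  refine ⟨g, ?_⟩
  show ptEquiv.symm (hsHom g (ptEquiv i)) = j
  rw [hg, Equiv.symm_apply_apply]

theorem rho_injective : Function.Injective rho := by
  rw [← MonoidHom.ker_eq_bot_iff]
  refine (hsGrp_simple.eq_bot_or_eq_top_of_normal _ inferInstance).resolve_right fun htop => ?_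
  obtain ⟨g, hg⟩ := rho_transitive 0 1
  have h1 : rho g = 1 := by rw [← MonoidHom.mem_ker, htop]; exact Subgroup.mem_top g
  rw [h1] at hg
  exact absurd hg (by decide)

theorem card_range : Nat.card rho.range = 44352000 := by
  rw [← Nat.card_congr (MonoidHom.ofInjective rho_injective).toEquiv, card_hsGrp]

theorem range_simple : IsSimpleGroup rho.range := by
  have := hsGrp_simple
  exact MulEquiv.isSimpleGroup (MonoidHom.ofInjective rho_injective).symm

theorem gen_mem_range (g : Fin 2) : ∃ s ∈ rho.range, Rep s (getN genTab g) := by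
  have hlen : H15.Data.gensHS.length = 2 := rfl
  set M := H15.Data.gensHS.getD g ⟨[], []⟩ with hMdef
  have hmem : M ∈ H15.Data.gensHS := H15.getD_mem (by omega)
  have hok := H15.Data.gensHS_ok M hmem
  have hfix : (H15.Data.gensHS.all fun M => [H15.cV, H15.cA].all fun P => H15.checkImg (H15.packCols M.cols) P P) = true := by
    decide +kernel
  simp only [List.all_eq_true] at hfix
  have hg : H15.matAut M hok ∈ hsGrp :=
    H15.fixCodes_VA_le fun P hP _ hx => H15.smul_eq_self_of_check hok (hfix M hmem P hP) hx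
  refine ⟨rho ⟨_, hg⟩, ⟨_, rfl⟩, fun i => ?_⟩
  have hc := allFrom_spec (gen_ok g g.2) i (Nat.zero_le _) (by omega)
  simp only [Bool.and_eq_true, Nat.blt_eq] at hc
  obtain ⟨hlt, hc⟩ := hc
  rw [← H15.Data.pcsHS_eq, H15.getD_map_of_lt (e := (⟨[], []⟩ : H15.Mat)) _ (by omega), ← hMdef] at hc
  have : hsHom ⟨_, hg⟩ (ptEquiv i) = ptEquiv ⟨ap (getN genTab g) i, hlt⟩ := by
    refine Subtype.ext (Subtype.ext ?_)
    show (H15.matAut M hok • (ptVec i : leechLattice)).1 = (ptVec ⟨_, hlt⟩ : leechLattice).1
    rw [H15.smul_eq_of_check hok hc (ptVec_val i)]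
    exact (ptVec_val ⟨_, hlt⟩).symm
  show ((ptEquiv.symm (hsHom ⟨_, hg⟩ (ptEquiv i)) : Fin 100) : ℕ) = _
  rw [this, Equiv.symm_apply_apply]

/-- The two generators. -/
def gen (g : Fin 2) : P100 := (gen_mem_range g).choose

theorem gen_range (g : Fin 2) : gen g ∈ rho.range := (gen_mem_range g).choose_spec.1

theorem gen_rep (g : Fin 2) : Rep (gen g) (getN genTab g) := (gen_mem_range g).choose_spec.2

/-- The group they generate. -/
def grp : Subgroup P100 := Subgroup.closure (Set.range gen)

theorem rep_mul {g g' : P100} {P Q R : ℕ} (h : Rep g P) (h' : Rep g' Q)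
    (e : ∀ x : Fin 100, ap R x = ap P (ap Q x)) : Rep (g * g') R := fun x => by
  rw [Perm.mul_apply, h, h', e]

theorem el_mem : ∀ k, k < 479 → ∃ g ∈ grp, Rep g (el k) := by
  intro k
  induction k using Nat.strong_induction_on with
  | h k ih =>
    intro hk
    have h := slp_ok k hk
    simp only [slpOk, forceNat_eq] at h
    by_cases h2 : k < 2
    · rw [if_pos (by simpa using h2)] at h
      exact ⟨gen ⟨k, h2⟩, Subgroup.subset_closure ⟨_, rfl⟩, fun x => by rw [gen_rep, pts_spec h x]⟩
    · rw [if_neg (by simpa using h2)] at h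
      simp only [Bool.and_eq_true, Nat.blt_eq] at h
      obtain ⟨⟨ha, hb⟩, hx⟩ := h
      obtain ⟨g, hg, hr⟩ := ih _ ha (lt_trans ha hk)
      obtain ⟨g', hg', hr'⟩ := ih _ hb (lt_trans hb hk)
      exact ⟨g * g', mul_mem hg hg', rep_mul hr hr' (pts_spec hx)⟩

/-- Entry `k` of the program as a permutation. -/
def elP (k : ℕ) : P100 := if h : k < 479 then (el_mem k h).choose else 1

theorem elP_mem (k : ℕ) : elP k ∈ grp := by
  unfold elP
  split
  · next h => exact (el_mem k h).choose_spec.1
  · exact one_mem _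

theorem elP_rep {k : ℕ} (h : k < 479) : Rep (elP k) (el k) := by
  rw [elP, dif_pos h]; exact (el_mem k h).choose_spec.2

theorem iterPt_spec {g : P100} {f : ℕ → ℕ} (h : ∀ x : Fin 100, f x = (g x : Fin 100)) (m : ℕ) (x : Fin 100) :
    iterPt f m x = ((g ^ m) x : Fin 100) := by
  induction m with
  | zero => simp [iterPt]
  | succ m ih =>
    show forceNat (iterPt f m x) f = _
    rw [forceNat_eq, ih, h, pow_succ', Perm.mul_apply]

theorem pow_eq {g : P100} {P : ℕ} (h : Rep g P) {m : ℕ} {f : ℕ → ℕ}
    (e : allPts (fun b => Nat.beq (iterPt (ap P) m b) (f b)) = true) (x : Fin 100) :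
    (((g ^ m) x : Fin 100) : ℕ) = f x := by
  rw [← iterPt_spec (fun y => (h y).symm) m x]
  exact pts_spec e x

theorem pow_eq_one {g : P100} {P m : ℕ} (h : Rep g P)
    (e : allPts (fun b => Nat.beq (iterPt (ap P) m b) b) = true) : g ^ m = 1 :=
  Equiv.ext fun x => Fin.ext (pow_eq h e x)

theorem eq_one_iff {g : P100} {P : ℕ} (h : Rep g P) : isOne P = false → g ≠ 1 := by
  intro hf he
  have : isOne P = true := by
    have key : ∀ (k lo : ℕ), lo + k ≤ 100 → allFrom (fun x => Nat.beq (ap P x) x) k lo = true := by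
      intro k
      induction k with
      | zero => exact fun _ _ => rfl
      | succ k ih =>
        intro lo hlo
        have := h ⟨lo, by omega⟩
        rw [he] at this
        rw [allFrom_succ, ih (lo + 1) (by omega), Bool.and_true]
        simp only [Perm.one_apply] at this
        simp [← this]
    exact key 100 0 (by omega)
  rw [this] at hf
  exact absurd hf (by decide)

theorem orderOf_seven : orderOf (elP 26) = 7 := by
  have h := special_ok
  simp only [specialOk, Bool.and_eq_true, Bool.not_eq_true'] at h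
  have : Fact (Nat.Prime 7) := ⟨by norm_num⟩
  exact orderOf_eq_prime (pow_eq_one (elP_rep (by norm_num)) h.1.1.1.1.1.1.1) (eq_one_iff (elP_rep (by norm_num)) h.1.1.1.1.1.1.2)

theorem orderOf_eleven : orderOf (elP 478) = 11 := by
  have h := special_ok
  simp only [specialOk, Bool.and_eq_true, Bool.not_eq_true'] at h
  have : Fact (Nat.Prime 11) := ⟨by norm_num⟩
  exact orderOf_eq_prime (pow_eq_one (elP_rep (by norm_num)) h.1.1.1.1.1.2) (eq_one_iff (elP_rep (by norm_num)) h.1.1.1.1.2)

theorem sub_spec {gens : List ℕ} {tab : NTree} {edge move : PArr} {n : ℕ} (hn : 0 < n)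
    (h : subOk gens tab edge move n = true) :
    ∃ P : Subgroup P100, P ≤ grp ∧ Nat.card P = n ∧ ∀ g ∈ P, ∃ i < n, Rep g (tab.get i) := by
  simp only [subOk, Bool.and_eq_true] at h
  obtain ⟨⟨⟨⟨h1, hgn⟩, he⟩, hm⟩, hk⟩ := h
  let T : Set P100 := {g | ∃ k, k < gens.length ∧ elP (getN gens k) = g}
  have hlt : ∀ k, k < gens.length → getN gens k < 479 := fun k hk' => by
    simpa using allFrom_spec hgn k (Nat.zero_le _) (by omega)
  have hin : ∀ i, i < n → ∃ g ∈ Subgroup.closure T, Rep g (tab.get i) := by
    intro i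
    induction i using Nat.strong_induction_on with
    | h i ih =>
      intro hi
      have h' := allFrom_spec he i (Nat.zero_le _) (by omega)
      simp only [forceNat_eq, Bool.or_eq_true, Bool.and_eq_true] at h'
      rcases h' with h' | ⟨⟨hg, hp⟩, hx⟩
      · rw [Nat.eq_of_beq_eq_true h']
        exact ⟨1, one_mem _, fun x => (pts_spec h1 x).symm⟩
      · simp only [Nat.blt_eq] at hg hp
        obtain ⟨g, hgm, hgr⟩ := ih _ hp (lt_trans hp hi)
        exact ⟨elP _ * g, mul_mem (Subgroup.subset_closure ⟨_, hg, rfl⟩) hgm,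
          rep_mul (elP_rep (hlt _ hg)) hgr (pts_spec hx)⟩
  choose e heT her using hin
  have hall : ∀ g ∈ Subgroup.closure T, ∃ i < n, Rep g (tab.get i) := by
    intro g hg
    have := SpecCert.closure_mul_mem (T := T) (Y := {g : P100 | ∃ i < n, Rep g (tab.get i)}) ?_ hg 1
      ⟨0, hn, fun x => (pts_spec h1 x).symm⟩
    · simpa using this
    rintro _ ⟨k, hk', rfl⟩ y ⟨i, hi, hy⟩
    have hlt' : k * n + i < gens.length * n := by
      have h1 : k * n + n ≤ gens.length * n := by rw [← Nat.succ_mul]; exact Nat.mul_le_mul_right _ hk'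
      omega
    have h' := allFrom_spec hm (k * n + i) (Nat.zero_le _) (by simpa using hlt')
    have ec : Nat.div (k * n + i) n = k := by
      show (k * n + i) / n = k
      rw [Nat.add_comm, Nat.add_mul_div_right _ _ hn, Nat.div_eq_of_lt hi, zero_add]
    have ei : Nat.mod (k * n + i) n = i := by
      show (k * n + i) % n = i
      rw [Nat.add_comm, Nat.add_mul_mod_self_right, Nat.mod_eq_of_lt hi]
    simp only [forceNat_eq, ec, ei, Bool.and_eq_true, Nat.blt_eq] at h'
    exact ⟨_, h'.1, rep_mul (elP_rep (hlt k hk')) hy (pts_spec h'.2)⟩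
  refine ⟨Subgroup.closure T, (Subgroup.closure_le _).2 (by rintro _ ⟨k, -, rfl⟩; exact elP_mem _), ?_, hall⟩
  refine le_antisymm ?_ ?_
  · choose f hf hfr using hall
    refine (Nat.card_le_card_of_injective (fun g : Subgroup.closure T => (⟨f g g.2, hf g g.2⟩ : Fin n)) ?_).trans_eq
      (Nat.card_fin n)
    intro a b e'
    have e'' := congrArg Fin.val e'
    simp only at e''
    exact Subtype.ext ((hfr a a.2).unique (e'' ▸ hfr b b.2))
  · rw [← Nat.card_fin n]
    refine Nat.card_le_card_of_injective (fun i : Fin n => (⟨e i i.2, heT i i.2⟩ : Subgroup.closure T)) ?_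
    intro a b e'
    have hab := congrArg Subtype.val e'
    simp only at hab
    by_contra hne
    have key : ∀ i j : Fin n, e i i.2 = e j j.2 → (j : ℕ) < i → False := fun i j hij hlt' => by
      have h' := allFrom_spec hk i (Nat.zero_le _) (by omega)
      simp only [forceNat_eq] at h'
      have h'' := allFrom_spec h' j (Nat.zero_le _) (by omega)
      have hx : ∀ x : Fin 100, ap (tab.get i) x = ap (tab.get j) x := fun x => by
        rw [← her i i.2 x, ← her j j.2 x, hij]
      have hkey : key (tab.get i) = key (tab.get j) := by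
        have q0 : ap (tab.get i) 0 = ap (tab.get j) 0 := hx 0
        have q1 : ap (tab.get i) 1 = ap (tab.get j) 1 := hx 1
        have q2 : ap (tab.get i) 2 = ap (tab.get j) 2 := hx 2
        simp only [HS.key, q0, q1, q2]
      simp [hkey] at h''
    rcases Nat.lt_or_gt_of_ne (fun h => hne (Fin.ext h)) with h | h
    · exact key b a hab.symm h
    · exact key a b hab h

theorem grp_eq : grp = rho.range := by
  have hle : grp ≤ rho.range := (Subgroup.closure_le _).2 (by rintro _ ⟨g, rfl⟩; exact gen_range g)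
  obtain ⟨P2, hP2, hc2, -⟩ := sub_spec (by norm_num) p2_ok
  obtain ⟨P5, hP5, hc5, -⟩ := sub_spec (by norm_num) p5_ok
  have d2 : 512 ∣ Nat.card grp := hc2 ▸ Subgroup.card_dvd_of_le hP2
  have d5 : 125 ∣ Nat.card grp := hc5 ▸ Subgroup.card_dvd_of_le hP5
  have d7 : 7 ∣ Nat.card grp := by
    have := orderOf_dvd_natCard (⟨elP 26, elP_mem _⟩ : grp)
    rwa [Subgroup.orderOf_mk, orderOf_seven] at this
  have d11 : 11 ∣ Nat.card grp := by
    have := orderOf_dvd_natCard (⟨elP 478, elP_mem _⟩ : grp)
    rwa [Subgroup.orderOf_mk, orderOf_eleven] at this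
  have hd : 4928000 ∣ Nat.card grp := by
    have := Nat.Coprime.mul_dvd_of_dvd_of_dvd (show Nat.Coprime 512 125 by norm_num) d2 d5
    have := Nat.Coprime.mul_dvd_of_dvd_of_dvd (by norm_num) this d7
    exact Nat.Coprime.mul_dvd_of_dvd_of_dvd (by norm_num) this d11
  set K := grp.subgroupOf rho.range with hK
  have hcK : Nat.card K = Nat.card grp := Nat.card_congr (Subgroup.subgroupOfEquivOfLe hle).toEquiv
  have hmul := K.card_mul_index
  rw [hcK, card_range] at hmul
  obtain ⟨t, ht⟩ := hd
  have hm9 : K.index ≤ 9 := by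
    have h9 : t * K.index = 9 := by nlinarith
    exact Nat.le_of_dvd (by norm_num) (h9 ▸ Dvd.intro_left t rfl)
  by_contra hne
  have hKne : K ≠ ⊤ := fun h => hne (le_antisymm hle (Subgroup.subgroupOf_eq_top.1 h))
  have := range_simple
  have hcore : K.normalCore = ⊥ :=
    (range_simple.eq_bot_or_eq_top_of_normal _ K.normalCore_normal).resolve_right fun h =>
      hKne (top_le_iff.1 (h ▸ K.normalCore_le))
  have hker : (MulAction.toPermHom rho.range (rho.range ⧸ K)).ker = ⊥ := by
    rw [← Subgroup.normalCore_eq_ker, hcore]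
  have hinj := (MonoidHom.ker_eq_bot_iff _).1 hker
  have := Nat.card_le_card_of_injective _ hinj
  rw [card_range, Nat.card_perm] at this
  have h9 := Nat.factorial_le hm9
  rw [show Nat.card (rho.range ⧸ K) = K.index from rfl] at this
  have : (44352000 : ℕ) ≤ Nat.factorial 9 := this.trans h9
  exact absurd this (by decide)

theorem card_grp : Nat.card grp = 44352000 := by rw [grp_eq, card_range]

theorem grp_simple : IsSimpleGroup grp := by
  have := range_simple
  exact MulEquiv.isSimpleGroup (MulEquiv.subgroupCongr grp_eq)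

theorem grp_transitive (i j : Fin 100) : ∃ g ∈ grp, g i = j := by
  obtain ⟨g, hg⟩ := rho_transitive i j
  exact ⟨rho g, grp_eq ▸ ⟨g, rfl⟩, hg⟩

/-- The model. -/
def modelEquiv : hsGrp ≃* grp := (MonoidHom.ofInjective rho_injective).trans (MulEquiv.subgroupCongr grp_eq.symm)

end

end Cfsg.Agent.H36.HS
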