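import Cfsg.Agent.H36.HSModel
import Cfsg.Agent.H12.HS.Recognition
import Cfsg.Prelude.Def_KGroupFacts

/-!
The outer automorphism group of the Higman-Sims group has order two.

After an inner automorphism an automorphism fixes a chosen element of order seven; the image of a
chosen involution is then the square of an element of order four, and only two possibilities up to
conjugation remain.
-/

set_option autoImplicit false

namespace Cfsg.Agent.H36.HS

open Cfsg.Agent.H16 Equiv

noncomputable section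

theorem allPts_of {f : ℕ → Bool} (h : ∀ x : Fin 100, f x = true) : allPts f = true := by
  have key : ∀ (k lo : ℕ), lo + k ≤ 100 → allFrom f k lo = true := by
    intro k
    induction k with
    | zero => exact fun _ _ => rfl
    | succ k ih =>
      intro lo hlo
      rw [allFrom_succ, h ⟨lo, by omega⟩, ih (lo + 1) (by omega)]
      rfl
  exact key 100 0 (by omega)

/-- The chosen class of involutions. -/
def cls : Set P100 := {g | ∃ i < 5775, Rep g (invTab.get i)}

theorem cls_conj {c a : P100} (hc : c ∈ grp) (ha : a ∈ cls) : c * a * c⁻¹ ∈ cls := by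
  rw [grp, ← Subgroup.mem_toSubmonoid, Subgroup.closure_toSubmonoid_of_finite] at hc
  induction hc using Submonoid.closure_induction generalizing a with
  | one => simpa using ha
  | mul u v _ _ hu hv =>
    have := hu (hv ha)
    rwa [show u * v * a * (u * v)⁻¹ = u * (v * a * v⁻¹) * u⁻¹ by group]
  | mem s hs =>
    obtain ⟨g, rfl⟩ := hs
    obtain ⟨i, hi, hr⟩ := ha
    have hm : (g : ℕ) * 5775 + i < 11550 := by omega
    have h := move_ok _ hm
    have ec : Nat.div ((g : ℕ) * 5775 + i) 5775 = g := by show _ / 5775 = _; omega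
    have ei : Nat.mod ((g : ℕ) * 5775 + i) 5775 = i := by show _ % 5775 = _; omega
    simp only [moveOk, forceNat_eq, ec, ei, Bool.and_eq_true, Nat.blt_eq] at h
    refine ⟨_, h.1, fun x => ?_⟩
    have h' := pts_spec h.2 ((gen g)⁻¹ x)
    rw [← hr, ← gen_rep g, ← gen_rep g ((gen g)⁻¹ x), show gen g ((gen g)⁻¹ x) = x from Equiv.apply_symm_apply _ _] at h'
    rw [Perm.mul_apply, Perm.mul_apply]
    exact h'

/-- The group as a group with a Sylow `2`-subgroup. -/
theorem exists_sylow_two : ∃ S : Sylow 2 grp, ∀ g ∈ (S : Subgroup grp), ∃ i < 512, Rep (g : P100) (p2Tab.get i) := by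
  obtain ⟨P, hP, hc, hall⟩ := sub_spec (by norm_num) p2_ok
  have : Fact (Nat.Prime 2) := ⟨Nat.prime_two⟩
  have hcard : Nat.card (P.subgroupOf grp) = 2 ^ (Nat.card grp).factorization 2 := by
    rw [Nat.card_congr (Subgroup.subgroupOfEquivOfLe hP).toEquiv, hc, card_grp,
      show (44352000 : ℕ) = 2 ^ 9 * 86625 by norm_num,
      Nat.factorization_mul (by norm_num) (by norm_num), Finsupp.add_apply,
      Nat.Prime.factorization_pow Nat.prime_two,
      Nat.factorization_eq_zero_of_not_dvd (by norm_num : ¬ 2 ∣ 86625)]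
    simp
  exact ⟨Sylow.ofCard (P.subgroupOf grp) hcard, fun g hg => hall g hg⟩

theorem conj_to_sylow {g : grp} {n : ℕ} (hg : orderOf g = 2 ^ n) :
    ∃ c : grp, ∃ i < 512, Rep ((c * g * c⁻¹ : grp) : P100) (p2Tab.get i) := by
  have : Fact (Nat.Prime 2) := ⟨Nat.prime_two⟩
  obtain ⟨S, hS⟩ := exists_sylow_two
  obtain ⟨Q, hQ⟩ := (IsPGroup.of_card (n := n) (by rw [Nat.card_zpowers, hg]) : IsPGroup 2 (Subgroup.zpowers g)).exists_le_sylow
  obtain ⟨c, hc⟩ := MulAction.exists_smul_eq grp Q S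
  refine ⟨c, hS _ ?_⟩
  have : MulAut.conj c • g ∈ (c • Q : Sylow 2 grp) :=
    Subgroup.smul_mem_pointwise_smul _ (MulAut.conj c) _ (hQ (Subgroup.mem_zpowers g))
  rw [hc] at this
  exact this

theorem sq_mem_cls {g : grp} (hg : orderOf g = 4) : ((g : P100)) ^ 2 ∈ cls := by
  obtain ⟨c, i, hi, hr⟩ := conj_to_sylow (n := 2) hg
  have h := sq_ok i hi
  simp only [sqOk, forceNat_eq] at h
  set p : P100 := ((c * g * c⁻¹ : grp) : P100) with hp
  have hord : orderOf p = 4 := by
    rw [hp, Subgroup.orderOf_coe, ← hg]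
    exact (MulAut.conj c).orderOf_eq g
  have h4 : allPts (fun x => Nat.beq (ap (p2Tab.get i) (ap (p2Tab.get i) (ap (p2Tab.get i) (ap (p2Tab.get i) x)))) x) = true := by
    refine allPts_of fun x => ?_
    rw [← hr x, ← hr (p x), ← hr (p (p x)), ← hr (p (p (p x)))]
    have e : (p ^ 4) x = x := by rw [← hord, pow_orderOf_eq_one]; rfl
    simp only [pow_succ, pow_zero, one_mul, Perm.mul_apply] at e
    simp [e]
  have h2 : allPts (fun x => Nat.beq (ap (p2Tab.get i) (ap (p2Tab.get i) x)) x) = false := by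
    rw [Bool.eq_false_iff]
    intro e
    have : p ^ 2 = 1 := Equiv.ext fun x => Fin.ext (by
      have e' := pts_spec e x
      rw [← hr x, ← hr (p x)] at e'
      rw [pow_two, Perm.mul_apply]
      exact e')
    have := Nat.le_of_dvd (by omega) (orderOf_dvd_of_pow_eq_one this)
    omega
  simp only [h2, h4, cond_false, Bool.not_true, Bool.false_or, Bool.and_eq_true, Nat.blt_eq] at h
  have hp2 : p ^ 2 ∈ cls := ⟨_, h.1, fun x => by
    rw [pow_two, Perm.mul_apply, hr, hr]
    exact pts_spec h.2 x⟩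
  have := cls_conj (c := (c : P100)⁻¹) (inv_mem c.2) hp2
  have e : (c : P100)⁻¹ * p ^ 2 * ((c : P100)⁻¹)⁻¹ = (g : P100) ^ 2 := by
    rw [show p = (c : P100) * g * (c : P100)⁻¹ from rfl, conj_pow]
    group
  rwa [e] at this

theorem special :
    elP 57 ^ 2 = elP 58 ∧ orderOf (elP 57) = 4 ∧ elP 153 * elP 26 * (elP 153)⁻¹ = elP 26 ^ 3 := by
  have h := special_ok
  simp only [specialOk, Bool.and_eq_true, Bool.not_eq_true'] at h
  obtain ⟨⟨⟨⟨-, h4⟩, h2⟩, hsq⟩, hc⟩ := h
  refine ⟨Equiv.ext fun x => Fin.ext ?_, ?_, ?_⟩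
  · rw [pow_eq (elP_rep (by norm_num)) hsq, elP_rep (by norm_num)]
  · have hne : ¬ elP 57 ^ 2 = 1 := by
      intro e
      have : allPts (fun b => Nat.beq (iterPt (ap (el 57)) 2 b) b) = true := allPts_of fun b => by
        rw [iterPt_spec (g := elP 57) (fun y => (elP_rep (by norm_num) y).symm) 2 b, e]
        simp
      rw [this] at h2; exact absurd h2 (by decide)
    have : Fact (Nat.Prime 2) := ⟨Nat.prime_two⟩
    exact orderOf_eq_prime_pow (n := 1) (by simpa using hne) (pow_eq_one (elP_rep (by norm_num)) h4)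
  · rw [mul_inv_eq_iff_eq_mul]
    refine Equiv.ext fun x => Fin.ext ?_
    rw [Perm.mul_apply, Perm.mul_apply, elP_rep (by norm_num), elP_rep (by norm_num),
      pow_eq (m := 3) (f := iterPt (ap (el 26)) 3) (elP_rep (by norm_num)) (allPts_of fun b => by simp),
      elP_rep (by norm_num)]
    exact pts_spec hc x

/-- The chosen element of order seven. -/
def xG : grp := ⟨elP 26, elP_mem _⟩
/-- The chosen involution. -/
def yG : grp := ⟨elP 58, elP_mem _⟩

theorem orderOf_xG : orderOf xG = 7 := by rw [xG, Subgroup.orderOf_mk, orderOf_seven]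

theorem conj_to_xG {g : grp} (hg : orderOf g = 7) : ∃ c : grp, c * g * c⁻¹ = xG := by
  have : Fact (Nat.Prime 7) := ⟨by norm_num⟩
  have hfac : (Nat.card grp).factorization 7 = 1 := by
    rw [card_grp, show (44352000 : ℕ) = 7 ^ 1 * 6336000 by norm_num,
      Nat.factorization_mul (by norm_num) (by norm_num), Finsupp.add_apply,
      Nat.Prime.factorization_pow (by norm_num),
      Nat.factorization_eq_zero_of_not_dvd (by norm_num : ¬ 7 ∣ 6336000)]
    simp
  let P : Sylow 7 grp := Sylow.ofCard (Subgroup.zpowers g) (by rw [Nat.card_zpowers, hg, hfac, pow_one])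
  let Q : Sylow 7 grp := Sylow.ofCard (Subgroup.zpowers xG) (by rw [Nat.card_zpowers, orderOf_xG, hfac, pow_one])
  obtain ⟨c, hc⟩ := MulAction.exists_smul_eq grp P Q
  have hmem : c * g * c⁻¹ ∈ Subgroup.zpowers xG := by
    have : MulAut.conj c • g ∈ (c • P : Sylow 7 grp) :=
      Subgroup.smul_mem_pointwise_smul _ (MulAut.conj c) _ (Subgroup.mem_zpowers g)
    rw [hc] at this
    exact this
  obtain ⟨m, hm⟩ := Subgroup.mem_zpowers_iff.1 hmem
  rw [← zpow_mod_orderOf, orderOf_xG] at hm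
  set d : grp := ⟨elP 153, elP_mem _⟩
  have hd : ∀ j : ℕ, d ^ j * xG * (d ^ j)⁻¹ = xG ^ (3 ^ j) := by
    intro j
    induction j with
    | zero => simp
    | succ j ih =>
      have hd1 : d * xG * d⁻¹ = xG ^ 3 := Subtype.ext special.2.2
      rw [pow_succ' d, show d * d ^ j * xG * (d * d ^ j)⁻¹ = d * (d ^ j * xG * (d ^ j)⁻¹) * d⁻¹ by group, ih,
        ← conj_pow, hd1, ← pow_mul, ← pow_succ']
  obtain ⟨n, hn⟩ : ∃ n : ℕ, m % (7 : ℕ) = (n : ℤ) ∧ n < 7 := ⟨(m % (7 : ℕ)).toNat, by omega, by omega⟩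
  rw [hn.1, zpow_natCast] at hm
  have hn0 : n ≠ 0 := fun e => by
    rw [e, pow_zero] at hm
    rw [conj_eq_one_iff.1 hm.symm, orderOf_one] at hg
    omega
  obtain ⟨j, hj⟩ : ∃ j : ℕ, 3 ^ j % 7 = n := by
    obtain ⟨h1, h7⟩ : 0 < n ∧ n < 7 := ⟨by omega, hn.2⟩
    interval_cases n
    exacts [⟨0, rfl⟩, ⟨2, rfl⟩, ⟨1, rfl⟩, ⟨4, rfl⟩, ⟨5, rfl⟩, ⟨3, rfl⟩]
  refine ⟨(d ^ j)⁻¹ * c, ?_⟩
  rw [show (d ^ j)⁻¹ * c * g * ((d ^ j)⁻¹ * c)⁻¹ = (d ^ j)⁻¹ * (c * g * c⁻¹) * d ^ j by group, ← hm, ← hj,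
    ← orderOf_xG, pow_mod_orderOf, ← hd]
  group

theorem closure_xy : Subgroup.closure ({xG, yG} : Set grp) = ⊤ := by
  rw [eq_top_iff]
  intro g _
  have key : grp ≤ (Subgroup.closure ({xG, yG} : Set grp)).map grp.subtype := by
    refine (Subgroup.closure_le _).2 ?_
    rintro _ ⟨k, rfl⟩
    have h := allFrom_spec xy_ok k (Nat.zero_le _) (by omega)
    simp only [Bool.and_eq_true, List.all_eq_true, Nat.blt_eq] at h
    let ρ : ℕ → grp := fun a => if a = 0 then xG else yG
    refine ⟨((getW xyWords k).map ρ).prod, Subgroup.list_prod_mem _ fun z hz => ?_, ?_⟩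
    · obtain ⟨a, -, rfl⟩ := List.mem_map.1 hz
      simp only [ρ]
      split <;> exact Subgroup.subset_closure (by simp)
    · refine Equiv.ext fun x => Fin.ext ?_
      rw [gen_rep, ← pts_spec h.2 x, evalTwo_spec _ (fun a ha => ?_) x]
      · rfl
      · have := h.1 a ha
        interval_cases a
        · exact elP_rep (by norm_num)
        · exact elP_rep (by norm_num)
  obtain ⟨g', hg', e⟩ := key g.2
  obtain rfl : g' = g := Subtype.ext e
  exact hg'
where
  evalTwo_spec {L : List ℕ} {ρ : ℕ → grp} (ws : List ℕ) (h : ∀ a ∈ ws, Rep (ρ a : P100) (getN L a)) (x : Fin 100) :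
      evalW 7 L ws x = ((((ws.map ρ).prod : grp) : P100) x : Fin 100) := by
    induction ws with
    | nil => rfl
    | cons a t ih =>
      show forceNat (evalW 7 L t x) (fun y => pim 7 (getN L a) y) = _
      rw [forceNat_eq, ih fun b hb => h b (List.mem_cons_of_mem _ hb), List.map_cons, List.prod_cons,
        Subgroup.coe_mul, Perm.mul_apply, h a List.mem_cons_self]
      rfl

theorem aut_ext {φ ψ : MulAut grp} (hx : φ xG = ψ xG) (hy : φ yG = ψ yG) : φ = ψ := by
  refine MulEquiv.ext fun g => ?_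
  have hg : g ∈ Subgroup.closure ({xG, yG} : Set grp) := by rw [closure_xy]; trivial
  refine MonoidHom.eqOn_closure (f := φ.toMonoidHom) (g := ψ.toMonoidHom) ?_ hg
  rintro z (rfl | rfl) <;> assumption

theorem word_pow_eq_one {w : List ℕ} {m : ℕ} (hw : ∀ a ∈ w, a < 2) (h : (w, m) ∈ pats) :
    ((w.map fun a => if a = 1 then xG else yG).prod) ^ m = 1 := by
  have h' := List.all_eq_true.1 rel_ok _ h
  refine Subtype.ext (Equiv.ext fun b => Fin.ext ?_)
  rw [SubgroupClass.coe_pow, ← iterPt_spec (f := evalTwo (el 26) (el 58) w) (fun y =>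
    closure_xy.evalTwo_spec w (fun a ha => by
      have := hw a ha
      interval_cases a
      · exact elP_rep (by norm_num)
      · exact elP_rep (by norm_num)) y) m b]
  exact pts_spec h' b

theorem pats_letters : ∀ p ∈ pats, ∀ a ∈ p.1, a < 2 := by decide

/-- The outer permutation. -/
def sigPerm : P100 where
  toFun x := ⟨ap sigTab x, (sig_pt x).1⟩
  invFun x := ⟨ap sigTab x, (sig_pt x).1⟩
  left_inv x := Fin.ext (sig_pt x).2
  right_inv x := Fin.ext (sig_pt x).2
where
  sig_pt (x : Fin 100) : ap sigTab x < 100 ∧ ap sigTab (ap sigTab x) = x := by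
    have h := sig_ok
    simp only [sigOk, Bool.and_eq_true] at h
    have h' := allPts_spec h.1.1.1.1.1 x
    simp only [Bool.and_eq_true, Nat.blt_eq] at h'
    exact ⟨h'.1, Nat.eq_of_beq_eq_true h'.2⟩

theorem sigPerm_inv : sigPerm⁻¹ = sigPerm := rfl

theorem sig_mul_self : sigPerm * sigPerm = 1 := by
  conv_lhs => arg 1; rw [← sigPerm_inv]
  exact inv_mul_cancel _

theorem sig_eq {g : P100} {P Q : ℕ} (hg : Rep g P)
    (h : allPts (fun x => Nat.beq (ap sigTab (ap P (ap sigTab x))) (ap Q x)) = true) :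
    Rep (sigPerm * g * sigPerm⁻¹) Q := fun x => by
  rw [← pts_spec h x, Perm.mul_apply, Perm.mul_apply]
  show ap sigTab (g (sigPerm⁻¹ x) : Fin 100) = _
  rw [hg]
  rfl

theorem sig_conj_mem {g : P100} (hg : g ∈ grp) : sigPerm * g * sigPerm⁻¹ ∈ grp := by
  have hle : grp ≤ grp.comap (MulAut.conj sigPerm).toMonoidHom := by
    refine (Subgroup.closure_le _).2 ?_
    rintro _ ⟨k, rfl⟩
    have h := sig_ok
    simp only [sigOk, Bool.and_eq_true] at h
    show sigPerm * gen k * sigPerm⁻¹ ∈ grp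
    fin_cases k
    · show sigPerm * gen 0 * sigPerm⁻¹ ∈ grp
      rw [(sig_eq (gen_rep 0) h.1.1.1.2).unique (elP_rep (by norm_num))]; exact elP_mem _
    · show sigPerm * gen 1 * sigPerm⁻¹ ∈ grp
      rw [(sig_eq (gen_rep 1) h.1.1.2).unique (elP_rep (by norm_num))]; exact elP_mem _
  exact hle hg

/-- The outer automorphism. -/
def outerAut : MulAut grp where
  toFun g := ⟨_, sig_conj_mem g.2⟩
  invFun g := ⟨_, sig_conj_mem g.2⟩
  left_inv g := Subtype.ext (by
    show sigPerm * (sigPerm * g * sigPerm⁻¹) * sigPerm⁻¹ = (g : P100)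
    rw [sigPerm_inv, ← mul_assoc, ← mul_assoc, sig_mul_self, one_mul, mul_assoc, sig_mul_self, mul_one])
  right_inv g := Subtype.ext (by
    show sigPerm * (sigPerm * g * sigPerm⁻¹) * sigPerm⁻¹ = (g : P100)
    rw [sigPerm_inv, ← mul_assoc, ← mul_assoc, sig_mul_self, one_mul, mul_assoc, sig_mul_self, mul_one])
  map_mul' a b := Subtype.ext (by
    show sigPerm * (a * b : P100) * sigPerm⁻¹ = (sigPerm * a * sigPerm⁻¹) * (sigPerm * b * sigPerm⁻¹)
    group)

theorem outerAut_xG : outerAut xG = xG := by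
  refine Subtype.ext (Equiv.ext fun x => Fin.ext ?_)
  have h := sig_ok
  simp only [sigOk, Bool.and_eq_true] at h
  show ((sigPerm (elP 26 (sigPerm⁻¹ x)) : Fin 100) : ℕ) = (elP 26 x : Fin 100)
  have e := pts_spec h.1.2 (sigPerm⁻¹ x)
  rw [elP_rep (by norm_num) x]
  show ap sigTab (elP 26 (sigPerm⁻¹ x) : Fin 100) = _
  rw [elP_rep (by norm_num), e]
  exact congrArg (ap (el 26)) (congrArg Fin.val (Equiv.apply_symm_apply sigPerm x))

theorem outerAut_yG : Rep ((outerAut yG : grp) : P100) (invTab.get yOne) := by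
  have h := sig_ok
  simp only [sigOk, Bool.and_eq_true] at h
  exact sig_eq (elP_rep (by norm_num)) h.2

theorem sig_not_mem : sigPerm ∉ grp := by
  intro hmem
  set s : grp := ⟨sigPerm, hmem⟩
  have hfix : countFrom (fun x => Nat.beq (ap sigTab x) x) 100 0 = 30 := by
    have h := sig_ok
    simp only [sigOk, Bool.and_eq_true] at h
    exact Nat.eq_of_beq_eq_true h.1.1.1.1.2
  have hne : s ≠ 1 := by
    intro e
    have he : sigPerm = 1 := congrArg Subtype.val e
    have h30 := hfix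
    rw [countFrom_spec] at h30
    have hall : ((Finset.Ico 0 (0 + 100)).filter fun x => Nat.beq (ap sigTab x) x = true) = Finset.Ico 0 (0 + 100) :=
      Finset.filter_true_of_mem fun x hx => by
        have hlt : x < 100 := by simpa using hx
        have : ((sigPerm ⟨x, hlt⟩ : Fin 100) : ℕ) = ap sigTab x := rfl
        rw [he] at this
        simp [← this]
    rw [hall] at h30
    simp at h30
  have : Fact (Nat.Prime 2) := ⟨Nat.prime_two⟩
  have hord : orderOf s = 2 ^ 1 := by
    rw [pow_one]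
    exact orderOf_eq_prime (by rw [pow_two]; exact Subtype.ext sig_mul_self) hne
  obtain ⟨c, i, hi, hr⟩ := conj_to_sylow hord
  set p : P100 := ((c * s * c⁻¹ : grp) : P100) with hp
  have hp2 : allPts (fun x => Nat.beq (ap (p2Tab.get i) (ap (p2Tab.get i) x)) x) = true :=
    allPts_of fun x => by
      rw [← hr x, ← hr (p x)]
      have : p * p = 1 := by
        rw [hp, ← Subgroup.coe_mul, show c * s * c⁻¹ * (c * s * c⁻¹) = c * (s * s) * c⁻¹ by group,
          show s * s = 1 from Subtype.ext sig_mul_self]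
        simp
      rw [← Perm.mul_apply, this]
      simp
  have h := sq_ok i hi
  simp only [sqOk, forceNat_eq, hp2, cond_true, Bool.not_eq_true'] at h
  have hcount : countFrom (fun x => Nat.beq (ap (p2Tab.get i) x) x) 100 0 = 30 := by
    rw [countFrom_spec] at hfix ⊢
    rw [← hfix]
    refine Finset.card_bij (fun x hx => ((((c : P100)⁻¹) ⟨x, by have := (Finset.mem_filter.1 hx).1; simp at this; omega⟩ : Fin 100) : ℕ)) ?_ ?_ ?_
    · intro x hx
      obtain ⟨hx1, hx2⟩ := Finset.mem_filter.1 hx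
      have hlt : x < 100 := by simpa using hx1
      refine Finset.mem_filter.2 ⟨Finset.mem_Ico.2 ⟨Nat.zero_le _, by omega⟩, ?_⟩
      have e : p ⟨x, hlt⟩ = ⟨x, hlt⟩ := Fin.ext ((hr _).trans (Nat.eq_of_beq_eq_true hx2))
      have e' : sigPerm ((c : P100)⁻¹ ⟨x, hlt⟩) = (c : P100)⁻¹ ⟨x, hlt⟩ := by
        apply (c : P100).injective
        rw [show (c : P100) ((c : P100)⁻¹ ⟨x, hlt⟩) = ⟨x, hlt⟩ from Equiv.apply_symm_apply _ _]
        exact e
      rw [show ap sigTab ((c : P100)⁻¹ ⟨x, hlt⟩ : Fin 100) = (sigPerm ((c : P100)⁻¹ ⟨x, hlt⟩) : Fin 100) from rfl, e']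
      simp
    · intro a _ b _ e
      exact congrArg Fin.val (((c : P100)⁻¹).injective (Fin.ext e))
    · intro y hy
      obtain ⟨hy1, hy2⟩ := Finset.mem_filter.1 hy
      have hlt : y < 100 := by simpa using hy1
      have e : sigPerm ⟨y, hlt⟩ = ⟨y, hlt⟩ := Fin.ext (Nat.eq_of_beq_eq_true hy2)
      refine ⟨((c : P100) ⟨y, hlt⟩ : Fin 100), Finset.mem_filter.2 ⟨Finset.mem_Ico.2 ⟨Nat.zero_le _, by omega⟩, ?_⟩, ?_⟩
      · have : p ((c : P100) ⟨y, hlt⟩) = (c : P100) ⟨y, hlt⟩ := by
          show (c : P100) (sigPerm ((c : P100)⁻¹ ((c : P100) ⟨y, hlt⟩))) = _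
          rw [show (c : P100)⁻¹ ((c : P100) ⟨y, hlt⟩) = ⟨y, hlt⟩ from Equiv.symm_apply_apply _ _, e]
        rw [← hr, this]
        simp
      · exact congrArg Fin.val (Equiv.symm_apply_apply (c : P100) ⟨y, hlt⟩)
  rw [hcount] at h
  exact absurd h (by decide)

theorem outerAut_not_inner : outerAut ∉ Cfsg.Inn grp := by
  rintro ⟨h, hh⟩
  apply sig_not_mem
  set z : P100 := (h : P100)⁻¹ * sigPerm with hz
  have hzc : ∀ g ∈ grp, z * g = g * z := by
    intro g hg
    have e := congrArg Subtype.val (DFunLike.congr_fun hh ⟨g, hg⟩)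
    change (h : P100) * g * (h : P100)⁻¹ = sigPerm * g * sigPerm⁻¹ at e
    rw [hz, mul_assoc, inv_mul_eq_iff_eq_mul, ← mul_assoc, ← mul_assoc]
    calc sigPerm * g = sigPerm * g * sigPerm⁻¹ * sigPerm := by group
      _ = (h : P100) * g * (h : P100)⁻¹ * sigPerm := by rw [e]
  have hf := fix_ok
  simp only [fixOk, Bool.and_eq_true, List.all_eq_true, Nat.blt_eq] at hf
  let ρ : ℕ → grp := fun a => if h : a < 2 then ⟨gen ⟨a, h⟩, Subgroup.subset_closure ⟨_, rfl⟩⟩ else 1
  set w : grp := ((getW fixWords 0).map ρ).prod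
  have hw : ∀ x : Fin 100, evalW 7 genTab (getW fixWords 0) x = (((w : grp) : P100) x : Fin 100) :=
    closure_xy.evalTwo_spec _ fun a ha => by
      have := hf.1.1 a ha
      simp only [ρ, dif_pos this]
      exact gen_rep ⟨a, this⟩
  have hw0 : (w : P100) 0 = 0 := Fin.ext ((hw 0).symm.trans (Nat.eq_of_beq_eq_true hf.1.2))
  have hz0 : z 0 = 0 := by
    have e : (w : P100) (z 0) = z 0 := by
      rw [← Perm.mul_apply, ← hzc _ w.2, Perm.mul_apply, hw0]
    have h' := allFrom_spec hf.2 (z 0 : Fin 100) (Nat.zero_le _) (by omega)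
    rw [hw, e] at h'
    simp only [Bool.or_eq_true, Bool.not_eq_true'] at h'
    rcases h' with h' | h'
    · exact Fin.ext (Nat.eq_of_beq_eq_true h')
    · rw [Nat.beq_refl] at h'; exact absurd h' (by decide)
  have hz1 : z = 1 := Equiv.ext fun i => by
    obtain ⟨g, hg, hgi⟩ := grp_transitive 0 i
    rw [← hgi, ← Perm.mul_apply, hzc g hg, Perm.mul_apply, hz0]
    rfl
  rw [hz, inv_mul_eq_one] at hz1
  exact hz1 ▸ h.2

theorem aut_cases (φ : MulAut grp) :
    ∃ g : grp, φ = MulAut.conj g ∨ φ = MulAut.conj g * outerAut := by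
  obtain ⟨u, hu⟩ := conj_to_xG (g := φ xG) (by rw [MulEquiv.orderOf_eq, orderOf_xG])
  set ψ : MulAut grp := MulAut.conj u * φ with hψ
  have hψx : ψ xG = xG := hu
  set r : grp := ⟨elP 57, elP_mem _⟩
  have hr : r ^ 2 = yG := Subtype.ext special.1
  have hro : orderOf (ψ r) = 4 := by rw [MulEquiv.orderOf_eq, Subgroup.orderOf_mk, special.2.1]
  obtain ⟨i, hi, hrep⟩ : ((ψ yG : grp) : P100) ∈ cls := by
    rw [← hr, map_pow, SubgroupClass.coe_pow]
    exact sq_mem_cls hro
  have hpat : patOk (invTab.get i) = true := by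
    simp only [patOk, forceNat_eq, List.all_eq_true]
    rintro ⟨w, m⟩ hp
    have hw : ∀ a ∈ w, a < 2 := pats_letters _ hp
    have h1 : ((w.map fun a => if a = 1 then xG else ψ yG).prod) ^ m = 1 := by
      have h0 := congrArg ψ (word_pow_eq_one hw hp)
      rw [map_pow, map_list_prod, List.map_map, map_one] at h0
      rw [← h0]
      congr 2
      refine List.map_congr_left fun a ha => ?_
      show _ = ψ (if a = 1 then xG else yG)
      split
      · exact hψx.symm
      · rfl
    have key : ∀ b : Fin 100, iterPt (evalTwo (el 26) (invTab.get i) w) m b = b := fun b => by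
      rw [iterPt_spec (f := evalTwo (el 26) (invTab.get i) w) (fun y =>
        closure_xy.evalTwo_spec (ρ := fun a => if a = 1 then xG else ψ yG) w (fun a ha => by
          have := hw a ha
          interval_cases a
          · exact hrep
          · exact elP_rep (by norm_num)) y) m b]
      rw [← SubgroupClass.coe_pow, h1]
      rfl
    have key' : ∀ (k lo : ℕ), lo + k ≤ 3 →
        allFrom (fun b => Nat.beq (iterPt (evalTwo (el 26) (invTab.get i) w) m b) b) k lo = true := by
      intro k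
      induction k with
      | zero => exact fun _ _ => rfl
      | succ k ih =>
        intro lo hlo
        rw [allFrom_succ, ih (lo + 1) (by omega), Bool.and_true]
        simp [key ⟨lo, by omega⟩]
    exact key' 3 0 le_rfl
  have hc := cand_ok i hi
  simp only [candOk, forceNat_eq, hpat, Bool.not_true, Bool.false_or, List.any_eq_true] at hc
  obtain ⟨s, hs, hsi⟩ := hc
  have hsv := List.all_eq_true.1 surv_ok s hs
  simp only [forceNat_eq] at hsv
  rw [Nat.eq_of_beq_eq_true hsi] at hsv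
  set k := Nat.div (Nat.mod s 16) 2
  have hxk : ∀ b : Fin 100, iterPt (ap (el 26)) k b = (((xG ^ k : grp) : P100) b : Fin 100) := fun b => by
    rw [SubgroupClass.coe_pow]
    exact iterPt_spec (fun y => (elP_rep (by norm_num) y).symm) k b
  have fin : ∀ (β : MulAut grp), β xG = xG →
      Rep ((β yG : grp) : P100) (bif Nat.beq (Nat.mod s 2) 0 then el 58 else invTab.get yOne) →
      φ = MulAut.conj (u⁻¹ * xG ^ k) * β := by
    intro β hβx hβy
    have hψeq : ψ = MulAut.conj (xG ^ k) * β := by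
      refine aut_ext ?_ ?_
      · rw [hψx, MulAut.mul_apply, hβx, MulAut.conj_apply]; group
      · show ψ yG = xG ^ k * β yG * (xG ^ k)⁻¹
        rw [eq_mul_inv_iff_mul_eq]
        refine Subtype.ext (Equiv.ext fun x => Fin.ext ?_)
        rw [Subgroup.coe_mul, Subgroup.coe_mul, Perm.mul_apply, Perm.mul_apply, hrep, ← hxk, ← hxk, hβy]
        exact pts_spec hsv x
    rw [map_mul, mul_assoc, ← hψeq, hψ, ← mul_assoc, ← map_mul, inv_mul_cancel, map_one, one_mul]
  cases hb : Nat.beq (Nat.mod s 2) 0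
  · exact ⟨u⁻¹ * xG ^ k, Or.inr (fin outerAut outerAut_xG (by rw [hb]; exact outerAut_yG))⟩
  · exact ⟨u⁻¹ * xG ^ k, Or.inl ((fin 1 rfl (by rw [hb]; exact elP_rep (by norm_num))).trans (mul_one _))⟩

theorem card_out_grp : Nat.card (Cfsg.Out grp) = 2 := by
  have hne : (QuotientGroup.mk outerAut : Cfsg.Out grp) ≠ 1 := fun e =>
    outerAut_not_inner ((QuotientGroup.eq_one_iff _).1 e)
  rw [Nat.card_eq_two_iff]
  refine ⟨1, QuotientGroup.mk outerAut, hne.symm, Set.eq_univ_of_forall fun z => ?_⟩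
  induction z using QuotientGroup.induction_on with
  | H φ =>
    obtain ⟨g, h | h⟩ := aut_cases φ
    · exact Or.inl ((QuotientGroup.eq_one_iff _).2 ⟨g, h.symm⟩)
    · refine Or.inr ?_
      show (QuotientGroup.mk φ : Cfsg.Out grp) = QuotientGroup.mk outerAut
      rw [h, QuotientGroup.mk_mul, (QuotientGroup.eq_one_iff (N := Cfsg.Inn grp) (MulAut.conj g)).2 ⟨g, rfl⟩, one_mul]

theorem card_out_hs : Nat.card (Cfsg.Out ↥Cfsg.Spor.HS) = 2 := by
  obtain ⟨e⟩ := Cfsg.Agent.H12.HS.nonempty_equiv_hsGrp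
  let E : ↥Cfsg.Spor.HS ≃* grp := e.trans modelEquiv
  rw [← card_out_grp]
  refine Nat.card_congr (QuotientGroup.congr _ _ (MulAut.congr E) ?_).toEquiv
  ext x
  constructor
  · rintro ⟨_, ⟨g, rfl⟩, rfl⟩
    exact ⟨E g, by ext y; simp [MulAut.congr]⟩
  · rintro ⟨h, rfl⟩
    exact ⟨MulAut.conj (E.symm h), ⟨_, rfl⟩, by ext y; simp [MulAut.congr]⟩

end

end Cfsg.Agent.H36.HS
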