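import Cfsg.Agent.H36.JTwoOuterChecks
import Cfsg.Agent.H36.JTwoSpectrum
import Cfsg.Agent.H15.J2.Simple
import Cfsg.Prelude.Def_KGroupFacts

/-!
The outer automorphism group of the Hall-Janko group has order two.

The reflections are the squares of the elements of order four, so automorphisms permute the 315
lines; the stabiliser of four lines is trivial, and the possible images of these lines are counted.
-/

set_option autoImplicit false

namespace Cfsg.Agent.H36.JTwo

open Cfsg.Agent.H15.J2 Cfsg.Agent.H16 Equiv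

noncomputable section

/-- A line. -/
def pt (i : ℕ) (h : i < 315 := by decide) : Fin 315 := ⟨i, h⟩

theorem closure_sigma : Subgroup.closure (Set.range sigma) = G315 := by
  rw [range_sigma]; rfl

theorem uTab_spec (i : Fin 315) :
    ∃ u ∈ G315, (∀ x : Fin 315, (u x : ℕ) = pim 9 (uTab.get i) x) ∧ u (pt 0) = i := by
  obtain ⟨C, -, -, -, -, -, hU, -, -⟩ := SpecCert.structure_spec cert_ok sigma rep_sigma
  obtain ⟨u, hu, hr⟩ := hU i i.2
  refine ⟨u, closure_sigma ▸ hu, hr, Fin.ext ?_⟩
  refine (hr _).trans ?_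
  have h := u_ok i i.2
  simp only [SpecCert.uOk, Bool.and_eq_true] at h
  exact Nat.eq_of_beq_eq_true h.1

theorem pi_rep (i : Fin 315) (x : Fin 315) : (pi i x : ℕ) = pim 9 (piTab.get i) x := by
  obtain ⟨u, huG, hu, hu0⟩ := uTab_spec i
  obtain ⟨v, hvG, hv, hv0⟩ := uTab_spec base0
  have hv' : ∀ x : Fin 315, ((v⁻¹ x : Fin 315) : ℕ) = pim 9 uInv x := fun x => by
    have h := allFrom_spec uInv_ok (v⁻¹ x : Fin 315) (Nat.zero_le _) (by omega)
    simp only [Bool.and_eq_true] at h
    have h2 := Nat.eq_of_beq_eq_true h.1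
    rw [show pim 9 (uTab.get 304) (v⁻¹ x : Fin 315) = ((v (v⁻¹ x) : Fin 315) : ℕ) from (hv _).symm] at h2
    rw [← h2, show v (v⁻¹ x) = x from Equiv.apply_symm_apply _ _]
  have hp := pi_conj (G315.mul_mem huG (G315.inv_mem hvG)) base0
  rw [show (u * v⁻¹) base0 = i by rw [Perm.mul_apply, Perm.inv_eq_iff_eq.2 hv0.symm, hu0]] at hp
  set y := (u * v⁻¹)⁻¹ x with hy
  have hx : (u * v⁻¹) y = x := Equiv.apply_symm_apply _ _
  have e1 : ((pi i x : Fin 315) : ℕ) = pim 9 (uTab.get i) (pim 9 uInv (genPerm 0 y : Fin 315)) := by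
    rw [← hp, Perm.mul_apply, Perm.mul_apply, ← hy, pi_base, Perm.mul_apply, hu, hv']
  have e2 : ((genPerm 0 y : Fin 315) : ℕ) = pim 9 (getN genTab 0) y := rep_sigma ⟨0, by decide⟩ y
  have e3 : (x : ℕ) = pim 9 (uTab.get i) (pim 9 uInv y) := by
    rw [← hx, Perm.mul_apply, hu, hv']
  have h := allFrom_spec (show allFrom (fun z => Nat.beq (pim 9 (piTab.get i) (pim 9 (uTab.get i) (pim 9 uInv z)))
      (pim 9 (uTab.get i) (pim 9 uInv (pim 9 (getN genTab 0) z)))) 315 0 = true by
    have := pi_ok i i.2; simpa only [piOk, forceNat_eq] using this) y (Nat.zero_le _) (by omega)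
  rw [e1, e2, e3]
  exact (Nat.eq_of_beq_eq_true h).symm

theorem iter_spec {g : P315} {f : ℕ → ℕ} (hf : ∀ x : Fin 315, f x = (g x : Fin 315)) (m : ℕ) (x : Fin 315) :
    iterPt f m x = ((g ^ m) x : Fin 315) := SpecCert.iterPt_spec (D := cert) hf m x

theorem eq_of_bpts {a b : P315} (ha : a ∈ G315) (hb : b ∈ G315)
    (h : ∀ x : Fin 315, (x : ℕ) ∈ bpts → a x = b x) : a = b := by
  have := SpecCert.eq_one_of_fix cert_ok sigma rep_sigma (g := b⁻¹ * a)
    (closure_sigma.symm ▸ G315.mul_mem (G315.inv_mem hb) ha) fun x hx => by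
      have hx' : (x : ℕ) ∈ bpts := hx
      exact (congrArg (⇑b⁻¹) (h x hx')).trans (Equiv.symm_apply_apply b _)
  exact (inv_mul_eq_one.1 this).symm

theorem pi_injective : Function.Injective pi := by
  have key : ∀ i j : Fin 315, (j : ℕ) < i → pi i ≠ pi j := fun i j hlt e => by
    have h := inj_ok i i.2
    simp only [injOk, forceNat_eq] at h
    have h' := allFrom_spec h j (Nat.zero_le _) (by omega)
    have e' : ∀ x : Fin 315, pim 9 (piTab.get i) x = pim 9 (piTab.get j) x := fun x => by
      rw [← pi_rep, ← pi_rep, e]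
    have q0 : pim 9 (piTab.get i) 0 = pim 9 (piTab.get j) 0 := e' (pt 0)
    have q1 : pim 9 (piTab.get i) 1 = pim 9 (piTab.get j) 1 := e' (pt 1)
    have q2 : pim 9 (piTab.get i) 2 = pim 9 (piTab.get j) 2 := e' (pt 2)
    simp [q0, q1, q2] at h'
  intro i j e
  rcases lt_trichotomy (i : ℕ) j with h | h | h
  · exact absurd e.symm (key j i h)
  · exact Fin.ext h
  · exact absurd e (key i j h)

theorem bpts_lt {x : ℕ} (hx : x ∈ bpts) : x < 315 := by
  simp only [bpts, List.mem_cons, List.not_mem_nil, or_false] at hx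
  omega

theorem pow_one_iff {g : P315} (hg : g ∈ G315) {f : ℕ → ℕ} (hf : ∀ x : Fin 315, f x = (g x : Fin 315)) (m : ℕ) :
    (bpts.all fun x => Nat.beq (iterPt f m x) x) = true ↔ g ^ m = 1 := by
  rw [List.all_eq_true]
  constructor
  · intro h
    refine eq_of_bpts (G315.pow_mem hg m) G315.one_mem fun x hx => Fin.ext ?_
    rw [← iter_spec hf m x]
    exact Nat.eq_of_beq_eq_true (h x hx)
  · intro h x hx
    have e := iter_spec hf m ⟨x, bpts_lt hx⟩
    rw [h] at e
    simp only [Perm.one_apply] at e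
    simp [e]

theorem ordIs_iff (a b : Fin 315) {m : ℕ} (hm : 0 < m) :
    ordIs a b m = true ↔ orderOf (pi a * pi b) = m := by
  have hg := G315.mul_mem (pi_mem a) (pi_mem b)
  have hf : ∀ x : Fin 315, pim 9 (piTab.get a) (pim 9 (piTab.get b) x) = ((pi a * pi b) x : Fin 315) := fun x => by
    rw [Perm.mul_apply, pi_rep, pi_rep]
  have hiff := pow_one_iff hg (f := fun y => pim 9 (piTab.get a) (pim 9 (piTab.get b) y)) hf
  simp only [ordIs, forceNat_eq, Bool.and_eq_true, hiff]
  rw [orderOf_eq_iff hm]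
  constructor
  · rintro ⟨h1, h2⟩
    refine ⟨h1, fun d hd hd0 e => ?_⟩
    have h' := allFrom_spec h2 d (Nat.zero_le _) (by omega)
    simp only [Bool.or_eq_true, List.any_eq_true, Bool.not_eq_true'] at h'
    rcases h' with h' | ⟨x, hx, h'⟩
    · exact hd0.ne' (Nat.eq_of_beq_eq_true h')
    · have := List.all_eq_true.1 ((hiff d).2 e) x hx
      rw [this] at h'; exact absurd h' (by decide)
  · rintro ⟨h1, h2⟩
    refine ⟨h1, allFrom_extend_all fun d hd => ?_⟩
    rcases Nat.eq_zero_or_pos d with rfl | hd0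
    · rfl
    · simp only [Bool.or_eq_true, List.any_eq_true, Bool.not_eq_true']
      refine Or.inr ?_
      by_contra hne
      push Not at hne
      exact h2 d hd hd0 ((hiff d).1 (List.all_eq_true.2 fun x hx => Bool.eq_true_of_not_eq_false (hne x hx)))
where
  allFrom_extend_all {p : ℕ → Bool} {m : ℕ} (h : ∀ i, i < m → p i = true) : allFrom p m 0 = true := by
    have key : ∀ (k lo : ℕ), lo + k ≤ m → allFrom p k lo = true := by
      intro k
      induction k with
      | zero => exact fun _ _ => rfl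
      | succ k ih =>
        intro lo hlo
        rw [allFrom_succ, h lo (by omega), ih (lo + 1) (by omega)]
        rfl
    exact key m 0 (by omega)

theorem conj_list {g : P315} (hg : g ∈ G315) : ∃ r j k, ∃ u v t c : P315, r < 6 ∧ j < 160 ∧ k < 12 ∧
    (∀ x : Fin 315, (u x : ℕ) = pim 9 (uTab.get (getN repPts r)) x) ∧
    (∀ x : Fin 315, (v x : ℕ) = pim 9 (vTab.get j) x) ∧ (∀ x : Fin 315, (t x : ℕ) = pim 9 (getN kTab k) x) ∧
    u * (v * t) ∈ G315 ∧ c ∈ G315 ∧ g = c * (u * (v * t)) * c⁻¹ := by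
  obtain ⟨r, j, k, u, v, t, c, hr, hj, hk, hu, hv, ht, hmem, hc, he⟩ :=
    SpecCert.exists_conj_list cert_ok sigma rep_sigma (closure_sigma.symm ▸ hg)
  rw [closure_sigma] at hmem hc
  exact ⟨r, j, k, u, v, t, c, lt_of_lt_of_le hr (le_of_eq (by decide)), hj,
    lt_of_lt_of_le hk (le_of_eq (by decide)), hu, hv, ht, hmem, hc, he⟩

theorem sq_eq_pi {g : P315} (hg : g ∈ G315) (ho : orderOf g = 4) : ∃ i, g ^ 2 = pi i := by
  obtain ⟨r, j, k, u, v, t, c, hr', hj', hk', hu, hv, ht, hmem, hc, rfl⟩ := conj_list hg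
  have ek : Nat.mod ((r * 160 + j) * 12 + k) 12 = k := by show _ % 12 = _; omega
  have ej : Nat.mod (Nat.div ((r * 160 + j) * 12 + k) 12) 160 = j := by show _ / 12 % 160 = _; omega
  have er : Nat.div (Nat.div ((r * 160 + j) * 12 + k) 12) 160 = r := by show _ / 12 / 160 = _; omega
  have h := sq_ok ((r * 160 + j) * 12 + k) (by omega)
  have hf : ∀ x : Fin 315, pim 9 (uTab.get (getN repPts r)) (pim 9 (vTab.get j) (pim 9 (getN kTab k) x)) =
      ((u * (v * t)) x : Fin 315) := fun x => by
    rw [Perm.mul_apply, Perm.mul_apply, hu, hv, ht]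
  have hiff := pow_one_iff hmem (f := fun y => pim 9 (uTab.get (getN repPts r)) (pim 9 (vTab.get j) (pim 9 (getN kTab k) y))) hf
  have ho' : orderOf (u * (v * t)) = 4 := ho ▸ ((MulAut.conj c).orderOf_eq (u * (v * t))).symm
  have h4 := (hiff 4).2 (ho' ▸ pow_orderOf_eq_one _)
  have h2 : ¬ (u * (v * t)) ^ 2 = 1 := fun e => by
    have := Nat.le_of_dvd (by omega) (orderOf_dvd_of_pow_eq_one e); omega
  rw [← hiff 2, Bool.not_eq_true] at h2
  simp only [sqOk, forceNat_eq, ek, ej, er, h4, h2, Bool.not_true, Bool.false_or, Bool.and_eq_true, Nat.blt_eq] at h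
  obtain ⟨hi, h⟩ := h
  refine ⟨c ⟨_, hi⟩, ?_⟩
  rw [← pi_conj hc, show (c * (u * (v * t)) * c⁻¹) ^ 2 = c * (u * (v * t)) ^ 2 * c⁻¹ from (map_pow (MulAut.conj c) _ 2).symm]
  congr 2
  refine eq_of_bpts (G315.pow_mem hmem 2) (pi_mem _) fun x hx => Fin.ext ?_
  rw [← iter_spec (f := fun y => pim 9 (uTab.get (getN repPts r)) (pim 9 (vTab.get j) (pim 9 (getN kTab k) y))) hf 2 x,
    pi_rep]
  exact Nat.eq_of_beq_eq_true (List.all_eq_true.1 h _ hx)

/-- A reflection as an element of the group. -/
def piG (i : Fin 315) : G315 := ⟨pi i, pi_mem i⟩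

theorem conj_piG (g : G315) (i : Fin 315) : g * piG i * g⁻¹ = piG ((g : P315) i) :=
  Subtype.ext (pi_conj g.2 i)

theorem exists_order_four : ∃ g : G315, orderOf g = 4 := by
  have h := SpecCert.range_orderOf cert_ok sigma rep_sigma wit_ok
  have h4 : 4 ∈ {d | ∃ m ∈ cert.ms, d ∣ m} := ⟨8, by decide, by decide⟩
  rw [← h] at h4
  obtain ⟨⟨g, hg⟩, ho⟩ := h4
  exact ⟨⟨g, closure_sigma ▸ hg⟩, Eq.trans (Subgroup.orderOf_mk _ _) (Eq.trans (Subgroup.orderOf_mk g hg).symm ho)⟩

theorem exists_image (φ : MulAut G315) (k : Fin 315) : ∃ j, φ (piG k) = piG j := by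
  obtain ⟨g, hg⟩ := exists_order_four
  obtain ⟨i, hi⟩ := sq_eq_pi g.2 (by rw [Subgroup.orderOf_coe, hg])
  obtain ⟨j, hj⟩ := sq_eq_pi (φ g).2 (by rw [Subgroup.orderOf_coe, MulEquiv.orderOf_eq, hg])
  have hi' : g ^ 2 = piG i := Subtype.ext (by rw [SubgroupClass.coe_pow]; exact hi)
  have hj' : φ g ^ 2 = piG j := Subtype.ext (by rw [SubgroupClass.coe_pow]; exact hj)
  obtain ⟨a, haG, ha⟩ := transitive i
  obtain ⟨b, hbG, hb⟩ := transitive k
  let d : G315 := ⟨b * a⁻¹, G315.mul_mem hbG (G315.inv_mem haG)⟩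
  have hd : (d : P315) i = k := by
    show (b * a⁻¹) i = k
    rw [Perm.mul_apply, Perm.inv_eq_iff_eq.2 ha.symm, hb]
  refine ⟨(φ d : P315) j, ?_⟩
  rw [← hd, ← conj_piG, map_mul, map_mul, map_inv, ← hi', map_pow, hj', conj_piG]

/-- The action of an automorphism on the lines. -/
def lineFun (φ : MulAut G315) (k : Fin 315) : Fin 315 := (exists_image φ k).choose

theorem lineFun_spec (φ : MulAut G315) (k : Fin 315) : φ (piG k) = piG (lineFun φ k) :=
  (exists_image φ k).choose_spec

theorem piG_injective : Function.Injective piG := fun _ _ h => pi_injective (congrArg Subtype.val h)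

/-- The action of the automorphism group on the lines. -/
def lineAct : MulAut G315 →* P315 :=
  MonoidHom.toHomPerm
    { toFun := fun φ => (lineFun φ : Function.End (Fin 315))
      map_one' := funext fun k => piG_injective (by rw [← lineFun_spec]; rfl)
      map_mul' := fun φ ψ => funext fun k => piG_injective (by
        show piG (lineFun (φ * ψ) k) = piG (lineFun φ (lineFun ψ k))
        rw [← lineFun_spec, ← lineFun_spec, ← lineFun_spec]; rfl) }

theorem lineAct_apply (φ : MulAut G315) (k : Fin 315) : φ (piG k) = piG (lineAct φ k) := lineFun_spec φ k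

theorem lineAct_injective : Function.Injective lineAct := by
  refine (injective_iff_map_eq_one _).2 fun φ hφ => ?_
  have hfix : ∀ k, φ (piG k) = piG k := fun k => by rw [lineAct_apply, hφ]; rfl
  refine MulEquiv.ext fun g => Subtype.ext (Equiv.ext fun k => pi_injective ?_)
  refine congrArg Subtype.val (?_ : piG ((φ g : P315) k) = piG ((g : P315) k))
  rw [← conj_piG, ← conj_piG]
  conv_lhs => rw [← hfix k, ← map_inv, ← map_mul, ← map_mul, conj_piG, hfix, ← conj_piG]

theorem ordIs_map (φ : MulAut G315) {a b : Fin 315} {m : ℕ} (hm : 0 < m) (h : ordIs a b m = true) :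
    ordIs (lineAct φ a) (lineAct φ b) m = true := by
  rw [ordIs_iff _ _ hm] at h ⊢
  have e : (pi (lineAct φ a) * pi (lineAct φ b)) = ((φ (piG a * piG b) : G315) : P315) := by
    rw [map_mul, lineAct_apply, lineAct_apply]; rfl
  rw [e, Subgroup.orderOf_coe, MulEquiv.orderOf_eq, ← Subgroup.orderOf_coe]
  exact h

theorem gen_of_four : ∀ g : Fin 4, genPerm g ∈ Subgroup.closure {pi (pt 0), pi (pt 1), pi (pt 162), pi (pt 101)} := by
  intro g
  have h := allFrom_spec genWords_ok g (Nat.zero_le _) (by omega)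
  simp only [Bool.and_eq_true, List.all_eq_true, Bool.or_eq_true] at h
  obtain ⟨hl, hx⟩ := h
  set S : Set P315 := {pi (pt 0), pi (pt 1), pi (pt 162), pi (pt 101)} with hS
  suffices key : ∀ ws : List ℕ, (∀ a ∈ ws, a = 0 ∨ a = 1 ∨ a = 162 ∨ a = 101) →
      ∃ p ∈ Subgroup.closure S, ∀ x : Fin 315, ((p x : Fin 315) : ℕ) = ws.foldr (fun a y => pim 9 (piTab.get a) y) x by
    obtain ⟨p, hp, hpx⟩ := key _ (fun a ha => by
      rcases hl a ha with ((h | h) | h) | h <;> simp [Nat.eq_of_beq_eq_true h])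
    convert hp
    refine Equiv.ext fun x => Fin.ext ?_
    rw [hpx, show ((genPerm g x : Fin 315) : ℕ) = pim 9 (getN genTab g) x from rep_sigma ⟨g, by
      have : cert.s.length = 4 := by decide
      omega⟩ x]
    exact Nat.eq_of_beq_eq_true (allFrom_spec hx x (Nat.zero_le _) (by omega))
  intro ws
  induction ws with
  | nil => exact fun _ => ⟨1, one_mem _, fun _ => rfl⟩
  | cons a t ih =>
    intro ha
    obtain ⟨p, hp, hpx⟩ := ih fun b hb => ha b (List.mem_cons_of_mem _ hb)
    have ha' := ha a List.mem_cons_self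
    have hlt : a < 315 := by omega
    refine ⟨pi (pt a hlt) * p, mul_mem (Subgroup.subset_closure ?_) hp, fun x => ?_⟩
    · rcases ha' with rfl | rfl | rfl | rfl <;> simp [hS]
    · rw [Perm.mul_apply, pi_rep, hpx]; rfl

theorem lineAct_eq_one {φ : MulAut G315} (h : ∀ i : Fin 315, (i : ℕ) ∈ [0, 1, 162, 101] → lineAct φ i = i) :
    φ = 1 := by
  refine MulEquiv.ext fun g => ?_
  have hg : (g : P315) ∈ (MonoidHom.eqLocus (G315.subtype.comp φ.toMonoidHom) G315.subtype).map G315.subtype := by
    have hle : Subgroup.closure {pi (pt 0), pi (pt 1), pi (pt 162), pi (pt 101)} ≤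
        (MonoidHom.eqLocus (G315.subtype.comp φ.toMonoidHom) G315.subtype).map G315.subtype := by
      rw [Subgroup.closure_le]
      intro x hx
      simp only [Set.mem_insert_iff, Set.mem_singleton_iff] at hx
      rcases hx with rfl | rfl | rfl | rfl <;>
        exact ⟨piG _, congrArg Subtype.val ((lineAct_apply φ _).trans (congrArg piG (h _ (by simp [pt])))), rfl⟩
    refine hle ?_
    have : G315 ≤ Subgroup.closure {pi (pt 0), pi (pt 1), pi (pt 162), pi (pt 101)} :=
      (Subgroup.closure_le _).2 (by rintro _ ⟨c, rfl⟩; exact gen_of_four c)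
    exact this g.2
  obtain ⟨g', hg', he⟩ := hg
  obtain rfl : g' = g := Subtype.ext he
  exact Subtype.ext hg'

theorem card_le_two_mul : Nat.card (MulAut G315) ≤ 1209600 := by
  classical
  letI : MulAction (MulAut G315) (Fin 315) := MulAction.compHom _ lineAct
  have hsmul : ∀ (φ : MulAut G315) (k : Fin 315), φ • k = lineAct φ k := fun _ _ => rfl
  set S0 := MulAction.stabilizer (MulAut G315) (pt 0)
  set S1 := MulAction.stabilizer S0 (pt 1)
  have h0 : Nat.card (MulAut G315) = Nat.card (MulAction.orbit (MulAut G315) (pt 0)) * Nat.card S0 := by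
    rw [Nat.card_congr (MulAction.orbitEquivQuotientStabilizer _ (pt 0))]
    exact Subgroup.card_eq_card_quotient_mul_card_subgroup _
  have h1 : Nat.card S0 = Nat.card (MulAction.orbit S0 (pt 1)) * Nat.card S1 := by
    rw [Nat.card_congr (MulAction.orbitEquivQuotientStabilizer _ (pt 1))]
    exact Subgroup.card_eq_card_quotient_mul_card_subgroup _
  have hord := ord_ok
  simp only [okC, Bool.and_eq_true] at hord
  obtain ⟨⟨⟨⟨o01, o0c, o1c⟩, o0d⟩, o1d⟩, ocd⟩ := hord
  have hfix0 : ∀ s : S0, lineAct (s : MulAut G315) (pt 0) = pt 0 := fun s => s.2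
  have hb0 : Nat.card (MulAction.orbit (MulAut G315) (pt 0)) ≤ 315 :=
    (Nat.card_le_card_of_injective _ Subtype.val_injective).trans (le_of_eq (Nat.card_fin 315))
  have hb1 : Nat.card (MulAction.orbit S0 (pt 1)) ≤ 160 := by
    let T := (Finset.Ico 0 (0 + 315)).filter fun i => ordIs 0 i 3 = true
    have hT : T.card = 160 := (countFrom_spec 315 0).symm.trans count_ok
    rw [← hT, ← Nat.card_eq_finsetCard]
    refine Nat.card_le_card_of_injective (fun x => ⟨(x : Fin 315), ?_⟩) ?_
    · obtain ⟨s, hs⟩ := MulAction.mem_orbit_iff.1 x.2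
      have h := ordIs_map (s : MulAut G315) (a := pt 0) (b := pt 1) (by omega) o01
      rw [hfix0 s, show lineAct (s : MulAut G315) (pt 1) = x from hs] at h
      exact Finset.mem_filter.2 ⟨Finset.mem_Ico.2 ⟨Nat.zero_le _, by omega⟩, h⟩
    · intro x y e
      exact Subtype.ext (Fin.ext (congrArg Subtype.val e))
  have hb2 : Nat.card S1 ≤ 24 := by
    have hfix1 : ∀ s : S1, lineAct ((s : S0) : MulAut G315) (pt 1) = pt 1 := fun s => s.2
    let f : S1 → Fin 315 × Fin 315 := fun s =>
      (lineAct ((s : S0) : MulAut G315) (pt 162), lineAct ((s : S0) : MulAut G315) (pt 101))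
    have hf : ∀ s, ((f s).1 : ℕ) * 512 + (f s).2 ∈ pairTab.toFinset := by
      intro s
      set φ := ((s : S0) : MulAut G315) with hφ
      have e0 : lineAct φ (pt 0) = pt 0 := hfix0 s
      have e1 : lineAct φ (pt 1) = pt 1 := hfix1 s
      have a1 := ordIs_map φ (a := pt 0) (b := pt 162) (by omega) o0c
      have a2 := ordIs_map φ (a := pt 1) (b := pt 162) (by omega) o1c
      have a3 := ordIs_map φ (a := pt 0) (b := pt 101) (by omega) o0d
      have a4 := ordIs_map φ (a := pt 1) (b := pt 101) (by omega) o1d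
      have a5 := ordIs_map φ (a := pt 162) (b := pt 101) (by omega) ocd
      rw [e0] at a1 a3; rw [e1] at a2 a4
      have h := pairs_ok (f s).1 (f s).1.2
      simp only [pairsOk, okC, show ordIs 0 (f s).1 5 = true from a1, show ordIs 1 (f s).1 2 = true from a2,
        Bool.and_self, Bool.not_true, Bool.false_or] at h
      have h' := allFrom_spec h (f s).2 (Nat.zero_le _) (by omega)
      simp only [show ordIs 0 (f s).2 4 = true from a3, show ordIs 1 (f s).2 3 = true from a4,
        show ordIs (f s).1 (f s).2 5 = true from a5, Bool.and_self, Bool.not_true, Bool.false_or,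
        List.any_eq_true] at h'
      obtain ⟨z, hz, e⟩ := h'
      rw [List.mem_toFinset, ← show z = ((f s).1 : ℕ) * 512 + (f s).2 from Nat.eq_of_beq_eq_true e]
      exact hz
    calc Nat.card S1 ≤ Nat.card pairTab.toFinset := by
          refine Nat.card_le_card_of_injective (fun s => ⟨_, hf s⟩) fun s t e => ?_
          have e' := congrArg Subtype.val e
          simp only at e'
          have h1 : (f s).1 = (f t).1 := Fin.ext (by have := (f s).2.2; have := (f t).2.2; omega)
          have h2 : (f s).2 = (f t).2 := Fin.ext (by have := (f s).2.2; have := (f t).2.2; omega)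
          refine Subtype.ext (Subtype.ext (inv_mul_eq_one.1 (lineAct_eq_one fun i hi => ?_)).symm)
          rw [map_mul, map_inv, Perm.mul_apply]
          have key : lineAct ((s : S0) : MulAut G315) i = lineAct ((t : S0) : MulAut G315) i := by
            simp only [List.mem_cons, List.not_mem_nil, or_false] at hi
            rcases hi with hi | hi | hi | hi
            · obtain rfl : i = pt 0 := Fin.ext hi; rw [hfix0, hfix0]
            · obtain rfl : i = pt 1 := Fin.ext hi; rw [hfix1, hfix1]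
            · obtain rfl : i = pt 162 := Fin.ext hi; exact h1
            · obtain rfl : i = pt 101 := Fin.ext hi; exact h2
          rw [key]
          exact Equiv.symm_apply_apply _ _
      _ = pairTab.toFinset.card := Nat.card_eq_finsetCard _
      _ ≤ 24 := by decide +kernel
  calc Nat.card (MulAut G315) ≤ 315 * (160 * 24) := by
        rw [h0, h1]; exact Nat.mul_le_mul hb0 (Nat.mul_le_mul hb1 hb2)
    _ = 1209600 := by norm_num

theorem conj_injective : Function.Injective (MulAut.conj : G315 →* MulAut G315) := by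
  refine (injective_iff_map_eq_one _).2 fun g hg => Subtype.ext (Equiv.ext fun k => pi_injective ?_)
  refine congrArg Subtype.val (?_ : piG ((g : P315) k) = piG k)
  rw [← conj_piG]
  exact DFunLike.congr_fun hg (piG k)

/-- The outer permutation. -/
def sigPerm : P315 where
  toFun x := ⟨pim 9 sigTab x, by
    have h := allFrom_spec sig_ok x (Nat.zero_le _) (by omega)
    simp only [Bool.and_eq_true, Nat.blt_eq] at h
    exact h.1.2⟩
  invFun x := ⟨pim 9 sigInv x, by
    have h := allFrom_spec sig_ok x (Nat.zero_le _) (by omega)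
    simp only [Bool.and_eq_true, Nat.blt_eq] at h
    exact h.2⟩
  left_inv x := by
    have h := allFrom_spec sig_ok x (Nat.zero_le _) (by omega)
    simp only [Bool.and_eq_true] at h
    exact Fin.ext (Nat.eq_of_beq_eq_true h.1.1.1)
  right_inv x := by
    have h := allFrom_spec sig_ok x (Nat.zero_le _) (by omega)
    simp only [Bool.and_eq_true] at h
    exact Fin.ext (Nat.eq_of_beq_eq_true h.1.1.2)

theorem evalW_word (ws : List ℕ) (h : ws.all (fun a => Nat.blt a 4) = true) :
    ∃ p ∈ G315, ∀ x : Fin 315, ((p x : Fin 315) : ℕ) = evalW 9 genTab ws x := by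
  refine ⟨(ws.map gp).prod, wordPerm_mem ws, fun x => ?_⟩
  refine (SpecCert.evalW_spec (D := cert) genTab gp ws (fun a ha => ?_) x).symm
  have ha4 : a < 4 := by simpa using List.all_eq_true.1 h a ha
  intro y
  rw [gp, dif_pos ha4]
  exact rep_sigma ⟨a, by have : cert.s.length = 4 := by decide
                         omega⟩ y

theorem sigPerm_gen (g : Fin 4) :
    sigPerm * genPerm g * sigPerm⁻¹ ∈ G315 ∧ sigPerm⁻¹ * genPerm g * sigPerm ∈ G315 := by
  have h := norm_ok g g.2
  simp only [normOk, Bool.and_eq_true] at h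
  obtain ⟨⟨hx, h1⟩, h2⟩ := h
  obtain ⟨p, hp, hpx⟩ := evalW_word _ h1
  obtain ⟨q, hq, hqx⟩ := evalW_word _ h2
  have hg : ∀ x : Fin 315, ((genPerm g x : Fin 315) : ℕ) = pim 9 (getN genTab g) x := fun x => rep_sigma ⟨g, by
    have : cert.s.length = 4 := by decide
    omega⟩ x
  constructor
  · convert hp using 1
    refine Equiv.ext fun x => Fin.ext ?_
    have := allFrom_spec hx x (Nat.zero_le _) (by omega)
    simp only [Bool.and_eq_true] at this
    rw [hpx, Nat.eq_of_beq_eq_true this.1, Perm.mul_apply, Perm.mul_apply]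
    show pim 9 sigTab (genPerm g _ : Fin 315) = _
    rw [hg]; rfl
  · convert hq using 1
    refine Equiv.ext fun x => Fin.ext ?_
    have := allFrom_spec hx x (Nat.zero_le _) (by omega)
    simp only [Bool.and_eq_true] at this
    rw [hqx, Nat.eq_of_beq_eq_true this.2, Perm.mul_apply, Perm.mul_apply]
    show pim 9 sigInv (genPerm g _ : Fin 315) = _
    rw [hg]; rfl

theorem sigPerm_conj {g : P315} (hg : g ∈ G315) :
    sigPerm * g * sigPerm⁻¹ ∈ G315 ∧ sigPerm⁻¹ * g * sigPerm ∈ G315 := by
  have h1 : G315 ≤ G315.comap (MulAut.conj sigPerm).toMonoidHom :=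
    (Subgroup.closure_le _).2 (by rintro _ ⟨c, rfl⟩; exact (sigPerm_gen c).1)
  have h2 : G315 ≤ G315.comap (MulAut.conj sigPerm⁻¹).toMonoidHom :=
    (Subgroup.closure_le _).2 (by
      rintro _ ⟨c, rfl⟩
      show sigPerm⁻¹ * genPerm c * sigPerm⁻¹⁻¹ ∈ G315
      rw [inv_inv]; exact (sigPerm_gen c).2)
  refine ⟨h1 hg, ?_⟩
  have := h2 hg
  simpa using this

/-- The outer automorphism. -/
def outerAut : MulAut G315 where
  toFun g := ⟨_, (sigPerm_conj g.2).1⟩
  invFun g := ⟨_, (sigPerm_conj g.2).2⟩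
  left_inv g := Subtype.ext (by show sigPerm⁻¹ * (sigPerm * g * sigPerm⁻¹) * sigPerm = g; group)
  right_inv g := Subtype.ext (by show sigPerm * (sigPerm⁻¹ * g * sigPerm) * sigPerm⁻¹ = g; group)
  map_mul' a b := Subtype.ext (by
    show sigPerm * (a * b : P315) * sigPerm⁻¹ = (sigPerm * a * sigPerm⁻¹) * (sigPerm * b * sigPerm⁻¹)
    group)

theorem outerAut_not_inner : outerAut ∉ Cfsg.Inn G315 := by
  rintro ⟨h, hh⟩
  have key : ∀ p ∈ [(0, 0), (1, 1), (162, 195), (101, 64)], ∀ (ha : p.1 < 315) (hb : p.2 < 315),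
      (h : P315) (pt p.1 ha) = pt p.2 hb := by
    intro p hp ha hb
    apply pi_injective
    refine congrArg Subtype.val (?_ : piG ((h : P315) (pt p.1 ha)) = piG (pt p.2 hb))
    rw [← conj_piG, ← MulAut.conj_apply, hh]
    refine Subtype.ext (Equiv.ext fun x => Fin.ext ?_)
    have h' := allFrom_spec (List.all_eq_true.1 sigPi_ok p hp) x (Nat.zero_le _) (by omega)
    refine Eq.trans ?_ ((Nat.eq_of_beq_eq_true h').trans (pi_rep (pt p.2 hb) x).symm)
    show ((sigPerm (pi (pt p.1 ha) (sigPerm⁻¹ x)) : Fin 315) : ℕ) = _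
    show pim 9 sigTab (pi (pt p.1 ha) (sigPerm⁻¹ x) : Fin 315) = _
    rw [pi_rep]; rfl
  have k0 := key (0, 0) (by decide) (by decide) (by decide)
  have k1 := key (1, 1) (by decide) (by decide) (by decide)
  have k2 := key (162, 195) (by decide) (by decide) (by decide)
  have k3 := key (101, 64) (by decide) (by decide) (by decide)
  obtain ⟨k, hk, hr⟩ := SpecCert.mem_K_of_fix cert_ok sigma rep_sigma (g := (h : P315)) (by rw [closure_sigma]; exact h.2) (fun b hb => by
    simp only [show cert.b1 = 1 from rfl, List.mem_cons, List.not_mem_nil, or_false] at hb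
    rcases hb with hb | hb
    · obtain rfl : b = pt 0 := Fin.ext hb; exact k0
    · obtain rfl : b = pt 1 := Fin.ext hb; exact k1)
  have hn := allFrom_spec notInner_ok k (Nat.zero_le _)
    (by have : cert.K.length = 12 := by decide
        omega)
  have e2 : pim 9 (getN kTab k) 162 = 195 := (hr (pt 162)).symm.trans (congrArg Fin.val k2)
  have e3 : pim 9 (getN kTab k) 101 = 64 := (hr (pt 101)).symm.trans (congrArg Fin.val k3)
  simp [e2, e3] at hn

/-- The outer automorphism group of `J₂` has order two. -/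
theorem card_out_jTwo : Nat.card (Cfsg.Out Cfsg.Spor.J2) = 2 := by
  have hcong : Nat.card (Cfsg.Out Cfsg.Spor.J2) = Nat.card (Cfsg.Out G315) := by
    refine Nat.card_congr (QuotientGroup.congr _ _ (MulAut.congr j2Equiv) ?_).toEquiv
    ext x
    constructor
    · rintro ⟨_, ⟨g, rfl⟩, rfl⟩
      exact ⟨j2Equiv g, by ext y; simp [MulAut.congr]⟩
    · rintro ⟨h, rfl⟩
      exact ⟨MulAut.conj (j2Equiv.symm h), ⟨_, rfl⟩, by ext y; simp [MulAut.congr]⟩
  rw [hcong]
  have hfin : Finite (MulAut G315) := Finite.of_injective _ lineAct_injective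
  have hinn : Nat.card (Cfsg.Inn G315) = 604800 := by
    rw [← G315_card]
    exact (Nat.card_congr (MonoidHom.ofInjective conj_injective).toEquiv).symm
  have hcard := Subgroup.card_eq_card_quotient_mul_card_subgroup (Cfsg.Inn G315)
  rw [hinn] at hcard
  have hle : Nat.card (Cfsg.Out G315) ≤ 2 := by
    have := card_le_two_mul
    show Nat.card (MulAut G315 ⧸ Cfsg.Inn G315) ≤ 2
    omega
  have hgt : 1 < Nat.card (Cfsg.Out G315) := by
    show 1 < (Cfsg.Inn G315).index
    refine Nat.one_lt_iff_ne_zero_and_ne_one.2 ⟨Subgroup.index_ne_zero_of_finite, fun h1 => ?_⟩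
    exact outerAut_not_inner (by rw [Subgroup.index_eq_one.1 h1]; trivial)
  omega

end

end Cfsg.Agent.H36.JTwo
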