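import Cfsg.Agent.H36.JTwoCert
import Cfsg.Agent.H36.JTwoOuterData

/-! Kernel checks for the automorphisms of the Hall-Janko group. -/

set_option autoImplicit false
set_option maxRecDepth 100000

open Cfsg.Agent.H16

namespace Cfsg.Agent.H36.JTwo

/-- The test that entry `i` of `piTab` is the reflection of line `i`. -/
noncomputable def piOk (i : ℕ) : Bool :=
  forceNat (piTab.get i) fun P => forceNat (uTab.get i) fun Q => forceNat (getN genTab 0) fun G =>
    allFrom (fun x => Nat.beq (pim 9 P (pim 9 Q (pim 9 uInv x))) (pim 9 Q (pim 9 uInv (pim 9 G x)))) 315 0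

/-- `uInv` inverts the representative of the base line. -/
noncomputable def uInvOk : Bool :=
  allFrom (fun x => Nat.beq (pim 9 uInv (pim 9 (uTab.get 304) x)) x && Nat.blt (pim 9 uInv x) 315) 315 0

/-- The base points. -/
def bpts : List ℕ := [0, 1, 2]

/-- The reflections are distinct. -/
noncomputable def injOk (i : ℕ) : Bool :=
  forceNat (piTab.get i) fun P => forceNat (pim 9 P 0) fun a => forceNat (pim 9 P 1) fun b => forceNat (pim 9 P 2) fun c =>
    allFrom (fun j => forceNat (piTab.get j) fun Q =>
      !(Nat.beq a (pim 9 Q 0) && Nat.beq b (pim 9 Q 1) && Nat.beq c (pim 9 Q 2))) i 0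

/-- The product of two reflections has order `m`. -/
noncomputable def ordIs (a b m : ℕ) : Bool :=
  forceNat (piTab.get a) fun P => forceNat (piTab.get b) fun Q =>
    (bpts.all fun x => Nat.beq (iterPt (fun y => pim 9 P (pim 9 Q y)) m x) x) &&
      allFrom (fun d => Nat.beq d 0 ||
        bpts.any fun x => !(Nat.beq (iterPt (fun y => pim 9 P (pim 9 Q y)) d x) x)) m 0

/-- An element of order four squares to a reflection. -/
noncomputable def sqOk (m : ℕ) : Bool :=
  forceNat (Nat.mod m 12) fun k => forceNat (Nat.mod (Nat.div m 12) 160) fun j =>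
  forceNat (Nat.div (Nat.div m 12) 160) fun r => forceNat (uTab.get (getN repPts r)) fun Q =>
  forceNat (vTab.get j) fun R => forceNat (getN kTab k) fun T =>
    !(bpts.all fun x => Nat.beq (iterPt (fun y => pim 9 Q (pim 9 R (pim 9 T y))) 4 x) x) ||
    (bpts.all fun x => Nat.beq (iterPt (fun y => pim 9 Q (pim 9 R (pim 9 T y))) 2 x) x) ||
    forceNat (sqTab.get 48 m) fun i => forceNat (piTab.get i) fun P =>
      Nat.blt i 315 && bpts.all fun x => Nat.beq (iterPt (fun y => pim 9 Q (pim 9 R (pim 9 T y))) 2 x) (pim 9 P x)

/-- The number of lines whose reflection has product of order three with that of line `0`. -/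
noncomputable def suborbitCount : ℕ := countFrom (fun x => ordIs 0 x 3) 315 0

/-- The third coordinates allowed. -/
noncomputable def okC (x : ℕ) : Bool := ordIs 0 x 5 && ordIs 1 x 2

/-- The pairs allowed are listed. -/
noncomputable def pairsOk (x : ℕ) : Bool :=
  !(okC x) || allFrom (fun y => !(ordIs 0 y 4 && ordIs 1 y 3 && ordIs x y 5) ||
    pairTab.any (fun z => Nat.beq z (Nat.add (Nat.mul x 512) y))) 315 0

/-- The four reflections generate. -/
noncomputable def genWordsOk : Bool :=
  allFrom (fun g => (getW genWords g).all (fun a => Nat.beq a 0 || Nat.beq a 1 || Nat.beq a 162 || Nat.beq a 101) &&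
    allFrom (fun x => Nat.beq (pim 9 (getN genTab g) x)
      ((getW genWords g).foldr (fun a y => pim 9 (piTab.get a) y) x)) 315 0) 4 0

/-- The outer permutation and its inverse. -/
noncomputable def sigOk : Bool :=
  allFrom (fun x => Nat.beq (pim 9 sigInv (pim 9 sigTab x)) x && Nat.beq (pim 9 sigTab (pim 9 sigInv x)) x &&
    Nat.blt (pim 9 sigTab x) 315 && Nat.blt (pim 9 sigInv x) 315) 315 0

/-- The outer permutation normalises the group. -/
noncomputable def normOk (g : ℕ) : Bool :=
  allFrom (fun x =>
    Nat.beq (evalW 9 genTab (getW imgWords g) x) (pim 9 sigTab (pim 9 (getN genTab g) (pim 9 sigInv x))) &&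
    Nat.beq (evalW 9 genTab (getW imgInvWords g) x) (pim 9 sigInv (pim 9 (getN genTab g) (pim 9 sigTab x)))) 315 0 &&
  (getW imgWords g).all (fun a => Nat.blt a 4) && (getW imgInvWords g).all (fun a => Nat.blt a 4)

/-- The images of four reflections under the outer permutation. -/
noncomputable def sigPiOk : Bool :=
  [(0, 0), (1, 1), (162, 195), (101, 64)].all fun p =>
    allFrom (fun x => Nat.beq (pim 9 sigTab (pim 9 (piTab.get p.1) (pim 9 sigInv x))) (pim 9 (piTab.get p.2) x)) 315 0

/-- No element of the bottom group acts on the four lines in the same way. -/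
noncomputable def notInnerOk : Bool :=
  allFrom (fun k => !(Nat.beq (pim 9 (getN kTab k) 162) 195 && Nat.beq (pim 9 (getN kTab k) 101) 64)) 12 0

theorem pi_ok : ∀ i, i < 315 → piOk i = true :=
  allFrom_extend allFrom_nil (show allFrom piOk 315 0 = true by decide +kernel)
theorem uInv_ok : uInvOk = true := by decide +kernel
theorem inj_ok : ∀ i, i < 315 → injOk i = true :=
  allFrom_extend allFrom_nil (show allFrom injOk 315 0 = true by decide +kernel)
theorem count_ok : suborbitCount = 160 := by decide +kernel
theorem pairs_ok : ∀ x, x < 315 → pairsOk x = true :=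
  allFrom_extend allFrom_nil (show allFrom pairsOk 315 0 = true by decide +kernel)
theorem ord_ok : (ordIs 0 1 3 && okC 162 && ordIs 0 101 4 && ordIs 1 101 3 && ordIs 162 101 5) = true := by
  decide +kernel
theorem genWords_ok : genWordsOk = true := by decide +kernel
theorem sig_ok : sigOk = true := by decide +kernel
theorem norm_ok : ∀ g, g < 4 → normOk g = true :=
  allFrom_extend allFrom_nil (show allFrom normOk 4 0 = true by decide +kernel)
theorem sigPi_ok : sigPiOk = true := by decide +kernel
theorem notInner_ok : notInnerOk = true := by decide +kernel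

private theorem sq_ok0 : allFrom sqOk 1440 0 = true := by decide +kernel
private theorem sq_ok1 : allFrom sqOk 1440 1440 = true := by decide +kernel
private theorem sq_ok2 : allFrom sqOk 1440 2880 = true := by decide +kernel
private theorem sq_ok3 : allFrom sqOk 1440 4320 = true := by decide +kernel
private theorem sq_ok4 : allFrom sqOk 1440 5760 = true := by decide +kernel
private theorem sq_ok5 : allFrom sqOk 1440 7200 = true := by decide +kernel
private theorem sq_ok6 : allFrom sqOk 1440 8640 = true := by decide +kernel
private theorem sq_ok7 : allFrom sqOk 1440 10080 = true := by decide +kernel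
theorem sq_ok : ∀ m, m < 11520 → sqOk m = true :=
  (allFrom_extend (allFrom_extend (allFrom_extend (allFrom_extend (allFrom_extend (allFrom_extend (allFrom_extend (allFrom_extend allFrom_nil
    sq_ok0)
    sq_ok1)
    sq_ok2)
    sq_ok3)
    sq_ok4)
    sq_ok5)
    sq_ok6)
    sq_ok7)

end Cfsg.Agent.H36.JTwo
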