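import Cfsg.Agent.H22.Frobenius
import Cfsg.Agent.H53.MetacyclicAction
import Cfsg.Agent.H58.FrattiniAction
import Cfsg.Agent.H19.PLengthOne
import Cfsg.Agent.H24.PGroupBasic

/-! Normal `p`-complements in groups with metacyclic Sylow `p`-subgroups. -/

set_option autoImplicit false

namespace Cfsg.Agent.H36

/-- An automorphism of prime order `r ≠ p` of a metacyclic `p`-group forces `r ∣ p ^ 2 - 1`. -/
theorem dvd_sq_sub_one_of_metacyclic {Q : Type*} [Group Q] [Finite Q] {p r : ℕ} [Fact p.Prime]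
    [hr : Fact r.Prime] (hQ : IsPGroup p Q) (hm : Cfsg.IsMetacyclic Q) (hrp : r ≠ p)
    (e : MulAut Q) (he : e ^ r = 1) (hne : e ≠ 1) : r ∣ p ^ 2 - 1 := by
  classical
  have hp := (Fact.out : p.Prime)
  by_contra hdvd
  apply hne
  refine MulEquiv.ext fun q => H58.aut_eq_one_of_trivial_mod_frattini hQ hrp e he ?_ q
  set B := Q ⧸ frattini Q
  let ψ : MulAut Q →* MulAut B :=
    { toFun := fun f => QuotientGroup.congr (frattini Q) (frattini Q) f
        (Subgroup.characteristic_iff_map_eq.mp inferInstance f)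
      map_one' := MulEquiv.ext fun b => by
        obtain ⟨x, rfl⟩ := QuotientGroup.mk'_surjective (frattini Q) b
        rfl
      map_mul' := fun f g => MulEquiv.ext fun b => by
        obtain ⟨x, rfl⟩ := QuotientGroup.mk'_surjective (frattini Q) b
        rfl }
  have hBexp : ∀ b : B, b ^ p = 1 := fun b => by
    obtain ⟨x, rfl⟩ := QuotientGroup.mk'_surjective (frattini Q) b
    exact (QuotientGroup.eq_one_iff _).2 (H24.pow_mem_frattini hQ x)
  have hBle : Nat.card B ≤ p ^ 2 := by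
    have h := H53.card_le_sq_of_metacyclic (p := p) (H53.isMetacyclic_quotient hm (frattini Q))
      (⊤ : Subgroup B) (fun x _ => hBexp x)
    rwa [Subgroup.card_top] at h
  have hBp : IsPGroup p B := fun b => ⟨1, by rw [pow_one]; exact hBexp b⟩
  obtain ⟨k, hk⟩ := IsPGroup.iff_card.1 hBp
  let Fx : Subgroup B :=
    { carrier := {b | ψ e b = b}
      one_mem' := map_one _
      mul_mem' := fun {a b} ha hb => show ψ e (a * b) = a * b by
        rw [map_mul, show ψ e a = a from ha, show ψ e b = b from hb]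
      inv_mem' := fun {a} ha => show ψ e a⁻¹ = a⁻¹ by rw [map_inv, show ψ e a = a from ha] }
  obtain ⟨j, hjk, hj⟩ := (Nat.dvd_prime_pow hp).1 (hk ▸ Subgroup.card_subgroup_dvd_card Fx)
  have hσ : IsPGroup r (Subgroup.zpowers (ψ e)) := fun x => ⟨1, by
    obtain ⟨m, hm⟩ := Subgroup.mem_zpowers_iff.1 x.2
    refine Subtype.ext ?_
    rw [pow_one, SubmonoidClass.coe_pow, ← hm, ← zpow_natCast, ← zpow_mul, mul_comm, zpow_mul,
      zpow_natCast, ← map_pow, he, map_one, one_zpow]
    rfl⟩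
  have hfix : Nat.card (MulAction.fixedPoints (Subgroup.zpowers (ψ e)) B) = Nat.card Fx := by
    refine Nat.card_congr (Equiv.setCongr (Set.ext fun b => ⟨fun h => ?_, fun h => ?_⟩))
    · exact h ⟨ψ e, Subgroup.mem_zpowers _⟩
    · rintro ⟨x, hx⟩
      have hle : Subgroup.zpowers (ψ e) ≤ MulAction.stabilizer (MulAut B) b :=
        Subgroup.zpowers_le.2 h
      exact hle hx
  have hmod := hσ.card_modEq_card_fixedPoints B
  rw [hfix, hk, hj] at hmod
  have hk2 : k ≤ 2 := (Nat.pow_le_pow_iff_right hp.one_lt).1 (hk ▸ hBle)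
  have hkj : j = k := by
    by_contra hne'
    have h := (Nat.modEq_iff_dvd' (Nat.pow_le_pow_right hp.pos hjk)).1 hmod.symm
    have h2 : p ^ k - p ^ j = p ^ j * (p ^ (k - j) - 1) := by
      rw [Nat.mul_sub, mul_one, ← pow_add, Nat.add_sub_cancel' hjk]
    rw [h2] at h
    refine hdvd ?_
    rcases hr.out.dvd_mul.1 h with h3 | h3
    · exact absurd ((Nat.prime_dvd_prime_iff_eq hr.out hp).1 (hr.out.dvd_of_dvd_pow h3)) hrp
    · rcases (show k - j = 1 ∨ k - j = 2 by omega) with h4 | h4 <;> rw [h4] at h3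
      · exact h3.trans (by simpa using Nat.pow_sub_pow_dvd_pow_sub_pow p 1 (show 1 ∣ 2 by norm_num))
      · exact h3
  have htop : Fx = ⊤ := Subgroup.eq_top_of_card_eq _ (by rw [hk, hj, hkj])
  intro x
  have h1 : ψ e (x : B) = x := (htop ▸ Subgroup.mem_top (x : B) : (x : B) ∈ Fx)
  exact QuotientGroup.eq.1 h1.symm

/-- A group with a normal `p`-complement equals `O_{p',p}`. -/
theorem pPrimePCore_eq_top_of_hasNormalPComplement {G : Type*} [Group G] [Finite G] (p : ℕ)
    [Fact p.Prime] (h : Cfsg.HasNormalPComplement p G) : Cfsg.pPrimePCore p G = ⊤ := by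
  obtain ⟨P, N, hN, hc⟩ := h
  have hcop : (Nat.card N).Coprime p := by
    have h1 : Nat.card N = (P : Subgroup G).index := hc.index_eq_card.symm
    rw [h1]
    exact ((Fact.out : p.Prime).coprime_iff_not_dvd.2 P.not_dvd_index).symm
  have hle := H19.le_pPrimeCore hN hcop
  obtain ⟨a, ha⟩ := IsPGroup.iff_card.1 P.2
  have hidx : N.index = p ^ a := by rw [hc.symm.index_eq_card, ha]
  refine top_le_iff.1 (H19.le_pPrimePCore_of_forall inferInstance fun x _ => ⟨a, hle ?_⟩)
  rw [← hidx]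
  exact N.pow_index_mem x

/-- For metacyclic Sylow `p`-subgroups: a normal `p`-complement iff `G / O_{p',p}` has order
prime to `p ^ 2 - 1`. -/
theorem hasNormalPComplement_iff_of_metacyclic {G : Type*} [Group G] [Finite G] (p : ℕ)
    [Fact p.Prime] (S : Sylow p G) (hS : Cfsg.IsMetacyclic ↥(S : Subgroup G)) :
    Cfsg.HasNormalPComplement p G ↔
      Nat.Coprime (Nat.card (G ⧸ Cfsg.pPrimePCore p G)) (p ^ 2 - 1) := by
  have := H19.pPrimePCore_normal p G
  refine ⟨fun h => ?_, fun h => ?_⟩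
  · rw [← Subgroup.index_eq_card, pPrimePCore_eq_top_of_hasNormalPComplement p h,
      Subgroup.index_top]
    exact Nat.coprime_one_left _
  refine H22.hasNormalPComplement_of_frobenius (H22.frobeniusCondition_of_sylow S ?_)
  intro Q hQS g hg hgp
  let a : MulAut Q := Subgroup.normalizerMonoidHom Q ⟨g, hg⟩
  suffices ha : a = 1 by
    refine Subgroup.mem_centralizer_iff.2 fun d hd => ?_
    have h1 : g * d * g⁻¹ = d := congrArg Subtype.val (DFunLike.congr_fun ha (⟨d, hd⟩ : Q))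
    calc d * g = (g * d * g⁻¹) * g := by rw [h1]
      _ = g * d := inv_mul_cancel_right _ _
  by_contra ha
  obtain ⟨r, hr, hrd⟩ := Nat.exists_prime_and_dvd (fun h => ha (orderOf_eq_one_iff.1 h) :
    orderOf a ≠ 1)
  have : Fact r.Prime := ⟨hr⟩
  set m := orderOf a / r
  have hm : (a ^ m) ^ r = 1 := by
    rw [← pow_mul, Nat.div_mul_cancel hrd, pow_orderOf_eq_one]
  have hdg : orderOf a ∣ orderOf g := by
    have := orderOf_map_dvd (Subgroup.normalizerMonoidHom Q) (⟨g, hg⟩ : Subgroup.normalizer (Q : Set G))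
    rwa [← Subgroup.orderOf_coe] at this
  have hrp : r ≠ p := fun h => by
    have h1 := Nat.Coprime.coprime_dvd_left (hrd.trans hdg) hgp
    rw [h, Nat.coprime_self] at h1
    exact (Fact.out : p.Prime).ne_one h1
  have hmne : a ^ m ≠ 1 := fun h1 => by
    have h2 := Nat.le_of_dvd (Nat.div_pos (Nat.le_of_dvd (orderOf_pos a) hrd) hr.pos)
      (orderOf_dvd_of_pow_eq_one h1)
    exact absurd h2 (Nat.not_le.2 (Nat.div_lt_self (orderOf_pos a) hr.one_lt))
  have hQp : IsPGroup p Q := S.2.to_le hQS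
  have hQm : Cfsg.IsMetacyclic Q :=
    H53.isMetacyclic_of_injective hS (Subgroup.inclusion hQS) (Subgroup.inclusion_injective hQS)
  have hr2 := dvd_sq_sub_one_of_metacyclic hQp hQm hrp _ hm hmne
  -- the `r`-part of `g` lies in `O_{p'}`
  obtain ⟨k, n, hrn, hn⟩ := Nat.exists_eq_pow_mul_and_not_dvd (orderOf_pos g).ne' r hr.ne_one
  have hgn : (g ^ n) ^ r ^ k = 1 := by
    rw [← pow_mul, mul_comm, ← hn, pow_orderOf_eq_one]
  have hmem : g ^ n ∈ Cfsg.pPrimePCore p G := by
    refine (QuotientGroup.eq_one_iff _).1 (orderOf_eq_one_iff.1 (Nat.eq_one_of_dvd_coprimes ?_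
      (orderOf_dvd_natCard _) (orderOf_dvd_of_pow_eq_one
        (show ((g ^ n : G) : G ⧸ Cfsg.pPrimePCore p G) ^ r ^ k = 1 by
          rw [← QuotientGroup.mk_pow, hgn]; rfl))))
    exact (h.coprime_dvd_right hr2).pow_right k
  obtain ⟨i, hi⟩ := H19.pow_mem_pPrimeCore_of_mem hmem
  have hcore : g ^ n ∈ Cfsg.pPrimeCore p G := by
    have h1 : (orderOf (g ^ n)).Coprime (p ^ i) :=
      (hgp.coprime_dvd_left (orderOf_pow_dvd n)).pow_right i
    obtain ⟨t, ht⟩ := exists_pow_eq_self_of_coprime h1.symm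
    rw [← ht]
    exact pow_mem hi t
  have hnor := H19.pPrimeCore_normal p G
  have han : a ^ n = 1 := by
    refine MulEquiv.ext fun d => Subtype.ext ?_
    have h1 : ((a ^ n) d : G) = g ^ n * d * (g ^ n)⁻¹ := by
      rw [show a ^ n = Subgroup.normalizerMonoidHom Q (⟨g, hg⟩ ^ n) from (map_pow _ _ n).symm]
      rfl
    have h2 : (g ^ n * (d : G) * (g ^ n)⁻¹) * (d : G)⁻¹ ∈ Q ⊓ Cfsg.pPrimeCore p G := by
      refine ⟨Q.mul_mem (h1 ▸ ((a ^ n) d).2) (Q.inv_mem d.2), ?_⟩
      rw [mul_assoc, mul_assoc]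
      refine mul_mem hcore ?_
      rw [← mul_assoc]
      exact hnor.conj_mem _ (inv_mem hcore) _
    rw [H19.inf_eq_bot_of_isPGroup_coprime hQp (H19.pPrimeCore_coprime p), Subgroup.mem_bot,
      mul_inv_eq_one] at h2
    rw [h1, h2]
    rfl
  exact hrn ((hrd).trans (orderOf_dvd_of_pow_eq_one han))

end Cfsg.Agent.H36
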