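import Cfsg.Agent.H36.O7CoverData

/-! Kernel checks of the lifted relators for the sixfold cover of O7(3). -/

set_option autoImplicit false
set_option maxRecDepth 100000
set_option Elab.async false

open Cfsg.Agent.H16

namespace Cfsg.Agent.H36.O7Cover

/-- Image under a lifted generator. -/
noncomputable def ap (g x : ℕ) : ℕ := (tabs.getD g tab0).get 16 x

/-- Image under a word, first letter first. -/
noncomputable def run (w : List ℕ) : ℕ → ℕ :=
  List.rec (motive := fun _ => ℕ → ℕ) (fun i => i)
    (fun g _ ih i => forceNat i fun i => forceNat (ap g i) fun j => ih j) w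

/-- Image under the central element. -/
noncomputable def zap (x : ℕ) : ℕ := zTab.get 16 x

/-- The number of points. -/
def size : ℕ := 11637

/-- The lifted generators and the central element are compatible. -/
noncomputable def compatOk (x : ℕ) : Bool :=
  forceNat (zap x) fun y => Nat.blt y size && Nat.beq (iterPt zap 6 x) x &&
    allFrom (fun g => forceNat (ap g x) fun a => Nat.blt a size && Nat.beq (ap g y) (zap a) &&
      Nat.beq (ap g (iterPt zap 3 a)) x) 8 0

/-- A lifted relator is a power of the central element at a representative. -/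
noncomputable def relOkAt (k i : ℕ) : Bool :=
  forceNat (reps.get 16 i) fun x => Nat.beq (run (getW relWords k) x) (iterPt zap (getN relExps k) x)

/-- Every point is in the orbit of a representative. -/
noncomputable def coverAt (x : ℕ) : Bool :=
  forceNat (bitField (orbTab.get 24 x) 0 16) fun i => forceNat (bitField (orbTab.get 24 x) 16 8) fun j =>
    Nat.blt i 4239 && Nat.beq (iterPt zap j (reps.get 16 i)) x

theorem compat_ok_0 : allFrom (compatOk) 1500 0 = true := by decide +kernel

theorem compat_ok_1 : allFrom (compatOk) 1500 1500 = true := by decide +kernel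

theorem compat_ok_2 : allFrom (compatOk) 1500 3000 = true := by decide +kernel

theorem compat_ok_3 : allFrom (compatOk) 1500 4500 = true := by decide +kernel

theorem compat_ok_4 : allFrom (compatOk) 1500 6000 = true := by decide +kernel

theorem compat_ok_5 : allFrom (compatOk) 1500 7500 = true := by decide +kernel

theorem compat_ok_6 : allFrom (compatOk) 1500 9000 = true := by decide +kernel

theorem compat_ok_7 : allFrom (compatOk) 1137 10500 = true := by decide +kernel

theorem compat_ok (x : ℕ) (h : x < 11637) : (compatOk) x = true := by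
  by_cases h0 : x < 1500
  · exact allFrom_spec compat_ok_0 x (by omega) (by omega)
  by_cases h1 : x < 3000
  · exact allFrom_spec compat_ok_1 x (by omega) (by omega)
  by_cases h2 : x < 4500
  · exact allFrom_spec compat_ok_2 x (by omega) (by omega)
  by_cases h3 : x < 6000
  · exact allFrom_spec compat_ok_3 x (by omega) (by omega)
  by_cases h4 : x < 7500
  · exact allFrom_spec compat_ok_4 x (by omega) (by omega)
  by_cases h5 : x < 9000
  · exact allFrom_spec compat_ok_5 x (by omega) (by omega)
  by_cases h6 : x < 10500
  · exact allFrom_spec compat_ok_6 x (by omega) (by omega)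
  exact allFrom_spec compat_ok_7 x (by omega) (by omega)

theorem cover_ok_0 : allFrom (coverAt) 2000 0 = true := by decide +kernel

theorem cover_ok_1 : allFrom (coverAt) 2000 2000 = true := by decide +kernel

theorem cover_ok_2 : allFrom (coverAt) 2000 4000 = true := by decide +kernel

theorem cover_ok_3 : allFrom (coverAt) 2000 6000 = true := by decide +kernel

theorem cover_ok_4 : allFrom (coverAt) 2000 8000 = true := by decide +kernel

theorem cover_ok_5 : allFrom (coverAt) 1637 10000 = true := by decide +kernel

theorem cover_ok (x : ℕ) (h : x < 11637) : (coverAt) x = true := by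
  by_cases h0 : x < 2000
  · exact allFrom_spec cover_ok_0 x (by omega) (by omega)
  by_cases h1 : x < 4000
  · exact allFrom_spec cover_ok_1 x (by omega) (by omega)
  by_cases h2 : x < 6000
  · exact allFrom_spec cover_ok_2 x (by omega) (by omega)
  by_cases h3 : x < 8000
  · exact allFrom_spec cover_ok_3 x (by omega) (by omega)
  by_cases h4 : x < 10000
  · exact allFrom_spec cover_ok_4 x (by omega) (by omega)
  exact allFrom_spec cover_ok_5 x (by omega) (by omega)

theorem rel_ok_0 : allFrom (relOkAt 0) 4239 0 = true := by decide +kernel

theorem rel_ok_1 : allFrom (relOkAt 1) 4239 0 = true := by decide +kernel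

theorem rel_ok_2 : allFrom (relOkAt 2) 4239 0 = true := by decide +kernel

theorem rel_ok_3 : allFrom (relOkAt 3) 4239 0 = true := by decide +kernel

theorem rel_ok_4 : allFrom (relOkAt 4) 4239 0 = true := by decide +kernel

theorem rel_ok_5 : allFrom (relOkAt 5) 4239 0 = true := by decide +kernel

theorem rel_ok_6 : allFrom (relOkAt 6) 4239 0 = true := by decide +kernel

theorem rel_ok_7 : allFrom (relOkAt 7) 4239 0 = true := by decide +kernel

theorem rel_ok_8 : allFrom (relOkAt 8) 4239 0 = true := by decide +kernel

theorem rel_ok_9 : allFrom (relOkAt 9) 4239 0 = true := by decide +kernel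

theorem rel_ok_10 : allFrom (relOkAt 10) 4239 0 = true := by decide +kernel

theorem rel_ok_11 : allFrom (relOkAt 11) 4239 0 = true := by decide +kernel

theorem rel_ok_12 : allFrom (relOkAt 12) 4239 0 = true := by decide +kernel

theorem rel_ok_13 : allFrom (relOkAt 13) 4239 0 = true := by decide +kernel

theorem rel_ok_14 : allFrom (relOkAt 14) 4239 0 = true := by decide +kernel

theorem rel_ok_15 : allFrom (relOkAt 15) 4239 0 = true := by decide +kernel

theorem rel_ok_16 : allFrom (relOkAt 16) 4239 0 = true := by decide +kernel

theorem rel_ok_17 : allFrom (relOkAt 17) 4239 0 = true := by decide +kernel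

theorem rel_ok_18 : allFrom (relOkAt 18) 4239 0 = true := by decide +kernel

theorem rel_ok_19 : allFrom (relOkAt 19) 4239 0 = true := by decide +kernel

theorem rel_ok_20 : allFrom (relOkAt 20) 4239 0 = true := by decide +kernel

theorem rel_ok_21 : allFrom (relOkAt 21) 4239 0 = true := by decide +kernel

theorem rel_ok_22 : allFrom (relOkAt 22) 4239 0 = true := by decide +kernel

theorem rel_ok_23 : allFrom (relOkAt 23) 4239 0 = true := by decide +kernel

theorem rel_ok_24 : allFrom (relOkAt 24) 4239 0 = true := by decide +kernel

theorem rel_ok_25 : allFrom (relOkAt 25) 4239 0 = true := by decide +kernel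

theorem rel_ok_26 : allFrom (relOkAt 26) 4239 0 = true := by decide +kernel

theorem rel_ok_27 : allFrom (relOkAt 27) 4239 0 = true := by decide +kernel

theorem rel_ok_28 : allFrom (relOkAt 28) 4239 0 = true := by decide +kernel

theorem rel_ok_29 : allFrom (relOkAt 29) 4239 0 = true := by decide +kernel

theorem rel_ok_30 : allFrom (relOkAt 30) 4239 0 = true := by decide +kernel

theorem rel_ok_31 : allFrom (relOkAt 31) 4239 0 = true := by decide +kernel

theorem rel_ok_32 : allFrom (relOkAt 32) 4239 0 = true := by decide +kernel

theorem rel_ok_33 : allFrom (relOkAt 33) 4239 0 = true := by decide +kernel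

theorem rel_ok_34 : allFrom (relOkAt 34) 4239 0 = true := by decide +kernel

theorem rel_ok_35 : allFrom (relOkAt 35) 4239 0 = true := by decide +kernel

theorem rel_ok_36 : allFrom (relOkAt 36) 4239 0 = true := by decide +kernel

theorem rel_ok_37 : allFrom (relOkAt 37) 4239 0 = true := by decide +kernel

theorem rel_ok_38 : allFrom (relOkAt 38) 4239 0 = true := by decide +kernel

theorem rel_ok_39 : allFrom (relOkAt 39) 4239 0 = true := by decide +kernel

theorem rel_ok_40 : allFrom (relOkAt 40) 4239 0 = true := by decide +kernel

theorem rel_ok_41 : allFrom (relOkAt 41) 4239 0 = true := by decide +kernel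

theorem rel_ok_42 : allFrom (relOkAt 42) 4239 0 = true := by decide +kernel

theorem rel_ok_43 : allFrom (relOkAt 43) 4239 0 = true := by decide +kernel

theorem rel_ok_44 : allFrom (relOkAt 44) 4239 0 = true := by decide +kernel

theorem rel_ok_45 : allFrom (relOkAt 45) 4239 0 = true := by decide +kernel

theorem rel_ok_46 : allFrom (relOkAt 46) 4239 0 = true := by decide +kernel

theorem rel_ok_47 : allFrom (relOkAt 47) 4239 0 = true := by decide +kernel

theorem rel_ok_48 : allFrom (relOkAt 48) 4239 0 = true := by decide +kernel

theorem rel_ok_49 : allFrom (relOkAt 49) 4239 0 = true := by decide +kernel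

theorem rel_ok_50 : allFrom (relOkAt 50) 4239 0 = true := by decide +kernel

theorem rel_ok_51 : allFrom (relOkAt 51) 4239 0 = true := by decide +kernel

theorem rel_ok_52 : allFrom (relOkAt 52) 4239 0 = true := by decide +kernel

theorem rel_ok_53 : allFrom (relOkAt 53) 4239 0 = true := by decide +kernel

theorem rel_ok_54 : allFrom (relOkAt 54) 4239 0 = true := by decide +kernel

theorem rel_ok_55 : allFrom (relOkAt 55) 4239 0 = true := by decide +kernel

theorem rel_ok_56 : allFrom (relOkAt 56) 4239 0 = true := by decide +kernel

theorem rel_ok_57 : allFrom (relOkAt 57) 4239 0 = true := by decide +kernel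

theorem rel_ok_58 : allFrom (relOkAt 58) 4239 0 = true := by decide +kernel

theorem rel_ok_59 : allFrom (relOkAt 59) 4239 0 = true := by decide +kernel

theorem rel_ok_60 : allFrom (relOkAt 60) 4239 0 = true := by decide +kernel

theorem rel_ok_61 : allFrom (relOkAt 61) 4239 0 = true := by decide +kernel

theorem rel_ok_62 : allFrom (relOkAt 62) 4239 0 = true := by decide +kernel

theorem rel_ok_63 : allFrom (relOkAt 63) 4239 0 = true := by decide +kernel

theorem rel_ok_64 : allFrom (relOkAt 64) 4239 0 = true := by decide +kernel

theorem rel_ok_65 : allFrom (relOkAt 65) 4239 0 = true := by decide +kernel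

theorem rel_ok (k : ℕ) (h : k < 66) : allFrom (relOkAt k) 4239 0 = true := by
  interval_cases k
  · exact rel_ok_0
  · exact rel_ok_1
  · exact rel_ok_2
  · exact rel_ok_3
  · exact rel_ok_4
  · exact rel_ok_5
  · exact rel_ok_6
  · exact rel_ok_7
  · exact rel_ok_8
  · exact rel_ok_9
  · exact rel_ok_10
  · exact rel_ok_11
  · exact rel_ok_12
  · exact rel_ok_13
  · exact rel_ok_14
  · exact rel_ok_15
  · exact rel_ok_16
  · exact rel_ok_17
  · exact rel_ok_18
  · exact rel_ok_19
  · exact rel_ok_20
  · exact rel_ok_21
  · exact rel_ok_22
  · exact rel_ok_23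
  · exact rel_ok_24
  · exact rel_ok_25
  · exact rel_ok_26
  · exact rel_ok_27
  · exact rel_ok_28
  · exact rel_ok_29
  · exact rel_ok_30
  · exact rel_ok_31
  · exact rel_ok_32
  · exact rel_ok_33
  · exact rel_ok_34
  · exact rel_ok_35
  · exact rel_ok_36
  · exact rel_ok_37
  · exact rel_ok_38
  · exact rel_ok_39
  · exact rel_ok_40
  · exact rel_ok_41
  · exact rel_ok_42
  · exact rel_ok_43
  · exact rel_ok_44
  · exact rel_ok_45
  · exact rel_ok_46
  · exact rel_ok_47
  · exact rel_ok_48
  · exact rel_ok_49
  · exact rel_ok_50
  · exact rel_ok_51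
  · exact rel_ok_52
  · exact rel_ok_53
  · exact rel_ok_54
  · exact rel_ok_55
  · exact rel_ok_56
  · exact rel_ok_57
  · exact rel_ok_58
  · exact rel_ok_59
  · exact rel_ok_60
  · exact rel_ok_61
  · exact rel_ok_62
  · exact rel_ok_63
  · exact rel_ok_64
  · exact rel_ok_65

end Cfsg.Agent.H36.O7Cover
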