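import Mathlib
import Cfsg.Agent.H37.MinimalNormal

/-!
# Powers of simple groups
-/

set_option linter.style.haveILetI false

namespace Cfsg.Agent.H36.SimplePower

variable {S : Type*} [Group S] {n : ℕ}

/-- If a subgroup invariant under conjugation contains an element with nontrivial coordinate,
it contains that factor. -/
theorem single_mem_of_ne_one [IsSimpleGroup S] (hS : ¬ IsMulCommutative S)
    (N : Subgroup (Fin n → S)) [N.Normal] {x : Fin n → S} (hx : x ∈ N) {i : Fin n} (hi : x i ≠ 1)
    (s : S) : Pi.mulSingle i s ∈ N := by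
  classical
  let K : Subgroup S := N.comap (MonoidHom.mulSingle (fun _ : Fin n => S) i)
  haveI hKn : K.Normal := Subgroup.Normal.comap inferInstance _
  rcases IsSimpleGroup.eq_bot_or_eq_top_of_normal K hKn with h | h
  swap
  · exact (h ▸ Subgroup.mem_top s : s ∈ K)
  exfalso
  rcases IsSimpleGroup.eq_bot_or_eq_top_of_normal (Subgroup.center S) inferInstance with hz | hz
  swap
  · exact hS ⟨⟨fun a b => Subgroup.mem_center_iff.1 (hz ▸ Subgroup.mem_top b) a⟩⟩
  have hxz : x i ∉ Subgroup.center S := by rw [hz, Subgroup.mem_bot]; exact hi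
  rw [Subgroup.mem_center_iff] at hxz
  push Not at hxz
  obtain ⟨t, ht⟩ := hxz
  set e : Fin n → S := Pi.mulSingle i t
  have h1 : x * e * x⁻¹ * e⁻¹ ∈ N := by
    rw [mul_assoc, mul_assoc, ← mul_assoc e]
    exact mul_mem hx (Subgroup.Normal.conj_mem inferInstance _ (inv_mem hx) e)
  have h2 : x * e * x⁻¹ * e⁻¹ = Pi.mulSingle i (x i * t * (x i)⁻¹ * t⁻¹) := by
    funext j
    by_cases hj : j = i
    · subst hj; simp [e]
    · simp [e, hj]
  rw [h2] at h1
  have h3 : x i * t * (x i)⁻¹ * t⁻¹ ∈ K := h1
  rw [h, Subgroup.mem_bot, mul_inv_eq_one, mul_inv_eq_iff_eq_mul] at h3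
  exact ht h3.symm

theorem subproduct [IsSimpleGroup S] (hS : ¬ IsMulCommutative S) (N : Subgroup (Fin n → S))
    [N.Normal] : ∃ T : Finset (Fin n), ∀ x : Fin n → S, x ∈ N ↔ ∀ i, i ∉ T → x i = 1 := by
  classical
  refine ⟨Finset.univ.filter fun i => ∀ s : S, Pi.mulSingle i s ∈ N, fun x => ⟨fun hx i hi => ?_, fun hx => ?_⟩⟩
  · by_contra h
    exact hi (Finset.mem_filter.2 ⟨Finset.mem_univ i, single_mem_of_ne_one hS N hx h⟩)
  · refine Subgroup.pi_mem_of_mulSingle_mem x fun i => ?_
    by_cases hi : i ∈ Finset.univ.filter fun i => ∀ s : S, Pi.mulSingle i s ∈ N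
    · exact (Finset.mem_filter.1 hi).2 _
    · rw [hx i hi, Pi.mulSingle_one]; exact one_mem N

/-- The automorphism permuting the factors. -/
def permAut (σ : Equiv.Perm (Fin n)) : (Fin n → S) ≃* (Fin n → S) where
  toFun := fun x i => x (σ i)
  invFun := fun x i => x (σ.symm i)
  left_inv := fun x => funext fun i => by simp
  right_inv := fun x => funext fun i => by simp
  map_mul' := fun x y => rfl

/-- The automorphism adding one coordinate to another, for abelian factors. -/
def shear [IsMulCommutative S] (i j : Fin n) (hij : i ≠ j) : (Fin n → S) ≃* (Fin n → S) where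
  toFun := fun x => x * Pi.mulSingle j (x i)
  invFun := fun x => x * (Pi.mulSingle j (x i))⁻¹
  left_inv := fun x => by
    show x * Pi.mulSingle j (x i) * (Pi.mulSingle j ((x * Pi.mulSingle j (x i) : Fin n → S) i))⁻¹ = x
    rw [Pi.mul_apply, Pi.mulSingle_eq_of_ne hij, mul_one, mul_inv_cancel_right]
  right_inv := fun x => by
    show x * (Pi.mulSingle j (x i))⁻¹ *
      Pi.mulSingle j ((x * (Pi.mulSingle j (x i))⁻¹ : Fin n → S) i) = x
    rw [Pi.mul_apply, Pi.inv_apply, Pi.mulSingle_eq_of_ne hij, inv_one, mul_one,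
      inv_mul_cancel_right]
  map_mul' := fun x y => by
    funext k
    by_cases hk : k = j
    · subst hk
      simp only [Pi.mul_apply, Pi.mulSingle_eq_same]
      rw [mul_assoc, ← mul_assoc (y k), IsMulCommutative.is_comm.comm (y k) (x i), mul_assoc,
        ← mul_assoc]
    · simp [hk]

theorem char_simple_of_power [IsSimpleGroup S] [Finite S] (hn : 1 ≤ n) (K : Subgroup (Fin n → S))
    (hK : ∀ φ : (Fin n → S) ≃* (Fin n → S), ∀ x ∈ K, φ x ∈ K) : K = ⊥ ∨ K = ⊤ := by
  classical
  haveI : K.Normal := ⟨fun x hx g => hK (MulAut.conj g) x hx⟩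
  by_cases hb : K = ⊥
  · exact Or.inl hb
  obtain ⟨x, hx, hx1⟩ := (Subgroup.bot_or_exists_ne_one K).resolve_left hb
  obtain ⟨i, hi⟩ : ∃ i, x i ≠ 1 := Function.ne_iff.1 hx1
  suffices h : ∃ i, ∀ s : S, Pi.mulSingle i s ∈ K by
    obtain ⟨i, h⟩ := h
    refine Or.inr (eq_top_iff.2 fun y _ => Subgroup.pi_mem_of_mulSingle_mem y fun j => ?_)
    have e : permAut (Equiv.swap i j) (Pi.mulSingle i (y j)) = (Pi.mulSingle j (y j) : Fin n → S) := by
      funext k
      show (Pi.mulSingle i (y j) : Fin n → S) (Equiv.swap i j k) = _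
      by_cases hk : k = j
      · subst hk; simp
      · rw [Pi.mulSingle_eq_of_ne hk, Pi.mulSingle_eq_of_ne]
        intro e
        exact hk ((Equiv.swap i j).injective (e.trans (Equiv.swap_apply_right i j).symm))
    exact e ▸ hK _ _ (h _)
  by_cases hS : IsMulCommutative S
  swap
  · exact ⟨i, single_mem_of_ne_one hS K hx hi⟩
  obtain ⟨j, hj⟩ : ∃ j, (∀ s : S, Pi.mulSingle j s ∈ K) ∨ ∀ k, k ≠ i → False := by
    by_cases h : ∃ j, j ≠ i
    · obtain ⟨j, hj⟩ := h
      refine ⟨j, Or.inl fun s => ?_⟩
      have h1 := mul_mem (inv_mem hx) (hK (shear i j hj.symm) x hx)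
      rw [show shear i j hj.symm x = x * Pi.mulSingle j (x i) from rfl, inv_mul_cancel_left] at h1
      let L : Subgroup S := K.comap (MonoidHom.mulSingle (fun _ : Fin n => S) j)
      haveI hLn : L.Normal := Subgroup.Normal.comap inferInstance _
      rcases IsSimpleGroup.eq_bot_or_eq_top_of_normal L hLn with h' | h'
      · have h2 : x i ∈ L := h1
        rw [h', Subgroup.mem_bot] at h2
        exact absurd h2 hi
      · exact (h' ▸ Subgroup.mem_top s : s ∈ L)
    · exact ⟨i, Or.inr fun k hk => h ⟨k, hk⟩⟩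
  rcases hj with hj | hj
  · exact ⟨j, hj⟩
  · refine ⟨i, fun s => ?_⟩
    let L : Subgroup S := K.comap (MonoidHom.mulSingle (fun _ : Fin n => S) i)
    haveI hLn : L.Normal := Subgroup.Normal.comap inferInstance _
    have h2 : x i ∈ L := by
      show Pi.mulSingle i (x i) ∈ K
      rwa [show Pi.mulSingle i (x i) = x from funext fun k => by
        by_cases hk : k = i
        · subst hk; simp
        · exact (hj k hk).elim]
    rcases IsSimpleGroup.eq_bot_or_eq_top_of_normal L hLn with h' | h'
    · rw [h', Subgroup.mem_bot] at h2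
      exact absurd h2 hi
    · exact (h' ▸ Subgroup.mem_top s : s ∈ L)

/-- Characteristically simple finite groups. -/
theorem char_simple_iff {G : Type*} [Group G] [Finite G] [Nontrivial G] :
    (∀ H : Subgroup G, H.Characteristic → H = ⊥ ∨ H = ⊤) ↔
    ∃ (S : Type) (_ : Group S) (_ : IsSimpleGroup S) (n : ℕ), 1 ≤ n ∧ Nonempty (G ≃* (Fin n → S)) := by
  constructor
  · intro h
    let ψ : MulAut G →* MulAut G := MonoidHom.id _
    haveI : Finite (MulAut G) := Finite.of_injective (fun f : MulAut G => (f : G → G)) DFunLike.coe_injective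
    haveI : Finite (SemidirectProduct G (MulAut G) ψ) :=
      Finite.of_injective (fun x => (x.left, x.right)) fun a b e =>
        SemidirectProduct.ext (congrArg Prod.fst e) (congrArg Prod.snd e)
    set N := (SemidirectProduct.inl : G →* SemidirectProduct G (MulAut G) ψ).range with hN
    haveI : N.Normal := by
      rw [hN, SemidirectProduct.range_inl_eq_ker_rightHom]
      infer_instance
    have hne : N ≠ ⊥ := by
      intro e
      obtain ⟨a, ha⟩ := exists_ne (1 : G)
      have h2 : (SemidirectProduct.inl a : SemidirectProduct G (MulAut G) ψ) ∈ N := ⟨a, rfl⟩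
      rw [e, Subgroup.mem_bot] at h2
      exact ha (SemidirectProduct.inl_injective (h2.trans (map_one _).symm))
    have hmin : ∀ M : Subgroup (SemidirectProduct G (MulAut G) ψ), M.Normal → M ≤ N → M = ⊥ ∨ M = N := by
      intro M hM hle
      set H := M.comap (SemidirectProduct.inl : G →* SemidirectProduct G (MulAut G) ψ)
      have hH : H.Characteristic := by
        refine Subgroup.characteristic_iff_le_comap.2 fun φ g hg => ?_
        show SemidirectProduct.inl (φ g) ∈ M
        have h1 := SemidirectProduct.inl_aut (φ := ψ) φ g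
        rw [show ψ φ g = φ g from rfl] at h1
        rw [h1, map_inv]
        exact hM.conj_mem _ hg _
      have hMmap : M = H.map SemidirectProduct.inl :=
        (Subgroup.map_comap_eq_self hle).symm
      rcases h H hH with e | e
      · left; rw [hMmap, e, Subgroup.map_bot]
      · right; rw [hMmap, e, ← MonoidHom.range_eq_map]
    obtain ⟨T, hT, m, hTs, hm, ⟨e⟩⟩ := H37.minimalNormal_iso_pow N hne hmin
    exact ⟨T, hT, hTs, m, hm,
      ⟨(MonoidHom.ofInjective SemidirectProduct.inl_injective).trans e⟩⟩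
  · rintro ⟨T, _, _, m, hm, ⟨e⟩⟩ H hH
    haveI : Finite (Fin m → T) := Finite.of_equiv G e.toEquiv
    haveI : Finite T := Finite.of_injective (fun t => (fun _ => t : Fin m → T))
      fun a b h => congrFun h (⟨0, hm⟩ : Fin m)
    have key := char_simple_of_power hm (H.map e.toMonoidHom) fun φ x hx => by
      rw [Subgroup.mem_map_equiv] at hx ⊢
      have := Subgroup.characteristic_iff_le_comap.1 hH ((e.trans φ).trans e.symm) hx
      simpa using this
    rcases key with k | k
    · left
      rwa [Subgroup.map_eq_bot_iff_of_injective _ e.injective] at k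
    · right
      refine eq_top_iff.2 fun g _ => ?_
      have : e g ∈ H.map e.toMonoidHom := k ▸ Subgroup.mem_top _
      rwa [Subgroup.mem_map_equiv, MulEquiv.symm_apply_apply] at this

end Cfsg.Agent.H36.SimplePower
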