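import Cfsg.Agent.H36.SuzAutCert
import Cfsg.Agent.H36.SuzAutSlp0
import Cfsg.Agent.H36.SuzAutSlp1
import Cfsg.Agent.H36.SuzAutSlp2
import Cfsg.Agent.H36.SuzAutSlp3

/-! Kernel checks of the classification certificate. -/

set_option autoImplicit false
set_option maxRecDepth 100000

open Cfsg.Agent.H16 Cfsg.Agent.H36.AutEngine

namespace Cfsg.Agent.H36.Suz

theorem slp_ok : ∀ k, k < ctx.ns → ctx.slpOk k = true := by
  intro k hk
  change k < 1096 at hk
  by_cases h0 : k < 274
  · exact allFrom_spec slp_block0 k (by omega) (by omega)
  by_cases h1 : k < 548
  · exact allFrom_spec slp_block1 k (by omega) (by omega)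
  by_cases h2 : k < 822
  · exact allFrom_spec slp_block2 k (by omega) (by omega)
  exact allFrom_spec slp_block3 k (by omega) (by omega)

theorem levels_ok : ctx.levelsOk levels [] = true := by decide +kernel

theorem prod_ok : ctx.prodCnt levels = 448345497600 := by
  apply Nat.eq_of_beq_eq_true
  decide +kernel

theorem trans0_shape : ctx.transShapeOk levels trans0 = true := by decide +kernel

theorem trans0_cand : allFrom (fun m => ctx.candOk levels trans0 m) 1782 0 = true := by decide +kernel

theorem trans0_ok : TransOk ctx levels trans0 where
  shape := trans0_shape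
  cand := fun m hm => allFrom_spec trans0_cand m (Nat.zero_le _) (by simpa [trans0, ctx] using hm)

theorem trans0_0_shape : ctx.transShapeOk levels trans0_0 = true := by decide +kernel

theorem trans0_0_cand : allFrom (fun m => ctx.candOk levels trans0_0 m) 1782 0 = true := by decide +kernel

theorem trans0_0_ok : TransOk ctx levels trans0_0 where
  shape := trans0_0_shape
  cand := fun m hm => allFrom_spec trans0_0_cand m (Nat.zero_le _) (by simpa [trans0_0, ctx] using hm)

theorem trans1_shape : ctx.transShapeOk levels trans1 = true := by decide +kernel

theorem trans1_cand : allFrom (fun m => ctx.candOk levels trans1 m) 1782 0 = true := by decide +kernel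

theorem trans1_ok : TransOk ctx levels trans1 where
  shape := trans1_shape
  cand := fun m hm => allFrom_spec trans1_cand m (Nat.zero_le _) (by simpa [trans1, ctx] using hm)

theorem trans1_0_shape : ctx.transShapeOk levels trans1_0 = true := by decide +kernel

theorem trans1_0_cand : allFrom (fun m => ctx.candOk levels trans1_0 m) 1782 0 = true := by decide +kernel

theorem trans1_0_ok : TransOk ctx levels trans1_0 where
  shape := trans1_0_shape
  cand := fun m hm => allFrom_spec trans1_0_cand m (Nat.zero_le _) (by simpa [trans1_0, ctx] using hm)

theorem outerTrans_shape : ctx.transShapeOk levels outerTrans = true := by decide +kernel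

theorem outerTrans_cand : allFrom (fun m => ctx.candOk levels outerTrans m) 1782 0 = true := by decide +kernel

theorem outerTrans_ok : TransOk ctx levels outerTrans where
  shape := outerTrans_shape
  cand := fun m hm => allFrom_spec outerTrans_cand m (Nat.zero_le _) (by simpa [outerTrans, ctx] using hm)

theorem main_ok : ctx.certOk levels cert = true := by decide +kernel

theorem cases_ok : (cert.cases.all fun C => ctx.caseOk levels cert C && C.branches.all fun B => ctx.branchOk levels cert 1 C B) = true := by decide +kernel

theorem cert_ok : CertOk ctx levels cert 1 where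
  main := main_ok
  prime := show Nat.Prime 13 by norm_num
  cases := fun C hC => by
    have h := List.all_eq_true.1 cases_ok C hC
    simp only [Bool.and_eq_true, List.all_eq_true] at h
    refine ⟨h.1, ?_, fun B hB => ⟨h.2 B hB, ?_⟩⟩
    · simp only [cert, List.mem_cons, List.not_mem_nil, or_false] at hC
      rcases hC with rfl | rfl
      · exact trans0_ok
      · exact trans1_ok
    · simp only [cert, List.mem_cons, List.not_mem_nil, or_false] at hC
      rcases hC with rfl | rfl
      · simp only [List.mem_cons, List.not_mem_nil, or_false] at hB
        rcases hB with rfl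
        · exact trans0_0_ok
      · simp only [List.mem_cons, List.not_mem_nil, or_false] at hB
        rcases hB with rfl
        · exact trans1_0_ok

theorem outer_inv_ok : (ctx.allPts fun x => Nat.beq (ctx.ap outerInv (ctx.ap outerPerm x)) x && Nat.beq (ctx.ap outerPerm (ctx.ap outerInv x)) x &&
    Nat.blt (ctx.ap outerPerm x) ctx.n && Nat.blt (ctx.ap outerInv x) ctx.n) = true := by decide +kernel

theorem outer_img_ok : allFrom (fun k => Nat.blt (getN outerImg k) ctx.ns && Nat.blt (getN outerImgInv k) ctx.ns &&
      ctx.allPts (fun x => Nat.beq (ctx.ap outerPerm (ctx.ap (getN ctx.gens k) (ctx.ap outerInv x))) (ctx.ap (ctx.el (getN outerImg k)) x)) &&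
      ctx.allPts (fun x => Nat.beq (ctx.ap outerInv (ctx.ap (getN ctx.gens k) (ctx.ap outerPerm x))) (ctx.ap (ctx.el (getN outerImgInv k)) x)))
      ctx.gens.length 0 = true := by decide +kernel

theorem outer_triple_ok : allFrom (fun a => ctx.allPts fun x => Nat.beq
    (ctx.ap outerPerm (ctx.ap (ctx.el (getN [cert.xi, cert.wi, cert.zi] a)) (ctx.ap outerInv x)))
    (ctx.ap (ctx.el (getN cert.other a)) x)) 3 0 = true := by decide +kernel

theorem other_lt : cert.other.all (fun a => Nat.blt a ctx.ns) = true ∧ Nat.blt cert.wi ctx.ns = true ∧ Nat.blt cert.zi ctx.ns = true := by decide +kernel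

end Cfsg.Agent.H36.Suz
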