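import Mathlib

/-!
# Data: the 315 Sylow two-subgroup states of the symmetric group of degree eight
-/

namespace Cfsg.Agent.H36.SylowEight

/-- A state: the images of the central involution and the normalised split. -/
abbrev St := List (Fin 8) × List Bool

/-- All states. -/
def states : List St :=
  [([1, 0, 3, 2, 5, 4, 7, 6], [true, true, true, true, false, false, false, false]),
   ([2, 3, 0, 1, 5, 4, 7, 6], [true, true, true, true, false, false, false, false]),
   ([1, 0, 4, 5, 2, 3, 7, 6], [true, true, true, false, true, false, false, false]),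
   ([1, 0, 3, 2, 6, 7, 4, 5], [true, true, true, true, false, false, false, false]),
   ([3, 2, 1, 0, 5, 4, 7, 6], [true, true, true, true, false, false, false, false]),
   ([2, 4, 0, 5, 1, 3, 7, 6], [true, true, true, false, true, false, false, false]),
   ([2, 3, 0, 1, 6, 7, 4, 5], [true, true, true, true, false, false, false, false]),
   ([1, 0, 5, 4, 3, 2, 7, 6], [true, true, false, true, true, false, false, false]),
   ([1, 0, 5, 4, 3, 2, 7, 6], [true, true, true, false, false, true, false, false]),
   ([1, 0, 4, 6, 2, 7, 3, 5], [true, true, true, false, true, false, false, false]),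
   ([1, 0, 3, 2, 7, 6, 5, 4], [true, true, true, true, false, false, false, false]),
   ([4, 2, 1, 5, 0, 3, 7, 6], [true, true, true, false, true, false, false, false]),
   ([3, 2, 1, 0, 6, 7, 4, 5], [true, true, true, true, false, false, false, false]),
   ([3, 4, 5, 0, 1, 2, 7, 6], [true, true, false, true, true, false, false, false]),
   ([2, 5, 0, 4, 3, 1, 7, 6], [true, true, true, false, false, true, false, false]),
   ([2, 4, 0, 6, 1, 7, 3, 5], [true, true, true, false, true, false, false, false]),
   ([2, 3, 0, 1, 7, 6, 5, 4], [true, true, true, true, false, false, false, false]),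
   ([2, 5, 0, 4, 3, 1, 7, 6], [true, false, true, true, true, false, false, false]),
   ([1, 0, 4, 5, 2, 3, 7, 6], [true, true, false, true, false, true, false, false]),
   ([1, 0, 6, 4, 3, 7, 2, 5], [true, true, false, true, true, false, false, false]),
   ([1, 0, 6, 4, 3, 7, 2, 5], [true, true, true, false, false, false, true, false]),
   ([1, 0, 5, 6, 7, 2, 3, 4], [true, true, true, false, false, true, false, false]),
   ([1, 0, 4, 7, 2, 6, 5, 3], [true, true, true, false, true, false, false, false]),
   ([4, 3, 5, 1, 0, 2, 7, 6], [true, true, false, true, true, false, false, false]),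
   ([5, 2, 1, 4, 3, 0, 7, 6], [true, true, true, false, false, true, false, false]),
   ([4, 2, 1, 6, 0, 7, 3, 5], [true, true, true, false, true, false, false, false]),
   ([3, 2, 1, 0, 7, 6, 5, 4], [true, true, true, true, false, false, false, false]),
   ([3, 5, 4, 0, 2, 1, 7, 6], [true, false, true, true, true, false, false, false]),
   ([3, 5, 4, 0, 2, 1, 7, 6], [true, true, false, true, false, true, false, false]),
   ([3, 4, 6, 0, 1, 7, 2, 5], [true, true, false, true, true, false, false, false]),
   ([2, 6, 0, 4, 3, 7, 1, 5], [true, true, true, false, false, false, true, false]),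
   ([2, 5, 0, 6, 7, 1, 3, 4], [true, true, true, false, false, true, false, false]),
   ([2, 4, 0, 7, 1, 6, 5, 3], [true, true, true, false, true, false, false, false]),
   ([5, 2, 1, 4, 3, 0, 7, 6], [true, false, false, false, false, true, true, true]),
   ([2, 4, 0, 5, 1, 3, 7, 6], [true, false, true, true, false, true, false, false]),
   ([2, 6, 0, 4, 3, 7, 1, 5], [true, false, true, true, true, false, false, false]),
   ([1, 0, 3, 2, 5, 4, 7, 6], [true, true, false, false, true, true, false, false]),
   ([1, 0, 4, 6, 2, 7, 3, 5], [true, true, false, true, false, false, true, false]),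
   ([1, 0, 6, 5, 7, 3, 2, 4], [true, true, false, true, false, true, false, false]),
   ([1, 0, 7, 4, 3, 6, 5, 2], [true, true, false, true, true, false, false, false]),
   ([1, 0, 6, 5, 7, 3, 2, 4], [true, true, true, false, false, false, true, false]),
   ([1, 0, 7, 4, 3, 6, 5, 2], [true, true, true, false, false, false, false, true]),
   ([1, 0, 5, 7, 6, 2, 4, 3], [true, true, true, false, false, true, false, false]),
   ([4, 5, 3, 2, 0, 1, 7, 6], [true, false, true, true, true, false, false, false]),
   ([5, 3, 4, 1, 2, 0, 7, 6], [true, true, false, true, false, true, false, false]),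
   ([4, 3, 6, 1, 0, 7, 2, 5], [true, true, false, true, true, false, false, false]),
   ([6, 2, 1, 4, 3, 7, 0, 5], [true, true, true, false, false, false, true, false]),
   ([5, 2, 1, 6, 7, 0, 3, 4], [true, true, true, false, false, true, false, false]),
   ([4, 2, 1, 7, 0, 6, 5, 3], [true, true, true, false, true, false, false, false]),
   ([5, 3, 4, 1, 2, 0, 7, 6], [true, false, false, false, false, true, true, true]),
   ([3, 4, 5, 0, 1, 2, 7, 6], [true, false, true, true, false, true, false, false]),
   ([3, 6, 4, 0, 2, 7, 1, 5], [true, false, true, true, true, false, false, false]),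
   ([4, 5, 3, 2, 0, 1, 7, 6], [true, true, false, false, true, true, false, false]),
   ([3, 6, 4, 0, 2, 7, 1, 5], [true, true, false, true, false, false, true, false]),
   ([3, 5, 6, 0, 7, 1, 2, 4], [true, true, false, true, false, true, false, false]),
   ([3, 4, 7, 0, 1, 6, 5, 2], [true, true, false, true, true, false, false, false]),
   ([2, 6, 0, 5, 7, 3, 1, 4], [true, true, true, false, false, false, true, false]),
   ([2, 7, 0, 4, 3, 6, 5, 1], [true, true, true, false, false, false, false, true]),
   ([2, 5, 0, 7, 6, 1, 4, 3], [true, true, true, false, false, true, false, false]),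
   ([4, 2, 1, 5, 0, 3, 7, 6], [true, false, false, false, true, false, true, true]),
   ([6, 2, 1, 4, 3, 7, 0, 5], [true, false, false, false, false, true, true, true]),
   ([2, 3, 0, 1, 5, 4, 7, 6], [true, false, true, false, true, true, false, false]),
   ([2, 4, 0, 6, 1, 7, 3, 5], [true, false, true, true, false, false, true, false]),
   ([2, 6, 0, 5, 7, 3, 1, 4], [true, false, true, true, false, true, false, false]),
   ([2, 7, 0, 4, 3, 6, 5, 1], [true, false, true, true, true, false, false, false]),
   ([1, 0, 3, 2, 6, 7, 4, 5], [true, true, false, false, true, false, true, false]),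
   ([1, 0, 5, 6, 7, 2, 3, 4], [true, true, false, true, false, false, true, false]),
   ([1, 0, 4, 7, 2, 6, 5, 3], [true, true, false, true, false, false, false, true]),
   ([1, 0, 6, 7, 5, 4, 2, 3], [true, true, false, false, true, true, false, false]),
   ([1, 0, 7, 5, 6, 3, 4, 2], [true, true, false, true, false, true, false, false]),
   ([1, 0, 6, 7, 5, 4, 2, 3], [true, true, true, false, false, false, true, false]),
   ([1, 0, 7, 5, 6, 3, 4, 2], [true, true, true, false, false, false, false, true]),
   ([5, 4, 3, 2, 1, 0, 7, 6], [true, false, false, false, false, true, true, true]),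
   ([5, 4, 3, 2, 1, 0, 7, 6], [true, false, true, true, false, true, false, false]),
   ([4, 6, 3, 2, 0, 7, 1, 5], [true, false, true, true, true, false, false, false]),
   ([5, 4, 3, 2, 1, 0, 7, 6], [true, true, false, false, true, true, false, false]),
   ([6, 3, 4, 1, 2, 7, 0, 5], [true, true, false, true, false, false, true, false]),
   ([5, 3, 6, 1, 7, 0, 2, 4], [true, true, false, true, false, true, false, false]),
   ([4, 3, 7, 1, 0, 6, 5, 2], [true, true, false, true, true, false, false, false]),
   ([6, 2, 1, 5, 7, 3, 0, 4], [true, true, true, false, false, false, true, false]),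
   ([7, 2, 1, 4, 3, 6, 5, 0], [true, true, true, false, false, false, false, true]),
   ([5, 2, 1, 7, 6, 0, 4, 3], [true, true, true, false, false, true, false, false]),
   ([4, 3, 5, 1, 0, 2, 7, 6], [true, false, false, false, true, false, true, true]),
   ([6, 3, 4, 1, 2, 7, 0, 5], [true, false, false, false, false, true, true, true]),
   ([4, 3, 5, 1, 0, 2, 7, 6], [true, false, true, false, true, true, false, false]),
   ([3, 4, 6, 0, 1, 7, 2, 5], [true, false, true, true, false, false, true, false]),
   ([3, 6, 5, 0, 7, 2, 1, 4], [true, false, true, true, false, true, false, false]),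
   ([3, 7, 4, 0, 2, 6, 5, 1], [true, false, true, true, true, false, false, false]),
   ([4, 6, 3, 2, 0, 7, 1, 5], [true, true, false, false, true, false, true, false]),
   ([3, 6, 5, 0, 7, 2, 1, 4], [true, true, false, true, false, false, true, false]),
   ([3, 7, 4, 0, 2, 6, 5, 1], [true, true, false, true, false, false, false, true]),
   ([4, 5, 6, 7, 0, 1, 2, 3], [true, true, false, false, true, true, false, false]),
   ([3, 5, 7, 0, 6, 1, 4, 2], [true, true, false, true, false, true, false, false]),
   ([2, 6, 0, 7, 5, 4, 1, 3], [true, true, true, false, false, false, true, false]),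
   ([2, 7, 0, 5, 6, 3, 4, 1], [true, true, true, false, false, false, false, true]),
   ([3, 2, 1, 0, 5, 4, 7, 6], [true, false, false, true, false, false, true, true]),
   ([4, 2, 1, 6, 0, 7, 3, 5], [true, false, false, false, true, true, false, true]),
   ([6, 2, 1, 5, 7, 3, 0, 4], [true, false, false, false, true, false, true, true]),
   ([7, 2, 1, 4, 3, 6, 5, 0], [true, false, false, false, false, true, true, true]),
   ([3, 2, 1, 0, 5, 4, 7, 6], [true, false, false, true, true, true, false, false]),
   ([2, 3, 0, 1, 6, 7, 4, 5], [true, false, true, false, true, false, true, false]),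
   ([2, 5, 0, 6, 7, 1, 3, 4], [true, false, true, true, false, false, true, false]),
   ([2, 4, 0, 7, 1, 6, 5, 3], [true, false, true, true, false, false, false, true]),
   ([2, 6, 0, 7, 5, 4, 1, 3], [true, false, true, false, true, true, false, false]),
   ([2, 7, 0, 5, 6, 3, 4, 1], [true, false, true, true, false, true, false, false]),
   ([1, 0, 3, 2, 7, 6, 5, 4], [true, true, false, false, false, true, true, false]),
   ([1, 0, 3, 2, 7, 6, 5, 4], [true, true, false, false, true, false, false, true]),
   ([1, 0, 5, 7, 6, 2, 4, 3], [true, true, false, false, true, false, true, false]),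
   ([1, 0, 5, 7, 6, 2, 4, 3], [true, true, false, true, false, false, false, true]),
   ([1, 0, 7, 6, 5, 4, 3, 2], [true, true, false, false, true, true, false, false]),
   ([1, 0, 7, 6, 5, 4, 3, 2], [true, true, false, true, false, false, true, false]),
   ([1, 0, 7, 6, 5, 4, 3, 2], [true, true, true, false, false, false, false, true]),
   ([4, 5, 3, 2, 0, 1, 7, 6], [true, false, false, false, true, false, true, true]),
   ([6, 4, 3, 2, 1, 7, 0, 5], [true, false, false, false, false, true, true, true]),
   ([5, 3, 4, 1, 2, 0, 7, 6], [true, false, true, false, true, true, false, false]),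
   ([6, 4, 3, 2, 1, 7, 0, 5], [true, false, true, true, false, false, true, false]),
   ([5, 6, 3, 2, 7, 0, 1, 4], [true, false, true, true, false, true, false, false]),
   ([4, 7, 3, 2, 0, 6, 5, 1], [true, false, true, true, true, false, false, false]),
   ([6, 4, 3, 2, 1, 7, 0, 5], [true, true, false, false, true, false, true, false]),
   ([6, 3, 5, 1, 7, 2, 0, 4], [true, true, false, true, false, false, true, false]),
   ([7, 3, 4, 1, 2, 6, 5, 0], [true, true, false, true, false, false, false, true]),
   ([5, 4, 6, 7, 1, 0, 2, 3], [true, true, false, false, true, true, false, false]),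
   ([5, 3, 7, 1, 6, 0, 4, 2], [true, true, false, true, false, true, false, false]),
   ([6, 2, 1, 7, 5, 4, 0, 3], [true, true, true, false, false, false, true, false]),
   ([7, 2, 1, 5, 6, 3, 4, 0], [true, true, true, false, false, false, false, true]),
   ([3, 4, 5, 0, 1, 2, 7, 6], [true, false, false, true, false, false, true, true]),
   ([4, 3, 6, 1, 0, 7, 2, 5], [true, false, false, false, true, true, false, true]),
   ([6, 3, 5, 1, 7, 2, 0, 4], [true, false, false, false, true, false, true, true]),
   ([7, 3, 4, 1, 2, 6, 5, 0], [true, false, false, false, false, true, true, true]),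
   ([4, 2, 1, 5, 0, 3, 7, 6], [true, false, false, true, true, true, false, false]),
   ([4, 3, 6, 1, 0, 7, 2, 5], [true, false, true, false, true, false, true, false]),
   ([3, 5, 6, 0, 7, 1, 2, 4], [true, false, true, true, false, false, true, false]),
   ([3, 4, 7, 0, 1, 6, 5, 2], [true, false, true, true, false, false, false, true]),
   ([4, 6, 5, 7, 0, 2, 1, 3], [true, false, true, false, true, true, false, false]),
   ([3, 7, 5, 0, 6, 2, 4, 1], [true, false, true, true, false, true, false, false]),
   ([5, 6, 3, 2, 7, 0, 1, 4], [true, true, false, false, false, true, true, false]),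
   ([4, 7, 3, 2, 0, 6, 5, 1], [true, true, false, false, true, false, false, true]),
   ([4, 6, 5, 7, 0, 2, 1, 3], [true, true, false, false, true, false, true, false]),
   ([3, 7, 5, 0, 6, 2, 4, 1], [true, true, false, true, false, false, false, true]),
   ([4, 5, 7, 6, 0, 1, 3, 2], [true, true, false, false, true, true, false, false]),
   ([3, 6, 7, 0, 5, 4, 1, 2], [true, true, false, true, false, false, true, false]),
   ([2, 7, 0, 6, 5, 4, 3, 1], [true, true, true, false, false, false, false, true]),
   ([2, 3, 0, 1, 5, 4, 7, 6], [true, false, true, false, false, false, true, true]),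
   ([3, 2, 1, 0, 6, 7, 4, 5], [true, false, false, true, false, true, false, true]),
   ([5, 2, 1, 6, 7, 0, 3, 4], [true, false, false, false, true, true, false, true]),
   ([4, 2, 1, 7, 0, 6, 5, 3], [true, false, false, false, true, true, true, false]),
   ([6, 2, 1, 7, 5, 4, 0, 3], [true, false, false, true, false, false, true, true]),
   ([7, 2, 1, 5, 6, 3, 4, 0], [true, false, false, false, true, false, true, true]),
   ([3, 2, 1, 0, 6, 7, 4, 5], [true, false, false, true, true, false, true, false]),
   ([2, 3, 0, 1, 7, 6, 5, 4], [true, false, true, false, false, true, true, false]),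
   ([2, 3, 0, 1, 7, 6, 5, 4], [true, false, true, false, true, false, false, true]),
   ([2, 5, 0, 7, 6, 1, 4, 3], [true, false, true, false, true, false, true, false]),
   ([2, 5, 0, 7, 6, 1, 4, 3], [true, false, true, true, false, false, false, true]),
   ([3, 6, 7, 0, 5, 4, 1, 2], [true, false, false, true, true, true, false, false]),
   ([2, 7, 0, 6, 5, 4, 3, 1], [true, false, true, false, true, true, false, false]),
   ([2, 7, 0, 6, 5, 4, 3, 1], [true, false, true, true, false, false, true, false]),
   ([1, 0, 4, 7, 2, 6, 5, 3], [true, true, false, false, false, true, true, false]),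
   ([1, 0, 3, 2, 6, 7, 4, 5], [true, true, false, false, false, true, false, true]),
   ([1, 0, 7, 5, 6, 3, 4, 2], [true, true, false, false, true, false, true, false]),
   ([1, 0, 5, 6, 7, 2, 3, 4], [true, true, false, false, true, false, false, true]),
   ([1, 0, 6, 7, 5, 4, 2, 3], [true, true, false, true, false, false, false, true]),
   ([3, 5, 4, 0, 2, 1, 7, 6], [true, false, false, true, false, false, true, true]),
   ([4, 6, 3, 2, 0, 7, 1, 5], [true, false, false, false, true, true, false, true]),
   ([6, 5, 3, 2, 7, 1, 0, 4], [true, false, false, false, true, false, true, true]),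
   ([7, 4, 3, 2, 1, 6, 5, 0], [true, false, false, false, false, true, true, true]),
   ([5, 2, 1, 4, 3, 0, 7, 6], [true, false, false, true, true, true, false, false]),
   ([6, 3, 4, 1, 2, 7, 0, 5], [true, false, true, false, true, false, true, false]),
   ([6, 5, 3, 2, 7, 1, 0, 4], [true, false, true, true, false, false, true, false]),
   ([7, 4, 3, 2, 1, 6, 5, 0], [true, false, true, true, false, false, false, true]),
   ([5, 6, 4, 7, 2, 0, 1, 3], [true, false, true, false, true, true, false, false]),
   ([5, 7, 3, 2, 6, 0, 4, 1], [true, false, true, true, false, true, false, false]),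
   ([6, 5, 3, 2, 7, 1, 0, 4], [true, true, false, false, false, true, true, false]),
   ([7, 4, 3, 2, 1, 6, 5, 0], [true, true, false, false, true, false, false, true]),
   ([6, 4, 5, 7, 1, 2, 0, 3], [true, true, false, false, true, false, true, false]),
   ([7, 3, 5, 1, 6, 2, 4, 0], [true, true, false, true, false, false, false, true]),
   ([5, 4, 7, 6, 1, 0, 3, 2], [true, true, false, false, true, true, false, false]),
   ([6, 3, 7, 1, 5, 4, 0, 2], [true, true, false, true, false, false, true, false]),
   ([7, 2, 1, 6, 5, 4, 3, 0], [true, true, true, false, false, false, false, true]),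
   ([2, 4, 0, 5, 1, 3, 7, 6], [true, false, true, false, false, false, true, true]),
   ([3, 4, 6, 0, 1, 7, 2, 5], [true, false, false, true, false, true, false, true]),
   ([5, 3, 6, 1, 7, 0, 2, 4], [true, false, false, false, true, true, false, true]),
   ([4, 3, 7, 1, 0, 6, 5, 2], [true, false, false, false, true, true, true, false]),
   ([6, 4, 5, 7, 1, 2, 0, 3], [true, false, false, true, false, false, true, true]),
   ([7, 3, 5, 1, 6, 2, 4, 0], [true, false, false, false, true, false, true, true]),
   ([4, 2, 1, 6, 0, 7, 3, 5], [true, false, false, true, true, false, true, false]),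
   ([5, 3, 6, 1, 7, 0, 2, 4], [true, false, true, false, false, true, true, false]),
   ([4, 3, 7, 1, 0, 6, 5, 2], [true, false, true, false, true, false, false, true]),
   ([4, 5, 6, 7, 0, 1, 2, 3], [true, false, true, false, true, false, true, false]),
   ([3, 5, 7, 0, 6, 1, 4, 2], [true, false, true, true, false, false, false, true]),
   ([4, 6, 7, 5, 0, 3, 1, 2], [true, false, false, true, true, true, false, false]),
   ([4, 7, 5, 6, 0, 2, 3, 1], [true, false, true, false, true, true, false, false]),
   ([3, 7, 6, 0, 5, 4, 2, 1], [true, false, true, true, false, false, true, false]),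
   ([5, 6, 4, 7, 2, 0, 1, 3], [true, true, false, false, false, true, true, false]),
   ([5, 7, 3, 2, 6, 0, 4, 1], [true, true, false, false, false, true, false, true]),
   ([4, 6, 7, 5, 0, 3, 1, 2], [true, true, false, false, true, false, true, false]),
   ([4, 7, 5, 6, 0, 2, 3, 1], [true, true, false, false, true, false, false, true]),
   ([3, 7, 6, 0, 5, 4, 2, 1], [true, true, false, true, false, false, false, true]),
   ([1, 0, 3, 2, 5, 4, 7, 6], [true, true, false, false, false, false, true, true]),
   ([2, 3, 0, 1, 6, 7, 4, 5], [true, false, true, false, false, true, false, true]),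
   ([3, 2, 1, 0, 7, 6, 5, 4], [true, false, false, true, true, false, false, true]),
   ([3, 2, 1, 0, 7, 6, 5, 4], [true, false, false, true, false, true, true, false]),
   ([5, 2, 1, 7, 6, 0, 4, 3], [true, false, false, true, false, true, false, true]),
   ([5, 2, 1, 7, 6, 0, 4, 3], [true, false, false, false, true, true, true, false]),
   ([6, 3, 7, 1, 5, 4, 0, 2], [true, false, true, false, false, false, true, true]),
   ([7, 2, 1, 6, 5, 4, 3, 0], [true, false, false, true, false, false, true, true]),
   ([7, 2, 1, 6, 5, 4, 3, 0], [true, false, false, false, true, true, false, true]),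
   ([2, 4, 0, 7, 1, 6, 5, 3], [true, false, true, false, false, true, true, false]),
   ([3, 5, 7, 0, 6, 1, 4, 2], [true, false, false, true, true, false, true, false]),
   ([2, 5, 0, 6, 7, 1, 3, 4], [true, false, true, false, true, false, false, true]),
   ([2, 6, 0, 7, 5, 4, 1, 3], [true, false, true, true, false, false, false, true]),
   ([3, 7, 6, 0, 5, 4, 2, 1], [true, false, false, true, true, true, false, false]),
   ([2, 7, 0, 5, 6, 3, 4, 1], [true, false, true, false, true, false, true, false]),
   ([1, 0, 7, 4, 3, 6, 5, 2], [true, true, false, false, false, true, true, false]),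
   ([1, 0, 4, 6, 2, 7, 3, 5], [true, true, false, false, false, true, false, true]),
   ([1, 0, 6, 5, 7, 3, 2, 4], [true, true, false, false, true, false, false, true]),
   ([2, 5, 0, 4, 3, 1, 7, 6], [true, false, true, false, false, false, true, true]),
   ([3, 6, 4, 0, 2, 7, 1, 5], [true, false, false, true, false, true, false, true]),
   ([5, 6, 3, 2, 7, 0, 1, 4], [true, false, false, false, true, true, false, true]),
   ([4, 7, 3, 2, 0, 6, 5, 1], [true, false, false, false, true, true, true, false]),
   ([6, 5, 4, 7, 2, 1, 0, 3], [true, false, false, true, false, false, true, true]),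
   ([7, 5, 3, 2, 6, 1, 4, 0], [true, false, false, false, true, false, true, true]),
   ([6, 2, 1, 4, 3, 7, 0, 5], [true, false, false, true, true, false, true, false]),
   ([6, 3, 5, 1, 7, 2, 0, 4], [true, false, true, false, false, true, true, false]),
   ([7, 3, 4, 1, 2, 6, 5, 0], [true, false, true, false, true, false, false, true]),
   ([6, 5, 4, 7, 2, 1, 0, 3], [true, false, true, false, true, false, true, false]),
   ([7, 5, 3, 2, 6, 1, 4, 0], [true, false, true, true, false, false, false, true]),
   ([5, 6, 7, 4, 3, 0, 1, 2], [true, false, false, true, true, true, false, false]),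
   ([5, 7, 4, 6, 2, 0, 3, 1], [true, false, true, false, true, true, false, false]),
   ([6, 7, 3, 2, 5, 4, 0, 1], [true, false, true, true, false, false, true, false]),
   ([6, 5, 4, 7, 2, 1, 0, 3], [true, true, false, false, false, true, true, false]),
   ([7, 5, 3, 2, 6, 1, 4, 0], [true, true, false, false, false, true, false, true]),
   ([6, 4, 7, 5, 1, 3, 0, 2], [true, true, false, false, true, false, true, false]),
   ([7, 4, 5, 6, 1, 2, 3, 0], [true, true, false, false, true, false, false, true]),
   ([7, 3, 6, 1, 5, 4, 2, 0], [true, true, false, true, false, false, false, true]),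
   ([1, 0, 4, 5, 2, 3, 7, 6], [true, true, false, false, false, false, true, true]),
   ([2, 4, 0, 6, 1, 7, 3, 5], [true, false, true, false, false, true, false, true]),
   ([3, 5, 6, 0, 7, 1, 2, 4], [true, false, false, true, true, false, false, true]),
   ([3, 4, 7, 0, 1, 6, 5, 2], [true, false, false, true, false, true, true, false]),
   ([5, 4, 6, 7, 1, 0, 2, 3], [true, false, false, true, false, true, false, true]),
   ([5, 3, 7, 1, 6, 0, 4, 2], [true, false, false, false, true, true, true, false]),
   ([6, 4, 7, 5, 1, 3, 0, 2], [true, false, true, false, false, false, true, true]),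
   ([7, 4, 5, 6, 1, 2, 3, 0], [true, false, false, true, false, false, true, true]),
   ([7, 3, 6, 1, 5, 4, 2, 0], [true, false, false, false, true, true, false, true]),
   ([5, 2, 1, 6, 7, 0, 3, 4], [true, false, false, true, false, true, true, false]),
   ([4, 2, 1, 7, 0, 6, 5, 3], [true, false, false, true, true, false, false, true]),
   ([5, 4, 6, 7, 1, 0, 2, 3], [true, false, true, false, false, true, true, false]),
   ([5, 3, 7, 1, 6, 0, 4, 2], [true, false, true, false, false, true, false, true]),
   ([4, 5, 7, 6, 0, 1, 3, 2], [true, false, false, true, true, false, true, false]),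
   ([4, 5, 7, 6, 0, 1, 3, 2], [true, false, true, false, true, false, false, true]),
   ([3, 6, 7, 0, 5, 4, 1, 2], [true, false, true, true, false, false, false, true]),
   ([4, 7, 6, 5, 0, 3, 2, 1], [true, false, false, true, true, true, false, false]),
   ([4, 7, 6, 5, 0, 3, 2, 1], [true, false, true, false, true, false, true, false]),
   ([5, 6, 7, 4, 3, 0, 1, 2], [true, true, false, false, false, true, true, false]),
   ([5, 7, 4, 6, 2, 0, 3, 1], [true, true, false, false, false, true, false, true]),
   ([6, 7, 3, 2, 5, 4, 0, 1], [true, true, false, false, false, false, true, true]),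
   ([4, 7, 6, 5, 0, 3, 2, 1], [true, true, false, false, true, false, false, true]),
   ([6, 2, 1, 7, 5, 4, 0, 3], [true, false, false, false, true, true, true, false]),
   ([7, 3, 6, 1, 5, 4, 2, 0], [true, false, true, false, false, false, true, true]),
   ([7, 2, 1, 5, 6, 3, 4, 0], [true, false, false, true, false, true, false, true]),
   ([3, 7, 5, 0, 6, 2, 4, 1], [true, false, false, true, true, false, true, false]),
   ([2, 6, 0, 5, 7, 3, 1, 4], [true, false, true, false, true, false, false, true]),
   ([2, 7, 0, 4, 3, 6, 5, 1], [true, false, true, false, false, true, true, false]),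
   ([1, 0, 6, 4, 3, 7, 2, 5], [true, true, false, false, false, true, false, true]),
   ([1, 0, 5, 4, 3, 2, 7, 6], [true, true, false, false, false, false, true, true]),
   ([2, 6, 0, 4, 3, 7, 1, 5], [true, false, true, false, false, true, false, true]),
   ([3, 6, 5, 0, 7, 2, 1, 4], [true, false, false, true, true, false, false, true]),
   ([3, 7, 4, 0, 2, 6, 5, 1], [true, false, false, true, false, true, true, false]),
   ([5, 6, 4, 7, 2, 0, 1, 3], [true, false, false, true, false, true, false, true]),
   ([5, 7, 3, 2, 6, 0, 4, 1], [true, false, false, false, true, true, true, false]),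
   ([6, 5, 7, 4, 3, 1, 0, 2], [true, false, true, false, false, false, true, true]),
   ([7, 5, 4, 6, 2, 1, 3, 0], [true, false, false, true, false, false, true, true]),
   ([7, 6, 3, 2, 5, 4, 1, 0], [true, false, false, false, true, true, false, true]),
   ([6, 2, 1, 5, 7, 3, 0, 4], [true, false, false, true, false, true, true, false]),
   ([7, 2, 1, 4, 3, 6, 5, 0], [true, false, false, true, true, false, false, true]),
   ([6, 4, 5, 7, 1, 2, 0, 3], [true, false, true, false, false, true, true, false]),
   ([7, 3, 5, 1, 6, 2, 4, 0], [true, false, true, false, false, true, false, true]),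
   ([6, 5, 7, 4, 3, 1, 0, 2], [true, false, false, true, true, false, true, false]),
   ([7, 5, 4, 6, 2, 1, 3, 0], [true, false, true, false, true, false, false, true]),
   ([7, 6, 3, 2, 5, 4, 1, 0], [true, false, true, true, false, false, false, true]),
   ([5, 7, 6, 4, 3, 0, 2, 1], [true, false, false, true, true, true, false, false]),
   ([6, 7, 4, 5, 2, 3, 0, 1], [true, false, true, false, true, false, true, false]),
   ([6, 5, 7, 4, 3, 1, 0, 2], [true, true, false, false, false, true, true, false]),
   ([7, 5, 4, 6, 2, 1, 3, 0], [true, true, false, false, false, true, false, true]),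
   ([7, 6, 3, 2, 5, 4, 1, 0], [true, true, false, false, false, false, true, true]),
   ([7, 4, 6, 5, 1, 3, 2, 0], [true, true, false, false, true, false, false, true]),
   ([4, 5, 6, 7, 0, 1, 2, 3], [true, false, false, true, true, false, false, true]),
   ([5, 4, 7, 6, 1, 0, 3, 2], [true, false, true, false, false, true, false, true]),
   ([5, 4, 7, 6, 1, 0, 3, 2], [true, false, false, true, false, true, true, false]),
   ([6, 3, 7, 1, 5, 4, 0, 2], [true, false, false, false, true, true, true, false]),
   ([6, 7, 4, 5, 2, 3, 0, 1], [true, true, false, false, false, false, true, true]),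
   ([7, 4, 6, 5, 1, 3, 2, 0], [true, false, true, false, false, false, true, true]),
   ([7, 4, 6, 5, 1, 3, 2, 0], [true, false, false, true, false, true, false, true]),
   ([4, 7, 5, 6, 0, 2, 3, 1], [true, false, false, true, true, false, true, false]),
   ([4, 6, 7, 5, 0, 3, 1, 2], [true, false, true, false, true, false, false, true]),
   ([5, 7, 6, 4, 3, 0, 2, 1], [true, false, true, false, false, true, true, false]),
   ([5, 7, 6, 4, 3, 0, 2, 1], [true, true, false, false, false, true, false, true]),
   ([4, 6, 5, 7, 0, 2, 1, 3], [true, false, false, true, true, false, false, true]),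
   ([5, 6, 7, 4, 3, 0, 1, 2], [true, false, true, false, false, true, false, true]),
   ([5, 7, 4, 6, 2, 0, 3, 1], [true, false, false, true, false, true, true, false]),
   ([6, 7, 3, 2, 5, 4, 0, 1], [true, false, false, false, true, true, true, false]),
   ([6, 7, 5, 4, 3, 2, 0, 1], [true, true, false, false, false, false, true, true]),
   ([7, 5, 6, 4, 3, 1, 2, 0], [true, false, true, false, false, false, true, true]),
   ([7, 6, 4, 5, 2, 3, 1, 0], [true, false, false, true, false, true, false, true]),
   ([6, 4, 7, 5, 1, 3, 0, 2], [true, false, false, true, false, true, true, false]),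
   ([7, 4, 5, 6, 1, 2, 3, 0], [true, false, true, false, false, true, false, true]),
   ([6, 7, 5, 4, 3, 2, 0, 1], [true, false, false, true, true, false, true, false]),
   ([7, 5, 6, 4, 3, 1, 2, 0], [true, false, false, true, true, false, false, true]),
   ([7, 6, 4, 5, 2, 3, 1, 0], [true, false, true, false, true, false, false, true]),
   ([6, 7, 5, 4, 3, 2, 0, 1], [true, false, true, false, false, true, true, false]),
   ([7, 5, 6, 4, 3, 1, 2, 0], [true, true, false, false, false, true, false, true]),
   ([7, 6, 4, 5, 2, 3, 1, 0], [true, true, false, false, false, false, true, true]),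
   ([6, 7, 4, 5, 2, 3, 0, 1], [true, false, false, true, false, true, true, false]),
   ([7, 6, 5, 4, 3, 2, 1, 0], [true, true, false, false, false, false, true, true]),
   ([7, 6, 5, 4, 3, 2, 1, 0], [true, false, true, false, false, true, false, true]),
   ([7, 6, 5, 4, 3, 2, 1, 0], [true, false, false, true, true, false, false, true])]

/-- Neighbour indices. -/
def table : List (List Nat) :=
  [[0, 1, 0, 2, 0, 3, 0],
   [4, 0, 4, 5, 1, 6, 1],
   [2, 5, 7, 0, 8, 9, 2],
   [3, 6, 3, 9, 10, 0, 10],
   [1, 4, 1, 11, 4, 12, 4],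
   [11, 2, 13, 1, 14, 15, 5],
   [12, 3, 12, 15, 16, 1, 16],
   [7, 17, 2, 7, 18, 19, 7],
   [8, 14, 18, 8, 2, 20, 8],
   [9, 15, 19, 3, 21, 2, 22],
   [10, 16, 10, 22, 3, 10, 3],
   [5, 11, 23, 4, 24, 25, 11],
   [6, 12, 6, 25, 26, 4, 26],
   [23, 27, 5, 23, 28, 29, 13],
   [24, 8, 28, 14, 5, 30, 14],
   [25, 9, 29, 6, 31, 5, 32],
   [26, 10, 26, 32, 6, 16, 6],
   [33, 7, 27, 17, 34, 35, 17],
   [18, 34, 8, 36, 7, 37, 18],
   [19, 35, 9, 19, 38, 7, 39],
   [20, 30, 37, 20, 40, 8, 41],
   [21, 31, 38, 42, 9, 40, 42],
   [22, 32, 39, 10, 42, 22, 9],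
   [13, 43, 11, 13, 44, 45, 23],
   [14, 24, 44, 24, 11, 46, 24],
   [15, 25, 45, 12, 47, 11, 48],
   [16, 26, 16, 48, 12, 26, 12],
   [49, 13, 17, 43, 50, 51, 27],
   [44, 50, 14, 52, 13, 53, 28],
   [45, 51, 15, 45, 54, 13, 55],
   [46, 20, 53, 30, 56, 14, 57],
   [47, 21, 54, 58, 15, 56, 58],
   [48, 22, 55, 16, 58, 32, 15],
   [17, 33, 49, 33, 59, 60, 33],
   [59, 18, 50, 61, 17, 62, 34],
   [60, 19, 51, 35, 63, 17, 64],
   [36, 61, 36, 18, 36, 65, 36],
   [37, 62, 20, 65, 66, 18, 67],
   [38, 63, 21, 68, 19, 66, 69],
   [39, 64, 22, 39, 69, 39, 19],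
   [40, 56, 66, 70, 20, 21, 71],
   [41, 57, 67, 41, 71, 41, 20],
   [42, 58, 69, 21, 22, 70, 21],
   [72, 23, 43, 27, 73, 74, 43],
   [28, 73, 24, 75, 23, 76, 44],
   [29, 74, 25, 29, 77, 23, 78],
   [30, 46, 76, 46, 79, 24, 80],
   [31, 47, 77, 81, 25, 79, 81],
   [32, 48, 78, 26, 81, 48, 25],
   [27, 72, 33, 72, 82, 83, 49],
   [82, 28, 34, 84, 27, 85, 50],
   [83, 29, 35, 74, 86, 27, 87],
   [75, 84, 52, 28, 75, 88, 52],
   [76, 85, 30, 88, 89, 28, 90],
   [77, 86, 31, 91, 29, 89, 92],
   [78, 87, 32, 78, 92, 55, 29],
   [79, 40, 89, 93, 30, 31, 94],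
   [80, 41, 90, 57, 94, 57, 30],
   [81, 42, 92, 31, 32, 93, 31],
   [34, 59, 82, 95, 33, 96, 59],
   [35, 60, 83, 60, 97, 33, 98],
   [95, 36, 99, 34, 61, 100, 61],
   [96, 37, 85, 100, 101, 34, 102],
   [97, 38, 86, 103, 35, 101, 104],
   [98, 39, 87, 64, 104, 64, 35],
   [65, 100, 65, 37, 105, 36, 106],
   [66, 101, 40, 107, 37, 38, 108],
   [67, 102, 41, 106, 108, 67, 37],
   [68, 103, 109, 38, 68, 107, 109],
   [69, 104, 42, 109, 39, 110, 38],
   [70, 93, 110, 40, 70, 42, 111],
   [71, 94, 108, 111, 41, 111, 40],
   [43, 49, 72, 49, 112, 113, 72],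
   [112, 44, 73, 114, 43, 115, 73],
   [113, 45, 74, 51, 116, 43, 117],
   [52, 114, 75, 44, 52, 118, 75],
   [53, 115, 46, 118, 119, 44, 120],
   [54, 116, 47, 121, 45, 119, 122],
   [55, 117, 48, 55, 122, 78, 45],
   [56, 79, 119, 123, 46, 47, 124],
   [57, 80, 120, 80, 124, 80, 46],
   [58, 81, 122, 47, 48, 123, 47],
   [50, 112, 59, 125, 49, 126, 82],
   [51, 113, 60, 113, 127, 49, 128],
   [125, 52, 129, 50, 114, 130, 84],
   [126, 53, 62, 130, 131, 50, 132],
   [127, 54, 63, 133, 51, 131, 134],
   [128, 55, 64, 117, 134, 87, 51],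
   [118, 130, 88, 53, 135, 52, 136],
   [119, 131, 56, 137, 53, 54, 138],
   [120, 132, 57, 136, 138, 90, 53],
   [121, 133, 139, 54, 121, 137, 139],
   [122, 134, 58, 139, 55, 140, 54],
   [123, 70, 140, 56, 93, 58, 141],
   [124, 71, 138, 141, 57, 141, 56],
   [61, 95, 142, 59, 95, 143, 95],
   [62, 96, 126, 143, 144, 59, 145],
   [63, 97, 127, 146, 60, 144, 147],
   [64, 98, 128, 98, 147, 98, 60],
   [142, 99, 61, 129, 99, 148, 99],
   [143, 65, 148, 62, 149, 61, 150],
   [144, 66, 131, 151, 62, 63, 152],
   [145, 67, 132, 150, 152, 102, 62],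
   [146, 68, 153, 63, 103, 151, 154],
   [147, 69, 134, 154, 64, 155, 63],
   [105, 149, 105, 156, 65, 105, 157],
   [106, 150, 106, 67, 157, 106, 65],
   [107, 151, 158, 66, 156, 68, 159],
   [108, 152, 71, 159, 67, 160, 66],
   [109, 154, 68, 69, 109, 158, 68],
   [110, 155, 70, 158, 110, 69, 160],
   [111, 141, 160, 71, 111, 71, 70],
   [73, 82, 112, 161, 72, 162, 112],
   [74, 83, 113, 83, 163, 72, 164],
   [161, 75, 165, 73, 84, 166, 114],
   [162, 76, 115, 166, 167, 73, 168],
   [163, 77, 116, 169, 74, 167, 170],
   [164, 78, 117, 87, 170, 117, 74],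
   [88, 166, 118, 76, 171, 75, 172],
   [89, 167, 79, 173, 76, 77, 174],
   [90, 168, 80, 172, 174, 120, 76],
   [91, 169, 175, 77, 91, 173, 175],
   [92, 170, 81, 175, 78, 176, 77],
   [93, 123, 176, 79, 123, 81, 177],
   [94, 124, 174, 177, 80, 177, 79],
   [84, 161, 178, 82, 161, 179, 125],
   [85, 162, 96, 179, 180, 82, 181],
   [86, 163, 97, 182, 83, 180, 183],
   [87, 164, 98, 164, 183, 128, 83],
   [178, 129, 84, 99, 165, 184, 129],
   [179, 88, 184, 85, 185, 84, 186],
   [180, 89, 101, 187, 85, 86, 188],
   [181, 90, 102, 186, 188, 132, 85],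
   [182, 91, 189, 86, 169, 187, 190],
   [183, 92, 104, 190, 87, 191, 86],
   [171, 185, 135, 192, 88, 171, 193],
   [172, 186, 136, 90, 193, 136, 88],
   [173, 187, 194, 89, 192, 91, 195],
   [174, 188, 94, 195, 90, 196, 89],
   [175, 190, 91, 92, 175, 194, 91],
   [176, 191, 93, 194, 140, 92, 196],
   [177, 111, 196, 94, 141, 94, 93],
   [99, 197, 95, 178, 142, 198, 142],
   [100, 143, 198, 96, 199, 95, 200],
   [101, 144, 180, 201, 96, 97, 202],
   [102, 145, 181, 200, 202, 145, 96],
   [103, 146, 203, 97, 146, 201, 204],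
   [104, 147, 183, 204, 98, 205, 97],
   [198, 148, 100, 184, 200, 99, 199],
   [199, 105, 200, 206, 100, 149, 198],
   [200, 106, 199, 102, 198, 150, 100],
   [201, 107, 207, 101, 206, 103, 208],
   [202, 108, 188, 208, 102, 209, 101],
   [203, 210, 103, 189, 153, 207, 210],
   [204, 109, 210, 104, 154, 211, 103],
   [205, 110, 191, 211, 155, 104, 209],
   [156, 206, 212, 105, 107, 156, 213],
   [157, 198, 157, 213, 106, 197, 105],
   [158, 211, 107, 110, 212, 109, 214],
   [159, 208, 214, 108, 213, 214, 107],
   [160, 209, 111, 214, 160, 108, 110],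
   [114, 125, 215, 112, 125, 216, 161],
   [115, 126, 162, 216, 217, 112, 218],
   [116, 127, 163, 219, 113, 217, 220],
   [117, 128, 164, 128, 220, 164, 113],
   [215, 165, 114, 165, 129, 221, 165],
   [216, 118, 221, 115, 222, 114, 223],
   [217, 119, 167, 224, 115, 116, 225],
   [218, 120, 168, 223, 225, 168, 115],
   [219, 121, 226, 116, 133, 224, 227],
   [220, 122, 170, 227, 117, 228, 116],
   [135, 222, 171, 229, 118, 135, 230],
   [136, 223, 172, 120, 230, 172, 118],
   [137, 224, 231, 119, 229, 121, 232],
   [138, 225, 124, 232, 120, 233, 119],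
   [139, 227, 121, 122, 139, 231, 121],
   [140, 228, 123, 231, 176, 122, 233],
   [141, 177, 233, 124, 177, 124, 123],
   [129, 234, 125, 142, 215, 235, 178],
   [130, 216, 235, 126, 236, 125, 237],
   [131, 217, 144, 238, 126, 127, 239],
   [132, 218, 145, 237, 239, 181, 126],
   [133, 219, 240, 127, 219, 238, 241],
   [134, 220, 147, 241, 128, 242, 127],
   [235, 184, 130, 148, 243, 129, 244],
   [236, 135, 243, 245, 130, 222, 246],
   [237, 136, 244, 132, 246, 186, 130],
   [238, 137, 247, 131, 245, 133, 248],
   [239, 138, 152, 248, 132, 249, 131],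
   [240, 250, 133, 153, 226, 247, 250],
   [241, 139, 250, 134, 227, 251, 133],
   [242, 140, 155, 251, 191, 134, 249],
   [229, 245, 252, 135, 137, 229, 253],
   [230, 246, 193, 253, 136, 254, 135],
   [231, 251, 137, 140, 252, 139, 255],
   [232, 248, 255, 138, 253, 255, 137],
   [233, 249, 141, 255, 196, 138, 140],
   [197, 142, 197, 234, 197, 157, 197],
   [148, 157, 143, 235, 150, 142, 149],
   [149, 199, 150, 244, 143, 199, 148],
   [150, 200, 149, 145, 148, 200, 143],
   [151, 201, 246, 144, 244, 146, 243],
   [152, 202, 239, 243, 145, 256, 144],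
   [153, 254, 146, 240, 203, 246, 257],
   [154, 204, 257, 147, 204, 258, 146],
   [155, 205, 242, 258, 205, 147, 256],
   [244, 156, 237, 149, 151, 206, 235],
   [246, 259, 151, 247, 237, 153, 236],
   [243, 159, 236, 152, 235, 260, 151],
   [256, 160, 249, 260, 209, 152, 155],
   [257, 153, 154, 250, 210, 259, 153],
   [258, 158, 259, 155, 261, 154, 260],
   [212, 261, 156, 212, 158, 212, 262],
   [213, 235, 262, 157, 159, 234, 156],
   [214, 260, 159, 160, 262, 159, 158],
   [165, 263, 161, 215, 178, 264, 215],
   [166, 179, 264, 162, 265, 161, 266],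
   [167, 180, 217, 267, 162, 163, 268],
   [168, 181, 218, 266, 268, 218, 162],
   [169, 182, 269, 163, 182, 267, 270],
   [170, 183, 220, 270, 164, 271, 163],
   [264, 221, 166, 221, 272, 165, 273],
   [265, 171, 272, 274, 166, 185, 275],
   [266, 172, 273, 168, 275, 223, 166],
   [267, 173, 276, 167, 274, 169, 277],
   [268, 174, 225, 277, 168, 278, 167],
   [269, 279, 169, 226, 189, 276, 279],
   [270, 175, 279, 170, 190, 280, 169],
   [271, 176, 228, 280, 228, 170, 278],
   [192, 274, 281, 171, 173, 192, 282],
   [193, 275, 230, 282, 172, 283, 171],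
   [194, 280, 173, 176, 281, 175, 284],
   [195, 277, 284, 174, 282, 284, 173],
   [196, 278, 177, 284, 233, 174, 176],
   [234, 178, 263, 197, 263, 213, 234],
   [184, 213, 179, 198, 208, 178, 206],
   [185, 265, 208, 285, 179, 265, 207],
   [186, 266, 206, 181, 207, 237, 179],
   [187, 267, 286, 180, 285, 182, 287],
   [188, 268, 202, 287, 181, 288, 180],
   [189, 289, 182, 203, 269, 286, 290],
   [190, 270, 290, 183, 270, 291, 182],
   [191, 271, 205, 291, 242, 183, 288],
   [208, 243, 185, 202, 184, 272, 201],
   [206, 244, 186, 199, 201, 244, 184],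
   [285, 192, 287, 185, 187, 274, 286],
   [207, 193, 201, 286, 186, 203, 185],
   [286, 292, 187, 207, 287, 189, 285],
   [287, 195, 285, 188, 286, 293, 187],
   [288, 196, 209, 293, 249, 188, 191],
   [290, 189, 190, 210, 279, 292, 189],
   [291, 194, 292, 191, 294, 190, 293],
   [281, 294, 192, 252, 194, 281, 295],
   [282, 286, 295, 193, 195, 289, 192],
   [283, 203, 254, 289, 254, 193, 283],
   [284, 293, 195, 196, 295, 195, 194],
   [209, 256, 288, 272, 256, 202, 205],
   [210, 283, 204, 290, 257, 275, 203],
   [211, 258, 275, 205, 273, 204, 272],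
   [275, 207, 211, 292, 266, 210, 265],
   [272, 214, 265, 209, 264, 208, 211],
   [273, 212, 266, 261, 211, 261, 264],
   [262, 264, 213, 262, 214, 263, 212],
   [263, 215, 234, 263, 234, 262, 263],
   [221, 262, 216, 264, 260, 215, 261],
   [222, 236, 260, 296, 216, 236, 259],
   [223, 237, 261, 218, 259, 266, 216],
   [224, 238, 297, 217, 296, 219, 298],
   [225, 239, 268, 298, 218, 299, 217],
   [226, 300, 219, 269, 240, 297, 301],
   [227, 241, 301, 220, 241, 302, 219],
   [228, 242, 271, 302, 271, 220, 299],
   [260, 272, 222, 256, 221, 243, 258],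
   [261, 273, 223, 273, 258, 273, 221],
   [296, 229, 303, 222, 224, 245, 304],
   [259, 230, 258, 304, 223, 257, 222],
   [297, 305, 224, 276, 303, 226, 306],
   [298, 232, 306, 225, 304, 307, 224],
   [299, 233, 278, 307, 278, 225, 228],
   [301, 226, 227, 279, 250, 305, 226],
   [302, 231, 305, 228, 308, 227, 307],
   [252, 308, 229, 281, 231, 252, 309],
   [253, 304, 309, 230, 232, 310, 229],
   [254, 257, 283, 310, 283, 230, 254],
   [255, 307, 232, 233, 309, 232, 231],
   [245, 296, 248, 236, 238, 296, 247],
   [247, 253, 238, 246, 248, 240, 245],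
   [248, 298, 245, 239, 247, 303, 238],
   [249, 299, 256, 303, 288, 239, 242],
   [310, 240, 300, 254, 300, 253, 310],
   [250, 310, 241, 257, 301, 304, 240],
   [251, 302, 304, 242, 306, 241, 303],
   [304, 247, 251, 259, 298, 250, 296],
   [303, 255, 296, 249, 297, 248, 251],
   [306, 252, 298, 294, 251, 308, 297],
   [309, 297, 253, 295, 255, 300, 252],
   [274, 285, 293, 265, 267, 285, 292],
   [276, 295, 267, 297, 293, 269, 294],
   [277, 287, 294, 268, 292, 311, 267],
   [278, 288, 299, 311, 299, 268, 271],
   [312, 269, 289, 300, 289, 295, 312],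
   [279, 312, 270, 301, 290, 313, 269],
   [280, 291, 313, 271, 314, 270, 311],
   [293, 311, 274, 288, 276, 287, 291],
   [292, 282, 291, 275, 277, 290, 274],
   [313, 276, 280, 305, 311, 279, 314],
   [294, 314, 277, 306, 291, 314, 276],
   [311, 284, 314, 278, 313, 277, 280],
   [314, 281, 311, 308, 280, 294, 313],
   [295, 313, 282, 309, 284, 312, 281],
   [289, 290, 312, 283, 312, 282, 289],
   [307, 303, 308, 299, 305, 298, 302],
   [300, 301, 310, 312, 310, 309, 300],
   [305, 309, 302, 313, 307, 301, 308],
   [308, 306, 307, 314, 302, 306, 305]]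

/-- Witness indices. -/
def witIdx : List Nat :=
  [0, 0, 3, 0, 0, 3, 0, 3, 3, 6, 0, 3, 0, 3, 3, 14, 0, 3, 3, 6, 6, 6, 6, 3, 3, 12, 0, 3, 3, 13, 10, 13, 12, 3, 3, 10, 0, 6, 6, 6, 6, 6, 6, 3, 3, 11, 8, 11, 14, 3, 3, 9, 0, 9, 14, 11, 8, 9, 11, 3, 8, 1, 14, 8, 9, 1, 6, 6, 0, 6, 4, 6, 3, 3, 5, 0, 7, 12, 13, 10, 7, 13, 3, 7, 3, 13, 7, 10, 1, 7, 10, 0, 12, 4, 7, 1, 12, 10, 7, 1, 0, 13, 12, 4, 7, 2, 2, 1, 6, 0, 4, 4, 3, 5, 3, 5, 5, 5, 1, 9, 8, 0, 14, 4, 9, 3, 11, 9, 8, 3, 7, 14, 11, 1, 8, 2, 2, 1, 8, 0, 4, 4, 1, 0, 11, 14, 4, 9, 0, 0, 0, 7, 11, 4, 4, 4, 2, 1, 1, 2, 4, 3, 5, 5, 5, 3, 7, 5, 5, 2, 5, 2, 2, 1, 10, 0, 4, 4, 3, 9, 12, 13, 1, 10, 8, 9, 8, 0, 12, 1, 2, 4, 2, 1, 1, 2, 4, 0, 0, 0, 0, 9, 13, 4, 4, 4, 9, 8, 8, 4, 4, 7, 2, 1, 2, 3, 9, 5, 5, 2, 5, 8, 9, 8, 2, 5, 2, 1, 4, 2, 1, 1, 2, 4, 0, 10, 7, 10, 0, 14, 1, 2, 4, 10, 7, 0, 10, 0, 0, 4, 2, 2, 2, 1, 0, 2, 4, 4, 9, 8, 8, 9, 1, 0, 10, 7, 10, 2, 5, 2, 1, 4, 10, 7, 1, 10, 2, 1, 4, 1, 0, 2, 1, 0, 2, 0, 0, 0, 4, 0, 2, 2, 2, 1, 1, 1, 1, 2, 1, 4, 0, 1, 0, 1, 2, 0, 1, 0, 0, 1, 0, 0, 0, 0, 0]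

/-- Witness involutions, as image lists. -/
def wits : List (List (Fin 8)) :=
  [[1, 0, 3, 2, 5, 4, 7, 6],
   [1, 0, 3, 2, 6, 7, 4, 5],
   [1, 0, 3, 2, 7, 6, 5, 4],
   [0, 1, 2, 3, 4, 5, 7, 6],
   [0, 1, 2, 3, 5, 4, 6, 7],
   [0, 1, 3, 2, 4, 5, 6, 7],
   [1, 0, 2, 3, 4, 5, 6, 7],
   [4, 5, 6, 7, 0, 1, 2, 3],
   [4, 5, 7, 6, 0, 1, 3, 2],
   [5, 4, 6, 7, 1, 0, 2, 3],
   [5, 4, 7, 6, 1, 0, 3, 2],
   [6, 7, 4, 5, 2, 3, 0, 1],
   [6, 7, 5, 4, 3, 2, 0, 1],
   [7, 6, 4, 5, 2, 3, 1, 0],
   [7, 6, 5, 4, 3, 2, 1, 0]]

end Cfsg.Agent.H36.SylowEight
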