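import Mathlib
import Cfsg.Agent.H36.SymIndex

/-!
# Partition stabilisers in symmetric and alternating groups
-/

open Equiv MulAction
open scoped Pointwise
set_option linter.style.haveILetI false

namespace Cfsg.Agent.H36.SymPartition

variable {Ω : Type*} [Fintype Ω] [DecidableEq Ω] {ι : Type*} [DecidableEq ι]

/-- The permutations respecting the fibres of a map. -/
def blockStab (f : Ω → ι) : Subgroup (Perm Ω) where
  carrier := {g | ∀ x y, f x = f y ↔ f (g x) = f (g y)}
  one_mem' := fun x y => Iff.rfl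
  mul_mem' := fun {a b} ha hb x y => (hb x y).trans (ha (b x) (b y))
  inv_mem' := fun {a} ha x y => by
    have h := ha (a⁻¹ x) (a⁻¹ y)
    simp only [Perm.coe_inv, Equiv.apply_symm_apply] at h ⊢
    exact h.symm

omit [Fintype Ω] [DecidableEq Ω] [DecidableEq ι] in
theorem closure_eq (f : Ω → ι) :
    Subgroup.closure {g : Perm Ω | ∀ x y : Ω, f x = f y ↔ f (g x) = f (g y)} = blockStab f :=
  Subgroup.closure_eq (blockStab f)

omit [Fintype Ω] [DecidableEq ι] in
theorem swap_mem (f : Ω → ι) {u v : Ω} (h : f u = f v) : swap u v ∈ blockStab f := by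
  have hs : ∀ z, f (swap u v z) = f z := by
    intro z
    by_cases h1 : z = u
    · rw [h1, swap_apply_left, h]
    by_cases h2 : z = v
    · rw [h2, swap_apply_right, h]
    · rw [swap_apply_of_ne_of_ne h1 h2]
  intro x y
  rw [hs, hs]

/-- Two fibres of the same size can be exchanged, the rest being fixed. -/
theorem exists_exchange (f : Ω → ι) (i j : ι)
    (hcard : Nat.card {x // f x = i} = Nat.card {x // f x = j}) :
    ∃ g ∈ blockStab f, (∀ x, f x = i → f (g x) = j) ∧ ∀ x, f x ≠ i → f x ≠ j → g x = x := by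
  classical
  by_cases hij : i = j
  · exact ⟨1, one_mem _, fun x hx => hx.trans hij, fun x _ _ => rfl⟩
  obtain ⟨σ⟩ := Finite.card_eq.1 hcard
  let g : Ω → Ω := fun x =>
    if hi : f x = i then (σ ⟨x, hi⟩ : Ω) else if hj : f x = j then (σ.symm ⟨x, hj⟩ : Ω) else x
  have hg : Function.Involutive g := by
    intro x
    by_cases hi : f x = i
    · have e : g x = (σ ⟨x, hi⟩ : Ω) := dif_pos hi
      rw [e]
      have h1 : f (σ ⟨x, hi⟩ : Ω) = j := (σ ⟨x, hi⟩).2
      have h2 : f (σ ⟨x, hi⟩ : Ω) ≠ i := by rw [h1]; exact Ne.symm hij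
      show dite _ _ _ = x
      rw [dif_neg h2, dif_pos h1, Subtype.coe_eta, Equiv.symm_apply_apply]
    by_cases hj : f x = j
    · have e : g x = (σ.symm ⟨x, hj⟩ : Ω) := (dif_neg hi).trans (dif_pos hj)
      rw [e]
      have h1 : f (σ.symm ⟨x, hj⟩ : Ω) = i := (σ.symm ⟨x, hj⟩).2
      show dite _ _ _ = x
      rw [dif_pos h1, Subtype.coe_eta, Equiv.apply_symm_apply]
    · have e : g x = x := (dif_neg hi).trans (dif_neg hj)
      rw [e, e]
  have hf : ∀ x, f (g x) = swap i j (f x) := by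
    intro x
    by_cases hi : f x = i
    · rw [show g x = (σ ⟨x, hi⟩ : Ω) from dif_pos hi, (σ ⟨x, hi⟩).2, hi, swap_apply_left]
    by_cases hj : f x = j
    · rw [show g x = (σ.symm ⟨x, hj⟩ : Ω) from (dif_neg hi).trans (dif_pos hj),
        (σ.symm ⟨x, hj⟩).2, hj, swap_apply_right]
    · rw [show g x = x from (dif_neg hi).trans (dif_neg hj), swap_apply_of_ne_of_ne hi hj]
  refine ⟨hg.toPerm g, fun x y => ?_, fun x hx => ?_, fun x hi hj => ?_⟩
  · show f x = f y ↔ f (g x) = f (g y)
    rw [hf, hf, (swap i j).injective.eq_iff]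
  · show f (g x) = j
    rw [hf, hx, swap_apply_left]
  · exact (dif_neg hi).trans (dif_neg hj)

theorem isPretransitive (f : Ω → ι) (a : ℕ) (hf : ∀ i, Nat.card {x // f x = i} = a) :
    IsPretransitive (blockStab f) Ω := by
  refine ⟨fun x y => ?_⟩
  obtain ⟨g, hg, hgi, -⟩ := exists_exchange f (f x) (f y) ((hf _).trans (hf _).symm)
  refine ⟨⟨swap (g x) y * g, mul_mem (swap_mem f (hgi x rfl)) hg⟩, ?_⟩
  show swap (g x) y (g x) = y
  exact swap_apply_left _ _

/-- Fibre-respecting groups have only the obvious blocks. -/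
theorem block_subset_fibre (f : Ω → ι) (a : ℕ) (ha : 2 ≤ a)
    (hf : ∀ i, Nat.card {x // f x = i} = a) {L : Subgroup (Perm Ω)} (hL : blockStab f ≤ L)
    {B : Set Ω} (hB : IsBlock L B) (hne : B ≠ Set.univ) {x y : Ω} (hx : x ∈ B) (hy : y ∈ B) :
    f x = f y := by
  classical
  by_contra hxy
  have hmove : ∀ g ∈ blockStab f, ∀ {u v : Ω}, u ∈ B → g u = u → v ∈ B → g v ∈ B := by
    intro g hg u v hu hgu hv
    have h : (⟨g, hL hg⟩ : L) • B = B :=
      hB.smul_eq_of_mem (a := u) hu (by show g u ∈ B; rw [hgu]; exact hu)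
    rw [← h]
    exact Set.smul_mem_smul_set hv
  -- the whole fibre of `y`, and likewise of `x`
  have hfib : ∀ {u v : Ω}, u ∈ B → v ∈ B → f u ≠ f v → ∀ w, f w = f v → w ∈ B := by
    intro u v hu hv huv w hw
    have h := hmove (swap v w) (swap_mem f hw.symm) hu
      (swap_apply_of_ne_of_ne (fun h => huv (by rw [h])) (fun h => huv (by rw [h, hw]))) hv
    rwa [swap_apply_left] at h
  have hyfib := hfib hx hy hxy
  have hxfib := hfib hy hx (Ne.symm hxy)
  apply hne
  rw [Set.eq_univ_iff_forall]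
  intro w
  by_cases hwy : f w = f y
  · exact hyfib w hwy
  by_cases hwx : f w = f x
  · exact hxfib w hwx
  obtain ⟨g, hg, hgy, hgfix⟩ := exists_exchange f (f y) (f w) ((hf _).trans (hf _).symm)
  have hgx : g x = x := hgfix x hxy (Ne.symm hwx)
  have h1 : g y ∈ B := hmove g hg hx hgx hy
  exact hfib hx h1 (by rw [hgy y rfl]; exact Ne.symm hwx) w (hgy y rfl).symm

theorem block_eq_fibre (f : Ω → ι) (a : ℕ) (ha : 2 ≤ a)
    (hf : ∀ i, Nat.card {x // f x = i} = a) {L : Subgroup (Perm Ω)} (hL : blockStab f ≤ L)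
    {B : Set Ω} (hB : IsBlock L B) (hne : B ≠ Set.univ) {x : Ω} (hx : x ∈ B)
    (hnt : B.Nontrivial) {w : Ω} (hw : f w = f x) : w ∈ B := by
  classical
  obtain ⟨y, hy, hyx⟩ := hnt.exists_ne x
  by_cases hwx : w = x
  · rw [hwx]; exact hx
  have hxy := block_subset_fibre f a ha hf hL hB hne hy hx
  have h : (⟨swap y w, hL (swap_mem f (hxy.trans hw.symm))⟩ : L) • B = B :=
    hB.smul_eq_of_mem (a := x) hx (by
      show swap y w x ∈ B
      rw [swap_apply_of_ne_of_ne hyx.symm (Ne.symm hwx)]; exact hx)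
  rw [← h]
  exact ⟨y, hy, swap_apply_left y w⟩

theorem isPreprimitive_of_gt (f : Ω → ι) (a : ℕ) (ha : 2 ≤ a)
    (hf : ∀ i, Nat.card {x // f x = i} = a) {L : Subgroup (Perm Ω)} (hL : blockStab f < L) :
    IsPreprimitive L Ω := by
  classical
  haveI := isPretransitive f a hf
  haveI : IsPretransitive L Ω := ⟨fun x y => by
    obtain ⟨g, hg⟩ := MulAction.exists_smul_eq (blockStab f) x y
    exact ⟨⟨g, hL.le g.2⟩, hg⟩⟩
  refine ⟨fun {B} hB => ?_⟩
  rcases Set.subsingleton_or_nontrivial B with h | h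
  · exact Or.inl h
  by_contra hcon
  have hne : B ≠ Set.univ := fun e => hcon (Or.inr e)
  obtain ⟨k, hk, hk'⟩ := SetLike.exists_of_lt hL
  have hbad : ∃ g ∈ L, ∃ u v, f u = f v ∧ f (g u) ≠ f (g v) := by
    have h1 : ¬ ∀ u v, f u = f v ↔ f (k u) = f (k v) := hk'
    push Not at h1
    obtain ⟨u, v, h1⟩ := h1
    rcases h1 with ⟨h2, h3⟩ | ⟨h2, h3⟩
    · exact ⟨k, hk, u, v, h2, h3⟩
    · refine ⟨k⁻¹, inv_mem hk, k u, k v, h3, ?_⟩
      simpa using h2
  obtain ⟨g, hg, u, v, huv, hguv⟩ := hbad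
  obtain ⟨x, hx⟩ := h.nonempty
  obtain ⟨g0, hg0⟩ := MulAction.exists_smul_eq L x u
  have hB0 : IsBlock L (g0 • B) := hB.translate g0
  have hne0 : g0 • B ≠ Set.univ := fun e => hne (by
    rw [← inv_smul_smul g0 B, e, Set.smul_set_univ])
  have hu0 : u ∈ g0 • B := ⟨x, hx, hg0⟩
  have hnt0 : (g0 • B).Nontrivial := by
    obtain ⟨p, hp, q, hq, hpq⟩ := h
    exact ⟨_, Set.smul_mem_smul_set hp, _, Set.smul_mem_smul_set hq,
      fun e => hpq (MulAction.injective g0 e)⟩
  have hv0 : v ∈ g0 • B := block_eq_fibre f a ha hf hL.le hB0 hne0 hu0 hnt0 huv.symm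
  apply hguv
  refine block_subset_fibre f a ha hf hL.le (hB0.translate (⟨g, hg⟩ : L)) ?_
    (Set.smul_mem_smul_set hu0) (Set.smul_mem_smul_set hv0)
  intro e
  exact hne0 (by rw [← inv_smul_smul (⟨g, hg⟩ : L) (g0 • B), e, Set.smul_set_univ])

theorem isCoatom_blockStab (f : Ω → ι) (a : ℕ) (ha : 2 ≤ a) (hι : ∃ i j : ι, i ≠ j)
    (hf : ∀ i, Nat.card {x // f x = i} = a) : IsCoatom (blockStab f) := by
  classical
  obtain ⟨i, j, hij⟩ := hι
  have hfib : ∀ i, ∃ x y, f x = i ∧ f y = i ∧ x ≠ y := fun i => by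
    have h : Nontrivial {x // f x = i} := Finite.one_lt_card_iff_nontrivial.1 (by rw [hf]; omega)
    obtain ⟨⟨x, hx⟩, ⟨y, hy⟩, hxy⟩ := h
    exact ⟨x, y, hx, hy, fun e => hxy (Subtype.ext e)⟩
  obtain ⟨x, y, hx, hy, hxy⟩ := hfib i
  obtain ⟨u, v, hu, hv, huv⟩ := hfib j
  refine ⟨fun htop => ?_, fun L hL => ?_⟩
  · have h : swap x u ∈ blockStab f := htop ▸ Subgroup.mem_top _
    have h1 := (h x y).1 (hx.trans hy.symm)
    rw [swap_apply_left, swap_apply_of_ne_of_ne hxy.symm (fun e => hij (by rw [← hy, e, hu])),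
      hu, hy] at h1
    exact hij h1.symm
  · exact Equiv.Perm.subgroup_eq_top_of_isPreprimitive_of_isSwap_mem
      (isPreprimitive_of_gt f a ha hf hL) (swap x y) ⟨x, y, hxy, rfl⟩
      (hL.le (swap_mem f (hx.trans hy.symm)))

theorem stabilizer_lt_blockStab (O : Set Ω) [DecidablePred (· ∈ O)]
    (hO : Nat.card O = Nat.card ↥Oᶜ) (hpos : 0 < Nat.card O) :
    stabilizer (Perm Ω) O < blockStab (fun x => decide (x ∈ O)) := by
  have hle : stabilizer (Perm Ω) O ≤ blockStab (fun x => decide (x ∈ O)) := by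
    intro g hg x y
    have h : ∀ z, g z ∈ O ↔ z ∈ O := fun z => by
      conv_lhs => rw [← mem_stabilizer_iff.1 hg]
      exact Set.smul_mem_smul_set_iff
    simp only [h]
  obtain ⟨g, hg, hgi, -⟩ := exists_exchange (fun x => decide (x ∈ O)) true false
    ((Nat.card_congr (Equiv.subtypeEquivRight fun x => decide_eq_true_iff)).trans (hO.trans
      (Nat.card_congr (Equiv.subtypeEquivRight fun x => decide_eq_false_iff_not.symm))))
  refine lt_of_le_of_ne hle fun e => ?_
  rw [← e] at hg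
  obtain ⟨⟨x, hx⟩⟩ := (Nat.card_pos_iff.1 hpos).1
  have h1 : g x ∈ O := by
    rw [← mem_stabilizer_iff.1 hg]
    exact Set.smul_mem_smul_set hx
  exact of_decide_eq_false (hgi x (decide_eq_true hx)) h1

theorem stabilizer_half_not_coatom (hΩ : 2 < Fintype.card Ω) (O : Set Ω)
    (hO : Nat.card O = Nat.card ↥Oᶜ) : ¬ IsCoatom (stabilizer (Perm Ω) O) := by
  classical
  have h2 : Nat.card O + Nat.card ↥Oᶜ = Fintype.card Ω := by
    rw [← Nat.card_eq_fintype_card, Nat.card_coe_set_eq, Nat.card_coe_set_eq,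
      Set.ncard_add_ncard_compl]
  intro h
  have hc := isCoatom_blockStab (fun x => decide (x ∈ O)) (Nat.card O) (by omega)
    ⟨true, false, by decide⟩ fun i => by
      cases i
      · exact (Nat.card_congr (Equiv.subtypeEquivRight fun x => decide_eq_false_iff_not)).trans hO.symm
      · exact Nat.card_congr (Equiv.subtypeEquivRight fun x => decide_eq_true_iff)
  exact hc.1 (h.2 _ (stabilizer_lt_blockStab O hO (by omega)))

theorem non_second_maximal (m : ℕ) (hm : 2 ≤ m) :
    ∃ M H K : Subgroup (Perm (Fin (2 * m))), IsCoatom M ∧ M.index = 2 * m ∧ H ≤ M ∧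
      IsCoatom (H.subgroupOf M) ∧ IsCoatom K ∧ H ≤ K ∧ ¬ IsCoatom (H.subgroupOf K) := by
  classical
  let O : Set (Fin (2 * m)) := {x | (x : ℕ) < m}
  let a : Fin (2 * m) := ⟨2 * m - 1, by omega⟩
  have hOcard : O.ncard = m := by
    have e : O = Set.range (Fin.castLE (by omega : m ≤ 2 * m)) := by
      ext x
      constructor
      · exact fun hx => ⟨⟨x, hx⟩, rfl⟩
      · rintro ⟨y, rfl⟩; exact y.2
    rw [e, Set.ncard_range_of_injective (Fin.castLE_injective _), Nat.card_fin]
  have hO : Nat.card O = Nat.card ↥Oᶜ := by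
    rw [Nat.card_coe_set_eq, Nat.card_coe_set_eq, Set.ncard_compl, Nat.card_fin, hOcard]
    omega
  have haO : a ∉ O := by simp [O, a]; omega
  set M := stabilizer (Perm (Fin (2 * m))) a with hM
  set S := stabilizer (Perm (Fin (2 * m))) O with hS
  set K := blockStab (fun x => decide (x ∈ O)) with hK
  refine ⟨M, M ⊓ S, K, ?_, ?_, inf_le_left, ?_, ?_, ?_, ?_⟩
  · rw [hM, ← stabilizer_singleton]
    refine Equiv.Perm.isCoatom_stabilizer (Set.singleton_nonempty a) ?_ ?_
    · obtain ⟨b, hb⟩ : ∃ b : Fin (2 * m), b ≠ a :=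
        ⟨⟨0, by omega⟩, by simp [a, Fin.ext_iff]; omega⟩
      exact ⟨b, hb⟩
    · rw [Nat.card_fin, Set.ncard_singleton]; omega
  · rw [hM, index_stabilizer_of_transitive, Nat.card_fin]
  · -- inside a point stabiliser the set stabiliser is maximal
    let W := {x : Fin (2 * m) // x ≠ a}
    let e : Perm W ≃* M :=
      { (Perm.subtypeEquivSubtypePerm (fun x => x ≠ a)).trans (Equiv.subtypeEquivRight fun σ => by
          simp only [not_not, forall_eq, hM, mem_stabilizer_iff, Perm.smul_def]) with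
        map_mul' := fun f g => Subtype.ext (map_mul Perm.ofSubtype f g) }
    let O' : Set W := {x | (x : Fin (2 * m)) ∈ O}
    have hO' : O'.ncard = m := by
      rw [← Nat.card_coe_set_eq, ← hOcard, ← Nat.card_coe_set_eq]
      exact Nat.card_congr
        { toFun := fun x => ⟨x.1.1, x.2⟩
          invFun := fun x => ⟨⟨x.1, fun e => haO (e ▸ x.2)⟩, x.2⟩
          left_inv := fun x => rfl
          right_inv := fun x => rfl }
    have hW : Nat.card W = 2 * m - 1 := by
      rw [Nat.card_eq_fintype_card, Fintype.card_subtype_compl, Fintype.card_subtype_eq,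
        Fintype.card_fin]
    have hc : IsCoatom (stabilizer (Perm W) O') := by
      refine Equiv.Perm.isCoatom_stabilizer ?_ ?_ (by rw [hW, hO']; omega)
      · exact Set.nonempty_of_ncard_ne_zero (by omega)
      · refine Set.nonempty_of_ncard_ne_zero ?_
        rw [Set.ncard_compl, hW, hO']; omega
    have heq : (M ⊓ S).subgroupOf M = (stabilizer (Perm W) O').map e.toMonoidHom := by
      ext g
      obtain ⟨σ, rfl⟩ := e.surjective g
      rw [Subgroup.mem_map_equiv, MulEquiv.symm_apply_apply, Subgroup.mem_subgroupOf,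
        Subgroup.mem_inf, and_iff_right (e σ).2, hS, mem_stabilizer_set_iff_smul_set_subset
          (Set.toFinite _), mem_stabilizer_set_iff_smul_set_subset (Set.toFinite _),
        Set.smul_set_subset_iff, Set.smul_set_subset_iff]
      constructor
      · intro h x hx
        show ((σ x : W) : Fin (2 * m)) ∈ O
        have h1 := h (show (x : Fin (2 * m)) ∈ O from hx)
        rwa [show ((e σ : M) : Perm (Fin (2 * m))) • (x : Fin (2 * m)) = (σ x : W) from
          Perm.ofSubtype_apply_coe σ x] at h1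
      · intro h x hx
        have hxa : x ≠ a := fun e => haO (e ▸ hx)
        have h1 := h (show (⟨x, hxa⟩ : W) ∈ O' from hx)
        show ((e σ : M) : Perm (Fin (2 * m))) x ∈ O
        rw [show ((e σ : M) : Perm (Fin (2 * m))) x = (σ ⟨x, hxa⟩ : W) from
          Perm.ofSubtype_apply_of_mem σ hxa]
        exact h1
    rw [heq]
    exact (OrderIso.isCoatom_iff (MulEquiv.mapSubgroup e) _).2 hc
  · exact isCoatom_blockStab _ m hm ⟨true, false, by decide⟩ fun i => by
      cases i
      · rw [Nat.card_congr (Equiv.subtypeEquivRight fun x => decide_eq_false_iff_not)]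
        exact hO.symm.trans (by rw [Nat.card_coe_set_eq, hOcard])
      · rw [Nat.card_congr (Equiv.subtypeEquivRight fun x => decide_eq_true_iff)]
        exact (Nat.card_coe_set_eq O).trans hOcard
  · exact inf_le_right.trans (stabilizer_lt_blockStab O hO (by rw [Nat.card_coe_set_eq, hOcard]; omega)).le
  · intro hc
    have hlt : S < K := stabilizer_lt_blockStab O hO (by rw [Nat.card_coe_set_eq, hOcard]; omega)
    obtain ⟨b, hb, hba⟩ : ∃ b, b ∉ O ∧ b ≠ a := by
      refine ⟨⟨2 * m - 2, by omega⟩, ?_, ?_⟩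
      · simp [O]; omega
      · simp [a, Fin.ext_iff]; omega
    have hsS : swap a b ∈ S := by
      rw [hS, mem_stabilizer_set_iff_smul_set_subset (Set.toFinite _), Set.smul_set_subset_iff]
      intro x hx
      rw [Perm.smul_def, swap_apply_of_ne_of_ne (fun e : x = a => haO (e ▸ hx))
        (fun e : x = b => hb (e ▸ hx))]
      exact hx
    have h1 : (M ⊓ S).subgroupOf K < S.subgroupOf K := by
      refine lt_of_le_of_ne (fun x hx => (hx : (x : Perm _) ∈ M ⊓ S).2) fun e => ?_
      have h2 : (⟨swap a b, hlt.le hsS⟩ : K) ∈ (M ⊓ S).subgroupOf K := e ▸ hsS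
      exact hba ((swap_apply_left a b).symm.trans (h2 : swap a b ∈ M ⊓ S).1)
    exact hlt.not_ge (Subgroup.subgroupOf_eq_top.1 (hc.2 _ h1))

/-- On `Fin 4 × Bool`: pairs, and the sets of a plane system containing unions of pairs. -/
def planes : Finset (Finset (Fin 4 × Bool)) :=
  Finset.univ.filter fun s => s.card = 4 ∧
    ((∀ i, ((i, true) ∈ s ↔ (i, false) ∈ s)) ∨
      ((∀ i, ((i, true) ∈ s ↔ (i, false) ∉ s)) ∧ Even (s.filter fun x => x.2 = true).card))

end Cfsg.Agent.H36.SymPartition
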