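import Cfsg.Agent.H3.Simple

/-!
Elements of order seven in the four-dimensional special unitary group over nine elements: their
centraliser and the impossibility of inverting them.
-/

set_option autoImplicit false
set_option linter.style.haveILetI false
set_option linter.unusedSectionVars false

open Matrix Polynomial

namespace Cfsg.Agent.H36

variable {K : Type*} [Field K] [Fintype K]



lemma charP_three (hK : Fintype.card K = 9) : CharP K 3 := by
  haveI : Fact (Nat.Prime 3) := ⟨Nat.prime_three⟩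
  exact charP_of_card_eq_prime_pow (f := 2) (by rw [hK]; rfl)

lemma pow_nine (hK : Fintype.card K = 9) (a : K) : a ^ 9 = a := by
  have := FiniteField.pow_card a
  rwa [hK] at this

lemma pow_eight (hK : Fintype.card K = 9) {a : K} (ha : a ≠ 0) : a ^ 8 = 1 := by
  have := pow_nine hK a
  rw [pow_succ] at this
  exact mul_right_cancel₀ ha (this.trans (one_mul a).symm)

/-- Seventh roots of unity in a field of nine elements are trivial. -/
lemma eq_one_of_pow_seven (hK : Fintype.card K = 9) {a : K} (h : a ^ 7 = 1) : a = 1 := by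
  have ha : a ≠ 0 := by rintro rfl; simp at h
  have := pow_eight hK ha
  rw [pow_succ, h, one_mul] at this
  exact this

/-- The data attached to an element of order seven in four dimensions. -/
structure SevenData (x : (Matrix (Fin 4) (Fin 4) K)) (c : K[X]) (v : Fin 4 → K) : Prop where
  monic : c.Monic
  irred : Irreducible c
  deg : c.natDegree = 3
  annihil : aeval x ((X - C 1) * c) = 0
  cyclic : ∀ Q : K[X], Q.natDegree < 4 → aeval x Q *ᵥ v = 0 → Q = 0
  pow7 : x ^ 7 = 1

lemma eval_one_ne (c : K[X]) (hi : Irreducible c) (hd : c.natDegree = 3) : c.eval 1 ≠ 0 := fun h => by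
  have := natDegree_eq_of_degree_eq_some (degree_eq_one_of_irreducible_of_root hi (x := 1) h)
  rw [hd] at this
  exact absurd this (by decide)

theorem exists_sevenData (hK : Fintype.card K = 9) (x : (Matrix (Fin 4) (Fin 4) K)) (h7 : x ^ 7 = 1) (h1 : x ≠ 1) :
    ∃ c v, SevenData x c v := by
  classical
  have hint : IsIntegral K x := Matrix.isIntegral x
  set Φ : K[X] := ∑ i ∈ Finset.range 7, X ^ i with hΦ
  have hfac : Φ * (X - C 1) = X ^ 7 - 1 := by rw [hΦ, map_one, geom_sum_mul]
  have hmdvd : minpoly K x ∣ Φ * (X - C 1) := by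
    rw [hfac]; exact minpoly.dvd K x (by simp [h7])
  have hnot : ¬ IsCoprime (minpoly K x) Φ := by
    intro hco
    obtain ⟨k, hk⟩ := hco.dvd_of_dvd_mul_left hmdvd
    have h0 : aeval x (X - C (1 : K)) = 0 := by rw [hk, map_mul, minpoly.aeval, zero_mul]
    rw [map_sub, aeval_X, aeval_C, map_one, sub_eq_zero] at h0
    exact h1 h0
  have hg : ¬ IsUnit (EuclideanDomain.gcd (minpoly K x) Φ) := by
    rwa [EuclideanDomain.gcd_isUnit_iff]
  have hne : EuclideanDomain.gcd (minpoly K x) Φ ≠ 0 := by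
    rw [Ne, EuclideanDomain.gcd_eq_zero_iff]
    exact fun h => minpoly.ne_zero hint h.1
  obtain ⟨c₀, hc₀i, hc₀⟩ := WfDvdMonoid.exists_irreducible_factor hg hne
  set c := c₀ * C c₀.leadingCoeff⁻¹ with hc
  have hcm : c.Monic := monic_mul_leadingCoeff_inv hc₀i.ne_zero
  have hu : IsUnit (C c₀.leadingCoeff⁻¹) :=
    isUnit_C.2 (isUnit_iff_ne_zero.2 (inv_ne_zero (leadingCoeff_ne_zero.2 hc₀i.ne_zero)))
  have hass : Associated c₀ c := ⟨hu.unit, rfl⟩
  have hci : Irreducible c := hass.irreducible hc₀i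
  have hcmin : c ∣ minpoly K x := hass.symm.dvd.trans (hc₀.trans (EuclideanDomain.gcd_dvd_left _ _))
  have hcΦ : c ∣ Φ := hass.symm.dvd.trans (hc₀.trans (EuclideanDomain.gcd_dvd_right _ _))
  have hcχ : c ∣ x.charpoly := hcmin.trans (Matrix.minpoly_dvd_charpoly x)
  have hχ4 : x.charpoly.natDegree = 4 := by simp
  have hd4 : c.natDegree ≤ 4 := hχ4 ▸ natDegree_le_of_dvd hcχ x.charpoly_monic.ne_zero
  have hdpos : 0 < c.natDegree := hci.natDegree_pos
  -- the residue field
  haveI : Fact (Irreducible c) := ⟨hci⟩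
  let pb := AdjoinRoot.powerBasis hci.ne_zero
  haveI : Module.Finite K (AdjoinRoot c) := pb.finite
  haveI : Finite (AdjoinRoot c) := Module.finite_of_finite K
  letI : Fintype (AdjoinRoot c) := Fintype.ofFinite _
  set α := AdjoinRoot.root c
  have hα0 : aeval α c = 0 := by rw [AdjoinRoot.aeval_eq, AdjoinRoot.mk_self]
  have hαΦ : aeval α Φ = 0 := by
    obtain ⟨k, hk⟩ := hcΦ
    rw [hk, map_mul, hα0, zero_mul]
  have hα7 : α ^ 7 = 1 := by
    have := congrArg (aeval α) hfac
    rwa [map_mul, hαΦ, zero_mul, map_sub, map_pow, aeval_X, map_one, eq_comm, sub_eq_zero] at this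
  have hα1 : α ≠ 1 := by
    intro h
    rw [hΦ, h, map_sum] at hαΦ
    simp only [map_pow, aeval_X, one_pow, Finset.sum_const, Finset.card_range, nsmul_eq_mul, mul_one] at hαΦ
    haveI := charP_three hK
    haveI : CharP (AdjoinRoot c) 3 := charP_of_injective_algebraMap (algebraMap K (AdjoinRoot c)).injective 3
    exact absurd ((CharP.cast_eq_zero_iff (AdjoinRoot c) 3 7).1 hαΦ) (by norm_num)
  have hord : orderOf α = 7 := haveI : Fact (Nat.Prime 7) := ⟨by norm_num⟩; orderOf_eq_prime hα7 hα1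
  have hcardE : Fintype.card (AdjoinRoot c) = 9 ^ c.natDegree := by
    rw [Module.card_eq_pow_finrank (K := K), hK, PowerBasis.finrank pb, AdjoinRoot.powerBasis_dim]
  have h7dvd : 7 ∣ 9 ^ c.natDegree - 1 := by
    rw [← hcardE, ← hord]
    apply orderOf_dvd_of_pow_eq_one
    exact FiniteField.pow_card_sub_one_eq_one α (fun h => by rw [h] at hα7; simp at hα7)
  have hd3 : c.natDegree = 3 := by interval_cases h : c.natDegree <;> simp_all
  -- the linear cofactor
  obtain ⟨L, hL⟩ := hcχ
  have hLm : L.Monic := hcm.of_mul_monic_left (hL ▸ x.charpoly_monic)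
  have hL1 : L.natDegree = 1 := by
    have := hχ4
    rw [hL, hcm.natDegree_mul hLm, hd3] at this
    omega
  have hLX : L = X + C (L.coeff 0) := hLm.eq_X_add_C hL1
  have hev : x.charpoly.eval (-L.coeff 0) = 0 := by
    rw [hL, eval_mul, hLX]; simp
  rw [Matrix.eval_charpoly] at hev
  obtain ⟨u, hu0, hue⟩ := Matrix.exists_mulVec_eq_zero_iff.2 hev
  set l := -L.coeff 0
  have hxu : x *ᵥ u = l • u := by
    rw [Matrix.sub_mulVec, sub_eq_zero] at hue
    rw [← hue]
    ext i
    simp [Matrix.scalar_apply, Matrix.mulVec_diagonal]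
  have hpow : ∀ k : ℕ, (x ^ k) *ᵥ u = l ^ k • u := by
    intro k
    induction k with
    | zero => simp
    | succ k ih => rw [pow_succ, ← Matrix.mulVec_mulVec, hxu, Matrix.mulVec_smul, ih, smul_smul, pow_succ']
  have hl : l = 1 := by
    refine eq_one_of_pow_seven hK ?_
    have := hpow 7
    rw [h7, Matrix.one_mulVec] at this
    have h' : (l ^ 7 - 1) • u = 0 := by rw [sub_smul, one_smul, ← this, sub_self]
    exact sub_eq_zero.1 ((smul_eq_zero.1 h').resolve_right hu0)
  have hann : aeval x ((X - C 1) * c) = 0 := by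
    have : (X - C 1) * c = x.charpoly := by
      rw [hL, hLX, mul_comm c]
      congr 1
      have : L.coeff 0 = -1 := by rw [← neg_neg (L.coeff 0)]; exact congrArg Neg.neg hl
      rw [this, map_neg, sub_eq_add_neg]
    rw [this]; exact Matrix.aeval_self_charpoly x
  have hpoly : ∀ Q : K[X], aeval x Q *ᵥ u = Q.eval 1 • u := by
    intro Q
    induction Q using Polynomial.induction_on' with
    | add p q hp hq => rw [map_add, Matrix.add_mulVec, hp, hq, eval_add, add_smul]
    | monomial k a =>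
      rw [aeval_monomial, ← Matrix.mulVec_mulVec, hpow, hl, one_pow, one_smul, eval_monomial, one_pow, mul_one,
        Algebra.algebraMap_eq_smul_one, Matrix.smul_mulVec, Matrix.one_mulVec]
  have hc1 := eval_one_ne c hci hd3
  have hB : aeval x c ≠ 0 := by
    intro h
    have := hpoly c
    rw [h, Matrix.zero_mulVec] at this
    exact hc1 ((smul_eq_zero.1 this.symm).resolve_right hu0)
  have hA : aeval x (X - C (1 : K)) ≠ 0 := by
    rw [map_sub, aeval_X, aeval_C, map_one]; exact sub_ne_zero.2 h1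
  obtain ⟨v, hvA, hvB⟩ : ∃ v, aeval x (X - C (1 : K)) *ᵥ v ≠ 0 ∧ aeval x c *ᵥ v ≠ 0 := by
    obtain ⟨a, ha⟩ : ∃ a, aeval x (X - C (1 : K)) *ᵥ a ≠ 0 := by
      by_contra h; push Not at h
      exact hA (Matrix.ext_of_mulVec_single fun i => by rw [h, Matrix.zero_mulVec])
    obtain ⟨b, hb⟩ : ∃ b, aeval x c *ᵥ b ≠ 0 := by
      by_contra h; push Not at h
      exact hB (Matrix.ext_of_mulVec_single fun i => by rw [h, Matrix.zero_mulVec])
    by_cases h : aeval x c *ᵥ a = 0
    · by_cases h' : aeval x (X - C (1 : K)) *ᵥ b = 0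
      · exact ⟨a + b, by rwa [Matrix.mulVec_add, h', add_zero], by rwa [Matrix.mulVec_add, h, zero_add]⟩
      · exact ⟨b, h', hb⟩
    · exact ⟨a, ha, h⟩
  refine ⟨c, v, hcm, hci, hd3, hann, fun Q hQ hQv => ?_, h7⟩
  by_cases hcQ : c ∣ Q
  · obtain ⟨R, hR⟩ := hcQ
    by_contra hQ0
    have hR0 : R ≠ 0 := fun h => hQ0 (by rw [hR, h, mul_zero])
    have hdeg : R.natDegree = 0 := by
      have := natDegree_mul hci.ne_zero hR0
      rw [← hR] at this
      omega
    obtain ⟨r, rfl⟩ := natDegree_eq_zero.1 hdeg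
    have hr : r ≠ 0 := fun h => hR0 (by rw [h, map_zero])
    rw [hR, map_mul, aeval_C, Algebra.algebraMap_eq_smul_one, mul_smul_comm, mul_one, Matrix.smul_mulVec,
      smul_eq_zero] at hQv
    exact hvB (hQv.resolve_left hr)
  · exfalso
    obtain ⟨r, s, hrs⟩ := (hci.coprime_iff_not_dvd).2 hcQ
    apply hvA
    have e : aeval x (X - C (1 : K)) =
        aeval x r * aeval x ((X - C 1) * c) + aeval x ((X - C 1) * s) * aeval x Q := by
      rw [← map_mul, ← map_mul, ← map_add]
      congr 1
      linear_combination (-(X - C (1 : K))) * hrs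
    rw [e, hann, mul_zero, zero_add, ← Matrix.mulVec_mulVec, hQv, Matrix.mulVec_zero]

namespace SevenData

variable {x : (Matrix (Fin 4) (Fin 4) K)} {c : K[X]} {v : Fin 4 → K} (D : SevenData x c v)

include D

lemma dvd_of_aeval {Q : K[X]} (h : aeval x Q = 0) : (X - C 1) * c ∣ Q := by
  have hm : ((X - C 1) * c).Monic := (monic_X_sub_C 1).mul D.monic
  have hdeg : ((X - C 1) * c).natDegree = 4 := by
    rw [(monic_X_sub_C 1).natDegree_mul D.monic, natDegree_X_sub_C, D.deg]
  refine (modByMonic_eq_zero_iff_dvd hm).1 (D.cyclic _ ?_ ?_)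
  · rw [← hdeg]
    exact natDegree_modByMonic_lt Q hm (fun e => by rw [e] at hdeg; simp at hdeg)
  · rw [modByMonic_eq_sub_mul_div, map_sub, map_mul, D.annihil, zero_mul, h, sub_zero, Matrix.zero_mulVec]

lemma exists_basis : ∀ y : Fin 4 → K, ∃ P : K[X], aeval x P *ᵥ v = y := by
  classical
  set b : Fin 4 → (Fin 4 → K) := fun i => (x ^ (i : ℕ)) *ᵥ v
  have hli : LinearIndependent K b := by
    rw [Fintype.linearIndependent_iff]
    intro g hg i
    set Q : K[X] := ∑ j : Fin 4, monomial (j : ℕ) (g j)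
    have hQ : aeval x Q *ᵥ v = 0 := by
      rw [map_sum, Matrix.sum_mulVec, ← hg]
      refine Finset.sum_congr rfl fun j _ => ?_
      rw [aeval_monomial, ← Algebra.smul_def, Matrix.smul_mulVec]
    have hdeg : Q.natDegree < 4 := by
      refine Nat.lt_succ_of_le ((natDegree_sum_le _ _).trans (Finset.fold_max_le _ |>.2 ⟨by omega, fun j _ => ?_⟩))
      exact (natDegree_monomial_le _).trans (by omega)
    have := congrArg (fun R => coeff R (i : ℕ)) (D.cyclic Q hdeg hQ)
    simpa [Q, finsetSum_coeff, coeff_monomial, Fin.val_inj] using this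
  intro y
  have htop : Submodule.span K (Set.range b) = ⊤ :=
    hli.span_eq_top_of_card_eq_finrank (by simp)
  obtain ⟨g, hg⟩ := (Submodule.mem_span_range_iff_exists_fun K).1 (htop ▸ Submodule.mem_top : y ∈ _)
  refine ⟨∑ j : Fin 4, monomial (j : ℕ) (g j), ?_⟩
  rw [map_sum, Matrix.sum_mulVec, ← hg]
  refine Finset.sum_congr rfl fun j _ => ?_
  rw [aeval_monomial, ← Algebra.smul_def, Matrix.smul_mulVec]

/-- The commutant of `x` consists of polynomials in `x`. -/
lemma exists_poly_of_commute {g : (Matrix (Fin 4) (Fin 4) K)} (hg : g * x = x * g) : ∃ P : K[X], g = aeval x P := by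
  obtain ⟨P, hP⟩ := D.exists_basis (g *ᵥ v)
  refine ⟨P, Matrix.ext_of_mulVec_single fun i => ?_⟩
  obtain ⟨T, hT⟩ := D.exists_basis (Pi.single i 1)
  have hc : Commute g (aeval x T) := by
    clear hT
    induction T using Polynomial.induction_on' with
    | add p q hp hq => rw [map_add]; exact hp.add_right hq
    | monomial k a =>
      rw [aeval_monomial, ← Algebra.smul_def]
      exact ((show Commute g x from hg).pow_right k).smul_right a
  rw [← hT, Matrix.mulVec_mulVec, hc.eq, ← Matrix.mulVec_mulVec, ← hP, Matrix.mulVec_mulVec,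
    Matrix.mulVec_mulVec, ← map_mul, ← map_mul, mul_comm]

/-- Multiples of `c` act through the value at `1`. -/
lemma aeval_c_mul (R : K[X]) : aeval x (c * R) = R.eval 1 • aeval x c := by
  obtain ⟨S, hS⟩ : X - C 1 ∣ R - C (R.eval 1) := X_sub_C_dvd_sub_C_eval
  have : c * R = R.eval 1 • c + (X - C 1) * c * S := by
    rw [smul_eq_C_mul]; linear_combination c * hS
  rw [this, map_add, map_smul, map_mul _ ((X - C 1) * c) S, D.annihil, zero_mul, add_zero]

/-- An element of determinant one commuting with `x` whose fourth power is trivial is scalar. -/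
lemma scalar_of_pow_four (hK : Fintype.card K = 9) {h : (Matrix (Fin 4) (Fin 4) K)} (hh : h * x = x * h) (h4 : h ^ 4 = 1)
    (hdet : h.det = 1) : ∃ a : K, h = a • (1 : (Matrix (Fin 4) (Fin 4) K)) := by
  classical
  obtain ⟨P, rfl⟩ := D.exists_poly_of_commute hh
  obtain ⟨i, hi⟩ : IsSquare (-1 : K) := by rw [FiniteField.isSquare_neg_one_iff, hK]; decide
  have hfac : P ^ 4 - 1 = (P - C 1) * (P - C (-1)) * ((P - C i) * (P - C (-i))) := by
    have e : (C i : K[X]) * C i = -1 := by rw [← C_mul, ← hi, C_neg, C_1]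
    simp only [map_one, C_neg]
    linear_combination (P ^ 2 - 1) * e
  have hdv : (X - C 1) * c ∣ P ^ 4 - 1 := D.dvd_of_aeval (by simp [h4])
  have hc : c ∣ P ^ 4 - 1 := (dvd_mul_left _ _).trans hdv
  rw [hfac] at hc
  have hp : Prime c := D.irred.prime
  obtain ⟨a, ⟨R, hR⟩, ha0⟩ : ∃ a : K, c ∣ P - C a ∧ a ^ 4 = 1 := by
    rcases hp.dvd_or_dvd hc with h1 | h1 <;> rcases hp.dvd_or_dvd h1 with h2 | h2
    · exact ⟨1, h2, one_pow 4⟩
    · exact ⟨-1, h2, by norm_num⟩
    · exact ⟨i, h2, by linear_combination (-(i * i - 1)) * hi⟩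
    · exact ⟨-i, h2, by linear_combination (-(i * i - 1)) * hi⟩
  set s := R.eval 1
  have hform : aeval x P = a • (1 : (Matrix (Fin 4) (Fin 4) K)) + s • aeval x c := by
    rw [← D.aeval_c_mul, ← hR, map_sub, aeval_C, Algebra.algebraMap_eq_smul_one, add_sub_cancel]
  -- rank one
  set u := aeval x c *ᵥ v
  have hu0 : u ≠ 0 := fun h => D.irred.ne_zero (D.cyclic c (by rw [D.deg]; omega) h)
  have hrk : ∀ j, ∃ t : K, aeval x c *ᵥ Pi.single j 1 = t • u := by
    intro j
    obtain ⟨T, hT⟩ := D.exists_basis (Pi.single j 1)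
    refine ⟨T.eval 1, ?_⟩
    rw [← hT, Matrix.mulVec_mulVec, ← map_mul, D.aeval_c_mul, Matrix.smul_mulVec]
  choose w hw using hrk
  have hvw : aeval x c = Matrix.vecMulVec u w := by
    refine Matrix.ext_of_mulVec_single fun j => ?_
    rw [hw, Matrix.vecMulVec_mulVec]
    ext k; simp [mul_comm]
  have hwu : w ⬝ᵥ u = c.eval 1 := by
    have h1 : aeval x c *ᵥ u = c.eval 1 • u := by
      simp only [u]; rw [Matrix.mulVec_mulVec, ← map_mul, D.aeval_c_mul, Matrix.smul_mulVec]
    rw [hvw, Matrix.vecMulVec_mulVec, op_smul_eq_smul] at h1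
    have h2 : (w ⬝ᵥ u - c.eval 1) • u = 0 := by rw [sub_smul, h1, sub_self]
    exact sub_eq_zero.1 ((smul_eq_zero.1 h2).resolve_right hu0)
  have ha : a ≠ 0 := by rintro rfl; simp at ha0
  have hd : (aeval x P).det = a ^ 4 * (1 + s / a * c.eval 1) := by
    have e : aeval x P = a • (1 + Matrix.vecMulVec ((s / a) • u) w) := by
      rw [hform, hvw, smul_add, Matrix.smul_vecMulVec, smul_smul, mul_div_cancel₀ s ha]
    rw [e, Matrix.det_smul, Matrix.vecMulVec_eq Unit, Matrix.det_one_add_replicateCol_mul_replicateRow,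
      dotProduct_smul, hwu]
    simp
  rw [hdet, ha0, one_mul, eq_comm, add_eq_left, mul_eq_zero, or_iff_left (eval_one_ne c D.irred D.deg),
    div_eq_zero_iff, or_iff_left ha] at hd
  exact ⟨a, by rw [hform, hd, zero_smul, add_zero]⟩

lemma aeval_pow_twentyseven (hK : Fintype.card K = 9) (P : K[X]) :
    (aeval x P) ^ 27 = aeval (x ^ 6) (P.map (H3.conjQ (q := 3) (F := K) (by rw [hK]; rfl))) := by
  haveI := charP_three hK
  haveI : Fact (Nat.Prime 3) := ⟨Nat.prime_three⟩
  haveI : CharP (Matrix (Fin 4) (Fin 4) K) 3 := inferInstance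
  induction P using Polynomial.induction_on' with
  | add p q hp hq =>
    rw [map_add, show (27 : ℕ) = 3 ^ 3 by rfl, add_pow_char_pow_of_commute, show (3 : ℕ) ^ 3 = 27 by rfl, hp,
      hq, Polynomial.map_add, map_add]
    exact (Commute.all p q).map (aeval x)
  | monomial k a =>
    rw [map_monomial, aeval_monomial, aeval_monomial, H3.conjQ_apply,
      (show Commute _ _ from Algebra.commutes a (x ^ k)).mul_pow, ← map_pow, ← pow_mul, ← pow_mul]
    congr 1
    · congr 1
      calc a ^ 27 = (a ^ 9) ^ 3 := by ring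
        _ = a ^ 3 := by rw [pow_nine hK]
    · calc x ^ (k * 27) = (x ^ 7) ^ (3 * k) * x ^ (6 * k) := by rw [← pow_mul, ← pow_add]; congr 1; ring
        _ = x ^ (6 * k) := by rw [D.pow7, one_pow, one_mul]

/-- A unitary matrix commuting with a unitary `x` satisfies `g ^ 28 = 1`. -/
lemma pow_twentyeight (hK : Fintype.card K = 9)
    (hx : xᵀ * x.map (fun a => a ^ 3) = 1) {g : (Matrix (Fin 4) (Fin 4) K)} (hg : g * x = x * g)
    (hgu : gᵀ * g.map (fun a => a ^ 3) = 1) : g ^ 28 = 1 := by
  set σ : K →+* K := H3.conjQ (q := 3) (F := K) (by rw [hK]; rfl) with hσ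
  obtain ⟨P, rfl⟩ := D.exists_poly_of_commute hg
  have hm : ∀ M : (Matrix (Fin 4) (Fin 4) K), M.map (fun a => a ^ 3) = σ.mapMatrix M := fun M => rfl
  rw [hm] at hx hgu
  have hσx : σ.mapMatrix x = (x ^ 6)ᵀ := by
    have h1 : xᵀ * (x ^ 6)ᵀ = 1 := by
      rw [← Matrix.transpose_mul, ← pow_succ, D.pow7, Matrix.transpose_one]
    calc σ.mapMatrix x = ((x ^ 6)ᵀ * xᵀ) * σ.mapMatrix x := by rw [mul_eq_one_comm.1 h1, one_mul]
      _ = (x ^ 6)ᵀ := by rw [mul_assoc, hx, mul_one]
  have hσg : σ.mapMatrix (aeval x P) = ((aeval x P) ^ 27)ᵀ := by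
    rw [D.aeval_pow_twentyseven hK, ← hσ]
    clear hgu hg
    induction P using Polynomial.induction_on' with
    | add p q hp hq => simp only [map_add, Polynomial.map_add, Matrix.transpose_add, hp, hq]
    | monomial k a =>
      rw [map_monomial, aeval_monomial, aeval_monomial, ← Algebra.smul_def, ← Algebra.smul_def,
        Matrix.transpose_smul, Matrix.transpose_pow, ← hσx, ← map_pow]
      ext r s
      simp
  rw [hσg, ← Matrix.transpose_mul, ← pow_succ, Matrix.transpose_eq_one] at hgu
  exact hgu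

/-- No invertible matrix conjugates `x` to its inverse. -/
lemma no_inversion (hK : Fintype.card K = 9) {g : (Matrix (Fin 4) (Fin 4) K)} (hgu : IsUnit g) (hg : g * x = x ^ 6 * g) : False := by
  classical
  have hsemi : ∀ Q : K[X], g * aeval x Q = aeval (x ^ 6) Q * g := by
    intro Q
    induction Q using Polynomial.induction_on' with
    | add p q hp hq => rw [map_add, map_add, mul_add, add_mul, hp, hq]
    | monomial k a =>
      rw [aeval_monomial, aeval_monomial, ← mul_assoc, ← Algebra.commutes a g, mul_assoc, mul_assoc]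
      exact congrArg _ ((show SemiconjBy g x (x ^ 6) from hg).pow_right k).eq
  have h0 : aeval (x ^ 6) ((X - C 1) * c) = 0 := by
    have := hsemi ((X - C 1) * c)
    rw [D.annihil, mul_zero] at this
    exact hgu.mul_left_eq_zero.1 this.symm
  have hdv : c ∣ ((X - C 1) * c).comp (X ^ 6) := by
    refine (dvd_mul_left _ _).trans (D.dvd_of_aeval ?_)
    rw [aeval_comp, map_pow, aeval_X]; exact h0
  have h7 : c ∣ X ^ 7 - 1 := (dvd_mul_left _ _).trans (D.dvd_of_aeval (by simp [D.pow7]))
  haveI : Fact (Irreducible c) := ⟨D.irred⟩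
  set α := AdjoinRoot.root c
  have hα0 : aeval α c = 0 := by rw [AdjoinRoot.aeval_eq, AdjoinRoot.mk_self]
  have hdv0 : ∀ Q : K[X], c ∣ Q → aeval α Q = 0 := by
    rintro Q ⟨k, rfl⟩; rw [map_mul, hα0, zero_mul]
  have hα7 : α ^ 7 = 1 := by simpa [sub_eq_zero] using hdv0 _ h7
  have hα1 : α ≠ 1 := by
    intro h
    rw [h, ← map_one (algebraMap K (AdjoinRoot c)), aeval_algebraMap_apply,
      map_eq_zero_iff _ (algebraMap K (AdjoinRoot c)).injective] at hα0
    exact eval_one_ne c D.irred D.deg hα0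
  have hord : orderOf α = 7 := haveI : Fact (Nat.Prime 7) := ⟨by norm_num⟩; orderOf_eq_prime hα7 hα1
  have hne : ∀ a b : ℕ, a < 7 → b < 7 → a ≠ b → α ^ a ≠ α ^ b := fun a b ha hb hab h =>
    hab (pow_injOn_Iio_orderOf (by rw [Set.mem_Iio, hord]; exact ha) (by rw [Set.mem_Iio, hord]; exact hb) h)
  have hfrob : ∀ β : AdjoinRoot c, aeval β c = 0 → aeval (β ^ 9) c = 0 := by
    intro β hβ
    have := Polynomial.aeval_algHom_apply (FiniteField.frobeniusAlgHom K (AdjoinRoot c)) β c
    rw [hβ, map_zero] at this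
    simpa [FiniteField.coe_frobeniusAlgHom, hK] using this
  have h2 : aeval (α ^ 2) c = 0 := by
    have := hfrob α hα0
    rwa [show α ^ 9 = α ^ 7 * α ^ 2 by ring, hα7, one_mul] at this
  have h4 : aeval (α ^ 4) c = 0 := by
    have := hfrob _ h2
    rwa [show (α ^ 2) ^ 9 = (α ^ 7) ^ 2 * α ^ 4 by ring, hα7, one_pow, one_mul] at this
  have h6 : aeval (α ^ 6) c = 0 := by
    have := hdv0 _ hdv
    rw [aeval_comp, map_pow, aeval_X, map_mul, mul_eq_zero] at this
    refine this.resolve_left ?_
    rw [map_sub, aeval_X, aeval_C, map_one, sub_eq_zero, ← pow_zero α]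
    exact hne 6 0 (by omega) (by omega) (by omega)
  set S : Finset (AdjoinRoot c) := {α ^ 1, α ^ 2, α ^ 4, α ^ 6}
  have hS : S.card = 4 := by
    rw [Finset.card_insert_of_notMem, Finset.card_insert_of_notMem, Finset.card_pair]
    · exact hne 4 6 (by omega) (by omega) (by omega)
    · simp only [Finset.mem_insert, Finset.mem_singleton, not_or]
      exact ⟨hne 2 4 (by omega) (by omega) (by omega), hne 2 6 (by omega) (by omega) (by omega)⟩
    · simp only [Finset.mem_insert, Finset.mem_singleton, not_or]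
      exact ⟨hne 1 2 (by omega) (by omega) (by omega), hne 1 4 (by omega) (by omega) (by omega),
        hne 1 6 (by omega) (by omega) (by omega)⟩
  have hsub : S.val ⊆ (c.map (algebraMap K (AdjoinRoot c))).roots := by
    intro β hβ
    rw [mem_roots_map D.irred.ne_zero, ← aeval_def]
    have : β ∈ S := hβ
    simp only [S, Finset.mem_insert, Finset.mem_singleton] at this
    rcases this with rfl | rfl | rfl | rfl
    · rw [pow_one]; exact hα0
    · exact h2
    · exact h4
    · exact h6
  have := (Multiset.card_le_card ((Multiset.le_iff_subset S.nodup).2 hsub)).trans (card_roots' _)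
  rw [natDegree_map, D.deg, Finset.card_val, hS] at this
  omega

end SevenData

end Cfsg.Agent.H36
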